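import Cfsg.Prelude.Def_ConjugacyFunctors
import Cfsg.Agent.PLocal.Cores

/-!
Conjugates of subgroups (written `g *• T` for `g T g⁻¹`), Sylow subgroups of subgroups
(`IsSylowIn`), extremal subgroups, and the basic API of conjugacy functors.
-/

set_option autoImplicit false

namespace CfsgLib.ConjFunctor

open Cfsg Subgroup

/-- `g *• T` is the conjugate `g T g⁻¹`. -/
scoped notation:73 g:73 " *• " T:74 => Subgroup.map (MulEquiv.toMonoidHom (MulAut.conj g)) T

variable {G : Type*} [Group G] {p : ℕ}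

theorem mem_cj {g x : G} {T : Subgroup G} : x ∈ g *• T ↔ g⁻¹ * x * g ∈ T := by
  constructor
  · rintro ⟨y, hy, rfl⟩
    simpa [mul_assoc] using hy
  · intro h
    exact ⟨g⁻¹ * x * g, h, by simp [mul_assoc]⟩

theorem conj_mem_cj {x : G} {T : Subgroup G} (g : G) (hx : x ∈ T) : g * x * g⁻¹ ∈ g *• T :=
  ⟨x, hx, rfl⟩

theorem cj_le_iff {g : G} {T U : Subgroup G} : g *• T ≤ U ↔ ∀ x ∈ T, g * x * g⁻¹ ∈ U :=
  ⟨fun h _ hx => h (conj_mem_cj g hx), fun h _ ⟨y, hy, hyx⟩ => hyx ▸ h y hy⟩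

theorem cj_one (T : Subgroup G) : (1 : G) *• T = T := by
  ext x; simp

theorem cj_cj (a b : G) (T : Subgroup G) : a *• (b *• T) = (a * b) *• T := by
  ext x; simp [mul_assoc]

theorem cj_inv_cj (a : G) (T : Subgroup G) : a⁻¹ *• (a *• T) = T := by
  rw [cj_cj, inv_mul_cancel, cj_one]

theorem cj_cj_inv (a : G) (T : Subgroup G) : a *• (a⁻¹ *• T) = T := by
  rw [cj_cj, mul_inv_cancel, cj_one]

theorem cj_mono (g : G) {T U : Subgroup G} (h : T ≤ U) : g *• T ≤ g *• U :=
  map_mono h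

theorem cj_le_cj_iff {g : G} {T U : Subgroup G} : g *• T ≤ g *• U ↔ T ≤ U :=
  ⟨fun h => by have := cj_mono g⁻¹ h; rwa [cj_inv_cj, cj_inv_cj] at this, cj_mono g⟩

theorem cj_eq_bot_iff {g : G} {T : Subgroup G} : g *• T = ⊥ ↔ T = ⊥ :=
  map_eq_bot_iff_of_injective _ (MulAut.conj g).injective

theorem card_cj (g : G) (T : Subgroup G) : Nat.card ↥(g *• T) = Nat.card T :=
  card_map_of_injective (MulAut.conj g).injective

theorem isPGroup_cj {T : Subgroup G} (g : G) (h : IsPGroup p T) : IsPGroup p ↥(g *• T) :=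
  h.map _

theorem relIndex_cj (g : G) (T U : Subgroup G) : (g *• T).relIndex (g *• U) = T.relIndex U :=
  relIndex_map_map_of_injective _ _ (MulAut.conj g).injective

theorem normalizer_cj (g : G) (T : Subgroup G) :
    Subgroup.normalizer ((g *• T : Subgroup G) : Set G) = g *• Subgroup.normalizer (T : Set G) :=
  (map_equiv_normalizer_eq T (MulAut.conj g)).symm

theorem mem_normalizer_iff_cj {g : G} {T : Subgroup G} :
    g ∈ Subgroup.normalizer (T : Set G) ↔ g *• T = T :=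
  mem_normalizer_iff_map_conj_eq

theorem cj_eq_of_mem_normalizer {g : G} {T : Subgroup G} (h : g ∈ Subgroup.normalizer (T : Set G)) :
    g *• T = T :=
  mem_normalizer_iff_cj.mp h

theorem cj_self_of_mem {g : G} {T : Subgroup G} (h : g ∈ T) : g *• T = T :=
  cj_eq_of_mem_normalizer (le_normalizer h)

theorem mem_normalizer_of_cj_le [Finite G] {g : G} {T : Subgroup G} (h : g *• T ≤ T) :
    g ∈ Subgroup.normalizer (T : Set G) :=
  mem_normalizer_iff_cj.mpr (eq_of_le_of_card_ge h (card_cj g T).ge)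

theorem cj_inf (g : G) (T U : Subgroup G) : g *• (T ⊓ U) = g *• T ⊓ g *• U :=
  map_inf _ _ _ (MulAut.conj g).injective

theorem mem_normalizer_of_forall_conj_mem [Finite G] {g : G} {T : Subgroup G}
    (h : ∀ x ∈ T, g * x * g⁻¹ ∈ T) : g ∈ Subgroup.normalizer (T : Set G) :=
  mem_normalizer_of_cj_le (cj_le_iff.mpr h)

theorem centralizer_le_normalizer' (T : Subgroup G) :
    Subgroup.centralizer (T : Set G) ≤ Subgroup.normalizer (T : Set G) :=
  centralizer_le_normalizer _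

/-! ### Sylow subgroups of subgroups -/

/-- `T` is a Sylow `p`-subgroup of the subgroup `H`. -/
def IsSylowIn (p : ℕ) (T H : Subgroup G) : Prop :=
  T ≤ H ∧ IsPGroup p T ∧ ¬ p ∣ T.relIndex H

namespace IsSylowIn

variable {T T' H K : Subgroup G}

theorem le (h : IsSylowIn p T H) : T ≤ H := h.1

theorem isPGroup (h : IsSylowIn p T H) : IsPGroup p T := h.2.1

theorem not_dvd (h : IsSylowIn p T H) : ¬ p ∣ T.relIndex H := h.2.2

theorem cj (h : IsSylowIn p T H) (g : G) : IsSylowIn p (g *• T) (g *• H) :=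
  ⟨cj_mono g h.1, isPGroup_cj g h.2.1, by rw [relIndex_cj]; exact h.2.2⟩

theorem of_le (h : IsSylowIn p T H) (hTK : T ≤ K) (hKH : K ≤ H) : IsSylowIn p T K :=
  ⟨hTK, h.2.1, fun hd => h.2.2 (by
    rw [← relIndex_mul_relIndex T K H hTK hKH]; exact hd.mul_right _)⟩

variable [Finite G] [Fact p.Prime]

/-- Any `p`-subgroup of `H` is conjugate in `H` into a Sylow subgroup of `H`. -/
theorem exists_cj_le (h : IsSylowIn p T H) {A : Subgroup G} (hA : A ≤ H) (hAp : IsPGroup p A) :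
    ∃ a ∈ H, a *• A ≤ T := by
  have hidx : ¬ p ∣ (T.subgroupOf H).index := h.2.2
  let P : Sylow p H := (h.2.1.comap_subtype (K := H)).toSylow hidx
  obtain ⟨Q, hQ⟩ := (hAp.comap_subtype (K := H)).exists_le_sylow
  obtain ⟨a, ha⟩ := MulAction.exists_smul_eq H Q P
  refine ⟨a, a.2, cj_le_iff.mpr fun x hx => ?_⟩
  have h1 : (MulAut.conj a) ⟨x, hA hx⟩ ∈ ((a • Q : Sylow p H) : Subgroup H) := by
    rw [Sylow.coe_subgroup_smul]
    exact smul_mem_pointwise_smul _ (MulAut.conj a) (Q : Subgroup H) (hQ (show (⟨x, hA hx⟩ : H) ∈ _ from hx))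
  rw [ha] at h1
  exact h1

theorem eq_of_le (h : IsSylowIn p T H) {A : Subgroup G} (hTA : T ≤ A) (hA : A ≤ H)
    (hAp : IsPGroup p A) : A = T := by
  obtain ⟨a, -, ha⟩ := h.exists_cj_le hA hAp
  refine (eq_of_le_of_card_ge hTA ?_).symm
  rw [← card_cj a A]
  exact Nat.le_of_dvd Nat.card_pos (card_dvd_of_le ha)

theorem exists_cj_eq (h : IsSylowIn p T H) (h' : IsSylowIn p T' H) : ∃ a ∈ H, a *• T' = T := by
  obtain ⟨a, haH, ha⟩ := h.exists_cj_le h'.1 h'.2.1
  refine ⟨a, haH, (eq_of_le_of_card_ge ha ?_)⟩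
  obtain ⟨b, hbH, hb⟩ := h'.exists_cj_le h.1 h.2.1
  rw [card_cj, ← card_cj b T]
  exact Nat.le_of_dvd Nat.card_pos (card_dvd_of_le hb)

theorem card_eq (h : IsSylowIn p T H) (h' : IsSylowIn p T' H) : Nat.card T = Nat.card T' := by
  obtain ⟨a, -, ha⟩ := h.exists_cj_eq h'
  rw [← ha, card_cj]

theorem ne_bot_of_le (h : IsSylowIn p T H) {A : Subgroup G} (hA : A ≤ H) (hAp : IsPGroup p A)
    (hne : A ≠ ⊥) : T ≠ ⊥ := by
  obtain ⟨a, -, ha⟩ := h.exists_cj_le hA hAp
  intro hT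
  rw [hT, le_bot_iff, cj_eq_bot_iff] at ha
  exact hne ha

end IsSylowIn

theorem exists_isSylowIn_ge [Finite G] [Fact p.Prime] {A H : Subgroup G} (hA : A ≤ H)
    (hAp : IsPGroup p A) : ∃ T, A ≤ T ∧ IsSylowIn p T H := by
  obtain ⟨Q, hQ⟩ := (hAp.comap_subtype (K := H)).exists_le_sylow
  refine ⟨(Q : Subgroup H).map H.subtype, fun x hx => ⟨⟨x, hA hx⟩, hQ (show (⟨x, hA hx⟩ : H) ∈ _ from hx), rfl⟩,
    map_subtype_le _, Q.2.map _, ?_⟩
  rw [Subgroup.relIndex, subgroupOf, comap_map_eq_self_of_injective H.subtype_injective]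
  exact Q.not_dvd_index

namespace IsSylowIn

/-- A Sylow subgroup of `H` meets a subgroup of `H` normalised by `H` in a Sylow subgroup. -/
theorem inf_of_normal [Finite G] [Fact p.Prime] {T H : Subgroup G} (h : IsSylowIn p T H)
    {N : Subgroup G} (hN : N ≤ H) (hn : H ≤ Subgroup.normalizer (N : Set G)) :
    IsSylowIn p (T ⊓ N) N := by
  obtain ⟨P, hP, hPS⟩ := exists_isSylowIn_ge (inf_le_right : T ⊓ N ≤ N) h.2.1.to_inf_left
  obtain ⟨a, haH, ha⟩ := h.exists_cj_le (hPS.1.trans hN) hPS.2.1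
  have h2 : a *• P ≤ T ⊓ N :=
    le_inf ha ((cj_mono a hPS.1).trans (cj_eq_of_mem_normalizer (hn haH)).le)
  rw [eq_of_le_of_card_ge hP (by
    rw [← card_cj a P]; exact Nat.le_of_dvd Nat.card_pos (card_dvd_of_le h2))]
  exact hPS

end IsSylowIn

theorem isSylowIn_top [Finite G] [Fact p.Prime] (S : Sylow p G) :
    IsSylowIn p (S : Subgroup G) ⊤ :=
  ⟨le_top, S.2, by rw [relIndex_top_right]; exact S.not_dvd_index⟩

/-- The Sylow subgroup of `G` given by `IsSylowIn p T ⊤`. -/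
noncomputable def IsSylowIn.toSylowTop [Fact p.Prime] {T : Subgroup G} (h : IsSylowIn p T ⊤) :
    Sylow p G :=
  h.2.1.toSylow (by rw [← relIndex_top_right]; exact h.2.2)

/-! ### Extremal subgroups -/

/-- `T` is extremal in `S`: `N_S(T)` has index prime to `p` in `N_G(T)`. -/
def Extremal (p : ℕ) (S T : Subgroup G) : Prop :=
  ¬ p ∣ (S ⊓ Subgroup.normalizer (T : Set G)).relIndex (Subgroup.normalizer (T : Set G))

theorem extremal_iff {S T : Subgroup G} (hS : IsPGroup p S) :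
    Extremal p S T ↔ IsSylowIn p (S ⊓ Subgroup.normalizer (T : Set G))
      (Subgroup.normalizer (T : Set G)) :=
  ⟨fun h => ⟨inf_le_right, hS.to_inf_left, h⟩, fun h => h.2.2⟩

variable [Finite G] [Fact p.Prime] {S : Subgroup G}

/-- Every subgroup of a Sylow subgroup has an extremal conjugate, by an element carrying its
normalizer in the Sylow subgroup into the Sylow subgroup. -/
theorem exists_extremal_conj (hS : IsSylowIn p S ⊤) {T : Subgroup G} (hT : T ≤ S) :
    ∃ a : G, a *• T ≤ S ∧ Extremal p S (a *• T) ∧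
      a *• (S ⊓ Subgroup.normalizer (T : Set G)) ≤ S := by
  obtain ⟨P, hP, hPS⟩ := exists_isSylowIn_ge
    (inf_le_right : S ⊓ Subgroup.normalizer (T : Set G) ≤ _) (hS.2.1.to_inf_left)
  obtain ⟨a, -, ha⟩ := hS.exists_cj_le le_top hPS.2.1
  have h1 : a *• (S ⊓ Subgroup.normalizer (T : Set G)) ≤ S := (cj_mono a hP).trans ha
  refine ⟨a, (cj_mono a (le_inf hT le_normalizer)).trans h1, ?_, h1⟩
  have hSy : IsSylowIn p (a *• P) (Subgroup.normalizer ((a *• T : Subgroup G) : Set G)) := by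
    rw [normalizer_cj]; exact hPS.cj a
  have heq : S ⊓ Subgroup.normalizer ((a *• T : Subgroup G) : Set G) = a *• P :=
    hSy.eq_of_le (le_inf ha hSy.1) inf_le_right (hS.2.1.to_inf_left)
  rw [Extremal, heq]
  exact hSy.2.2

/-- If `U` is extremal and `T` is a conjugate of `U`, some conjugation carries `T` to `U` and
`N_S(T)` into `N_S(U)`. -/
theorem exists_conj_to_extremal (hS : IsPGroup p S) {T U : Subgroup G} (hU : Extremal p S U)
    (h : ∃ g : G, g *• T = U) :
    ∃ a : G, a *• T = U ∧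
      a *• (S ⊓ Subgroup.normalizer (T : Set G)) ≤ S ⊓ Subgroup.normalizer (U : Set G) := by
  obtain ⟨g, hg⟩ := h
  have hle : g *• (S ⊓ Subgroup.normalizer (T : Set G)) ≤ Subgroup.normalizer (U : Set G) := by
    rw [← hg, normalizer_cj]; exact cj_mono g inf_le_right
  obtain ⟨b, hb, hb'⟩ := ((extremal_iff hS).mp hU).exists_cj_le hle
    (isPGroup_cj g (hS.to_inf_left))
  refine ⟨b * g, ?_, ?_⟩
  · rw [← cj_cj, hg, cj_eq_of_mem_normalizer hb]
  · rw [← cj_cj]; exact hb'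

omit [Fact p.Prime] in
/-- In a `p`-group a proper subgroup is properly contained in its normalizer. -/
theorem lt_inf_normalizer [Fact p.Prime] (hS : IsPGroup p S) {T : Subgroup G} (hT : T < S) :
    T < S ⊓ Subgroup.normalizer (T : Set G) := by
  have : Group.IsNilpotent S := hS.isNilpotent
  have hlt : T.subgroupOf S < ⊤ := by
    rw [lt_top_iff_ne_top]
    exact fun h => hT.not_ge (subgroupOf_eq_top.mp h)
  obtain ⟨x, hx, hxT⟩ := SetLike.exists_of_lt (Group.normalizerCondition_of_isNilpotent _ hlt)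
  refine lt_of_le_of_ne (le_inf hT.le le_normalizer) fun heq => hxT ?_
  show (x : G) ∈ T
  rw [heq]
  refine ⟨x.2, mem_normalizer_of_forall_conj_mem fun y hy => ?_⟩
  exact (mem_normalizer_iff.mp hx ⟨y, hT.le hy⟩).mp hy

end CfsgLib.ConjFunctor
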