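import Cfsg.Agent.ConjFunctor.Main

/-! Convenient forms of the main induction theorems. -/

set_option autoImplicit false

universe u

namespace CfsgLib.ConjFunctor

open Cfsg Subgroup
open scoped commutatorElement

variable {p : ℕ} [Fact p.Prime] {𝓦 : Set (∀ (Q : Type u) [Group Q], Subgroup Q)}

/-- The `O_p` transfer condition. -/
def CoreTransfer (p : ℕ) (𝓦 : Set (∀ (Q : Type u) [Group Q], Subgroup Q)) (Y : Type u) [Group Y] :
    Prop :=
  ∀ S : Subgroup Y, IsSylowIn p S ⊤ →
    pCore p Y ⊓ commutator Y ≤ transferGen (indFam 𝓦 Y) ⊤ S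

theorem coreTransfer_of_equiv (h𝓦 : ∀ W ∈ 𝓦, IsCharPFunctor.{u} p W) (Y Z : Type u) [Group Y]
    [Group Z] [Finite Y] [Finite Z] (e : Y ≃* Z) (h : CoreTransfer p 𝓦 Y) :
    CoreTransfer p 𝓦 Z := by
  intro S hS
  have hback := isSylowIn_map hS e.symm.toMonoidHom e.symm.surjective
  have he : (S.map e.symm.toMonoidHom).map e.toMonoidHom = S := by
    rw [Subgroup.map_map]
    simp
  have h1 := (Subgroup.map_mono (f := e.toMonoidHom) (h _ hback)).trans
    (map_transferGen_induced_le h𝓦 e.toMonoidHom hback.2.1 e.injective.injOn ⊤)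
  rwa [map_inf _ _ _ e.injective, PLocal.map_pCore_equiv, commutator_def, map_commutator,
    map_top_of_surjective e.toMonoidHom e.surjective, ← commutator_def, he] at h1

/-- Strong fusion in every section from the constrained sections. -/
theorem familyFusion_section (h𝓦 : ∀ W ∈ 𝓦, IsCharPFunctor.{u} p W) {G : Type u} [Group G]
    [Finite G]
    (hloc : ∀ (K R : Subgroup G) [hR : (R.subgroupOf K).Normal],
      IsConstrained p (↥K ⧸ R.subgroupOf K) →
        FamilyControlsStrongFusionIn p (indFam 𝓦 (↥K ⧸ R.subgroupOf K)) ⊤)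
    (Y : Type u) [Group Y] [Finite Y] (hY : Involves Y G) :
    FamilyControlsStrongFusionIn p (indFam 𝓦 Y) ⊤ :=
  familyFusion_of_constrained h𝓦 Y fun Z _ _ hZ hc =>
    of_sections (P := fun Y [Group Y] => FamilyControlsStrongFusionIn p (indFam 𝓦 Y) ⊤)
      (fun Y Z _ _ _ _ e h => familyControlsStrongFusionIn_of_equiv h𝓦 e h) hloc Z
      (involves_trans hY hZ) hc

/-- Transfer in every section from the constrained sections. -/
theorem familyTransfer_section (h𝓦 : ∀ W ∈ 𝓦, IsCharPFunctor.{u} p W) {G : Type u} [Group G]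
    [Finite G]
    (hloc : ∀ (K R : Subgroup G) [hR : (R.subgroupOf K).Normal],
      IsConstrained p (↥K ⧸ R.subgroupOf K) → CoreTransfer p 𝓦 (↥K ⧸ R.subgroupOf K))
    (Y : Type u) [Group Y] [Finite Y] (hY : Involves Y G) :
    FamilyControlsTransferIn p (indFam 𝓦 Y) ⊤ :=
  familyTransfer_of_constrained h𝓦 Y fun Z _ _ hZ hc =>
    of_sections (P := fun Y [Group Y] => CoreTransfer p 𝓦 Y)
      (coreTransfer_of_equiv h𝓦) hloc Z (involves_trans hY hZ) hc

section
variable {G : Type*} [Group G] [Finite G]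

/-- A factorization `G = AB` with both factors containing `S` controls strong fusion. -/
theorem fusControls_of_factor {S A B : Subgroup G} (hS : IsSylowIn p S ⊤) (hA : S ≤ A) (hB : S ≤ B)
    (h : ∀ x : G, ∃ a ∈ A, ∃ b ∈ B, x = a * b) : FusControls {A, B} S ⊤ := by
  intro X g _ hX hgX
  obtain ⟨a, ha, b, hb, rfl⟩ := h g
  have hSI : IsSylowIn p S (A ⊓ B) := hS.of_le (le_inf hA hB) le_top
  have hbX : cjSet b X ⊆ ((A ⊓ B : Subgroup G) : Set G) := by
    rintro _ ⟨x, hx, rfl⟩
    refine Subgroup.mem_inf.mpr ⟨?_, B.mul_mem (B.mul_mem hb (hB (hX hx))) (B.inv_mem hb)⟩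
    have := A.mul_mem (A.mul_mem (A.inv_mem ha) (hA (hgX ⟨x, hx, rfl⟩))) ha
    simpa [mul_assoc] using this
  have hp0 : IsPGroup p ↥(Subgroup.closure (cjSet b X)) := by
    refine (isPGroup_cj b hS.2.1).to_le ((Subgroup.closure_le _).mpr ?_)
    rw [← cjSet_coe]
    exact cjSet_mono b hX
  obtain ⟨d, ⟨hdA, hdB⟩, hd⟩ := hSI.exists_cj_le ((Subgroup.closure_le _).mpr hbX) hp0
  have h1 : ∀ x ∈ X, (d * b) * x * (d * b)⁻¹ ∈ S := by
    intro x hx
    simpa [mul_assoc] using hd (conj_mem_cj d (Subgroup.subset_closure ⟨x, hx, rfl⟩))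
  refine .step hX (Set.mem_insert_of_mem _ rfl) (B.mul_mem hdB hb) h1 ?_
  rw [show a * b * (d * b)⁻¹ = a * d⁻¹ by simp [mul_assoc]]
  refine Fus.single (cjSet_subset_iff.mpr h1) (Set.mem_insert _ _) (A.mul_mem ha (A.inv_mem hdA)) ?_
  rintro _ ⟨x, hx, rfl⟩
  simpa [mul_assoc] using hgX ⟨x, hx, rfl⟩

/-- `ControlsStrongFusion` from control by a singleton family. -/
theorem controlsStrongFusion_of_family {W : Subgroup G → Subgroup G}
    (hW : IsConjugacyFunctor p W) (h : FamilyControlsStrongFusionIn p {W} ⊤) (T : Sylow p G) :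
    ControlsStrongFusion p (W (T : Subgroup G)) := by
  have hc := fusControls_of_family (by simpa using hW) h (isSylowIn_top T)
  refine ⟨T, functor_le hW T.2, fun A hA => ⟨hA, fun g hgA => ?_⟩⟩
  obtain ⟨x, hx, hxA⟩ := (famIn_singleton W ⊤ (T : Subgroup G) ▸ hc A g trivial hA hgA).exists_mem_of_singleton
  exact ⟨x, hx.2, fun a ha => (hxA a ha).symm⟩

end

end CfsgLib.ConjFunctor
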