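import Cfsg.Agent.ConjFunctor.Constrained
import Cfsg.Agent.PLocal.Constraint

/-!
The main induction theorems: control of strong fusion and of transfer by a set of
isomorphism-invariant functors follows from its validity in `p`-constrained sections.
-/

set_option autoImplicit false

universe u

namespace CfsgLib.ConjFunctor

open Cfsg Subgroup
open scoped commutatorElement

variable {p : ℕ} [Fact p.Prime] {𝓦 : Set (∀ (Q : Type u) [Group Q], Subgroup Q)}

omit [Fact p.Prime] in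
theorem isConstrained_of_equiv {G H : Type*} [Group G] [Group H] (e : G ≃* H)
    (h : IsConstrained p G) : IsConstrained p H := by
  intro y hy
  obtain ⟨x, rfl⟩ := e.surjective y
  rw [← PLocal.map_pCore_equiv e] at hy ⊢
  refine ⟨x, h (Subgroup.mem_centralizer_iff.mpr fun q hq => e.injective ?_), rfl⟩
  simpa using Subgroup.mem_centralizer_iff.mp hy (e q) ⟨q, hq, rfl⟩

section
variable {X : Type u} [Group X] [Finite X]

theorem nrm_map_mk'_le_map (h𝓦 : ∀ W ∈ 𝓦, IsCharPFunctor.{u} p W) {K : Subgroup X} [K.Normal]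
    (hK : (Nat.card K).Coprime p) {S : Subgroup X} (hS : IsPGroup p S) :
    ∀ M ∈ famIn (indFam 𝓦 (X ⧸ K)) ⊤ (S.map (QuotientGroup.mk' K)),
      ∃ M' ∈ Subgroup.map (QuotientGroup.mk' K) '' famIn (indFam 𝓦 X) ⊤ S, M ≤ M' := by
  rintro _ ⟨_, ⟨W, hW, rfl⟩, rfl⟩
  refine ⟨_, ⟨_, ⟨_, ⟨W, hW, rfl⟩, rfl⟩, rfl⟩, ?_⟩
  dsimp only
  have hinj : Set.InjOn (QuotientGroup.mk' K) S := by
    intro a ha b hb hab
    have : a⁻¹ * b ∈ S ⊓ K :=
      Subgroup.mem_inf.mpr ⟨S.mul_mem (S.inv_mem ha) hb, (QuotientGroup.eq).mp hab⟩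
    rwa [PLocal.disjoint_of_isPGroup_of_coprime hS hK, mem_bot, inv_mul_eq_one] at this
  rw [inducedFunctor_map (h𝓦 W hW) _ hS hinj, top_inf_eq, top_inf_eq,
    PLocal.normalizer_map_mk'_eq K hK (hS.to_le (inducedFunctor_le S))]

theorem le_of_mem_famIn (h𝓦 : ∀ W ∈ 𝓦, IsCharPFunctor.{u} p W) {S : Subgroup X}
    (hS : IsPGroup p S) : ∀ M ∈ famIn (indFam 𝓦 X) ⊤ S, S ≤ M := by
  rintro _ ⟨_, ⟨W, hW, rfl⟩, rfl⟩
  exact le_inf le_top (le_normalizer_functor (isConjugacyFunctor_induced (h𝓦 W hW)) hS)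

theorem dSub_eq_of_le_pCore {S : Subgroup X} (hS : IsSylowIn p S ⊤) (h : S ≤ pCore p X) :
    dSub p S = pCore p X :=
  le_antisymm (inf_le_left.trans h) (le_inf (pCore_le_isSylowIn hS) le_sup_left)

theorem not_sylow_le_pCore {S : Subgroup X} (hS : IsSylowIn p S ⊤) (hK : pPrimeCore p X = ⊥)
    (hnc : ¬ IsConstrained p X) : ¬ S ≤ pCore p X := fun h =>
  normalizer_dSub_ne_top hS hK hnc (by rw [dSub_eq_of_le_pCore hS h, normalizer_eq_top (H := pCore p X)])

/-- Preimages of normalisers of functor values in `X/O_p(X)` are proper. -/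
theorem comap_normalizer_ne_top {S : Subgroup X} (h : ¬ S ≤ pCore p X) (hS : IsPGroup p S)
    {W : ∀ (Q : Type u) [Group Q], Subgroup Q} (hW : IsCharPFunctor.{u} p W) :
    (Subgroup.normalizer ((inducedFunctor (G := X ⧸ pCore p X) W
      (S.map (QuotientGroup.mk' (pCore p X))) : Subgroup _) : Set (X ⧸ pCore p X))).comap
      (QuotientGroup.mk' (pCore p X)) ≠ ⊤ := by
  intro htop
  replace htop := congrArg (Subgroup.map (QuotientGroup.mk' (pCore p X))) htop
  rw [map_comap_eq_self_of_surjective (QuotientGroup.mk'_surjective _),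
    map_top_of_surjective _ (QuotientGroup.mk'_surjective _), normalizer_eq_top_iff] at htop
  have hp := (hS.map (QuotientGroup.mk' (pCore p X))).to_le (inducedFunctor_le (W := W) _)
  have h1 := PLocal.le_pCore (hN := htop) hp
  rw [PLocal.pCore_quotient_pCore_eq_bot, le_bot_iff] at h1
  by_cases hb : S.map (QuotientGroup.mk' (pCore p X)) = ⊥
  · rw [Subgroup.map_eq_bot_iff, QuotientGroup.ker_mk'] at hb
    exact h hb
  · exact functor_ne_bot (isConjugacyFunctor_induced hW) (hS.map _) hb h1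

/-- The fusion step: a minimal counterexample is constrained. -/
theorem familyFusion_step (h𝓦 : ∀ W ∈ 𝓦, IsCharPFunctor.{u} p W)
    (hsub : ∀ H : Subgroup X, H ≠ ⊤ → FamilyControlsStrongFusionIn p (indFam 𝓦 ↥H) ⊤)
    (hquot : ∀ (N : Subgroup X) [N.Normal], N ≠ ⊥ →
      FamilyControlsStrongFusionIn p (indFam 𝓦 (X ⧸ N)) ⊤)
    (hcon : IsConstrained p X → FamilyControlsStrongFusionIn p (indFam 𝓦 X) ⊤) :
    FamilyControlsStrongFusionIn p (indFam 𝓦 X) ⊤ := by
  by_cases hc : IsConstrained p X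
  · exact hcon hc
  have h𝓦X := isConjugacyFunctor_induced_image (G := X) h𝓦
  obtain ⟨S, -, hS⟩ := exists_isSylowIn_ge (A := (⊥ : Subgroup X)) (H := ⊤) (p := p) bot_le IsPGroup.of_bot
  refine familyControlsStrongFusionIn_iff.mpr ⟨S, hS, ?_⟩
  have hprop : ∀ H : Subgroup X, H ≠ ⊤ → S ≤ H →
      FusControls (famIn (indFam 𝓦 X) ⊤ S) S H := fun H hH hSH =>
    (fusControls_of_subgroup h𝓦 (hS.of_le hSH le_top) (hsub H hH)).mono (famIn_le_top _ _ _)
  by_cases hQ : pCore p X = ⊥
  · refine familyControls_of_local hS h𝓦X fun T hT hne hext => ?_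
    have hN : Subgroup.normalizer (T : Set X) ≠ ⊤ := fun h => hne (by
      have : T.Normal := normalizer_eq_top_iff.mp h
      exact le_bot_iff.mp (hQ ▸ PLocal.le_pCore (hS.2.1.to_le hT)))
    exact familyControlsStrongFusionIn_iff.mpr ⟨_, (extremal_iff hS.2.1).mp hext,
      fusControls_of_subgroup h𝓦 ((extremal_iff hS.2.1).mp hext) (hsub _ hN)⟩
  by_cases hK : pPrimeCore p X = ⊥
  swap
  · have hKc := PLocal.coprime_card_pPrimeCore p X
    refine fusControls_of_quotient_disjoint hS (inf_pPrimeCore_eq_bot hS) (le_of_mem_famIn h𝓦 hS.2.1) ?_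
    exact (fusControls_of_family (isConjugacyFunctor_induced_image h𝓦) (hquot _ hK)
      (isSylowIn_map hS _ (QuotientGroup.mk'_surjective _))).mono (nrm_map_mk'_le_map h𝓦 hKc hS.2.1)
  have hD := normalizer_dSub_ne_top hS hK hc
  by_cases hCS : Subgroup.centralizer (pCore p X : Set X) ⊔ S = ⊤
  swap
  · refine (fusControls_pair hS).bind ?_
    rintro H (rfl | rfl)
    · exact hprop _ hCS le_sup_right
    · exact hprop _ hD le_normalizer_dSub
  have hSQ := not_sylow_le_pCore hS hK hc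
  let f := QuotientGroup.mk' (pCore p X)
  have hinner : FusControls (famIn (indFam 𝓦 X) ⊤ S) S S :=
    hprop S (fun h => hD (eq_top_iff.mpr (h.ge.trans le_normalizer_dSub))) le_rfl
  have hq := fusControls_of_family (isConjugacyFunctor_induced_image h𝓦) (hquot _ hQ)
    (isSylowIn_map hS f (QuotientGroup.mk'_surjective _))
  let Ms : Set (Subgroup X) :=
    Subgroup.comap f '' famIn (indFam 𝓦 (X ⧸ pCore p X)) ⊤ (S.map f)
  have hMs : ∀ M ∈ Ms, S ≤ M ∧ M ≠ ⊤ := by
    rintro _ ⟨_, ⟨_, ⟨W, hW, rfl⟩, rfl⟩, rfl⟩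
    dsimp only
    rw [top_inf_eq]
    exact ⟨map_le_iff_le_comap.mp
      (le_normalizer_functor (isConjugacyFunctor_induced (h𝓦 W hW)) (hS.2.1.map f)),
      comap_normalizer_ne_top hSQ hS.2.1 (h𝓦 W hW)⟩
  have hall : FusControls (famIn (indFam 𝓦 X) ⊤ S ∪ Ms) S ⊤ := by
    refine fusControls_of_quotient_pCore hS hCS
      (hinner.mono fun M hM => ⟨M, Or.inl hM, le_rfl⟩) (hq.mono fun M hM => ?_)
    exact ⟨_, ⟨_, Or.inr ⟨M, hM, rfl⟩, rfl⟩,
      (map_comap_eq_self_of_surjective (QuotientGroup.mk'_surjective _) M).ge⟩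
  refine hall.bind ?_
  rintro H (hH | hH)
  · exact fun A g hg hA hgA => Fus.single hA hH hg (cjSet_subset_iff.mp hgA)
  · exact hprop H (hMs H hH).2 (hMs H hH).1

/-- Transfer of the `O_p` condition to the whole Sylow subgroup. -/
theorem transfer_quotient_pCore (h𝓦 : ∀ W ∈ 𝓦, IsCharPFunctor.{u} p W) {S : Subgroup X}
    (hS : IsSylowIn p S ⊤)
    (hsub : ∀ H : Subgroup X, H ≠ ⊤ → FamilyControlsTransferIn p (indFam 𝓦 ↥H) ⊤)
    (hquot : FamilyControlsTransferIn p (indFam 𝓦 (X ⧸ pCore p X)) ⊤)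
    (hQR : pCore p X ⊓ commutator X ≤ transferGen (indFam 𝓦 X) ⊤ S) :
    S ⊓ commutator X ≤ transferGen (indFam 𝓦 X) ⊤ S := by
  have hQS : pCore p X ≤ S := pCore_le_isSylowIn hS
  by_cases hSQ : S ≤ pCore p X
  · exact (inf_le_inf_right _ hSQ).trans hQR
  let f := QuotientGroup.mk' (pCore p X)
  let R := transferGen (indFam 𝓦 X) ⊤ S
  have hq := inf_commutator_le_transferGen (isConjugacyFunctor_induced_image h𝓦) hquot
    (isSylowIn_map hS f (QuotientGroup.mk'_surjective _))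
  have hle : transferGen (indFam 𝓦 (X ⧸ pCore p X)) ⊤ (S.map f) ≤ R.map f := by
    refine iSup₂_le ?_
    rintro _ ⟨W, hW, rfl⟩
    dsimp only
    rw [top_inf_eq]
    let N := Subgroup.normalizer
      (inducedFunctor (G := X ⧸ pCore p X) W (S.map f) : Set (X ⧸ pCore p X))
    have hSM : S ≤ N.comap f := map_le_iff_le_comap.mp
      (le_normalizer_functor (isConjugacyFunctor_induced (h𝓦 W hW)) (hS.2.1.map f))
    have hM := (inf_commutator_le_of_subgroup h𝓦 (hS.of_le hSM le_top)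
      (hsub _ (comap_normalizer_ne_top hSQ hS.2.1 (h𝓦 W hW))))
    have hM' : S ⊓ ⁅N.comap f, N.comap f⁆ ≤ R := hM.trans (iSup₂_le fun V hV =>
      le_trans (inf_le_inf_left _ (commutator_mono (inf_le_inf_right _ le_top)
        (inf_le_inf_right _ le_top))) (le_iSup₂ (f := fun V (_ : V ∈ indFam 𝓦 X) => S ⊓
          ⁅(⊤ : Subgroup X) ⊓ Subgroup.normalizer (V S : Set X),
            (⊤ : Subgroup X) ⊓ Subgroup.normalizer (V S : Set X)⁆) V hV))
    rintro _ ⟨⟨t, ht, rfl⟩, hN⟩
    have hN' : f t ∈ ⁅N, N⁆ := hN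
    rw [show N = (N.comap f).map f from
      (map_comap_eq_self_of_surjective (QuotientGroup.mk'_surjective _) N).symm,
      ← map_commutator] at hN'
    obtain ⟨m, hm, hmt⟩ := hN'
    have hq1 : m⁻¹ * t ∈ pCore p X := QuotientGroup.eq.mp hmt
    have hmS : m ∈ S := by simpa using S.mul_mem ht (S.inv_mem (hQS hq1))
    exact ⟨m, hM' ⟨hmS, hm⟩, hmt⟩
  rintro s ⟨hs, hs'⟩
  have hfs : f s ∈ R.map f := hle (hq ⟨⟨s, hs, rfl⟩, by
    rw [← map_top_of_surjective f (QuotientGroup.mk'_surjective _), ← map_commutator]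
    exact ⟨s, hs', rfl⟩⟩)
  obtain ⟨r, hr, hrs⟩ := hfs
  have hr' : r ∈ commutator X := (transferGen_le _ _ _ hr).2
  have hmem : r⁻¹ * s ∈ pCore p X ⊓ commutator X :=
    Subgroup.mem_inf.mpr ⟨QuotientGroup.eq.mp hrs, (commutator X).mul_mem ((commutator X).inv_mem hr') hs'⟩
  simpa [R] using R.mul_mem hr (hQR hmem)

/-- The transfer step: a minimal counterexample is constrained and fails at `O_p`. -/
theorem familyTransfer_step (h𝓦 : ∀ W ∈ 𝓦, IsCharPFunctor.{u} p W)
    (hsub : ∀ H : Subgroup X, H ≠ ⊤ → FamilyControlsTransferIn p (indFam 𝓦 ↥H) ⊤)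
    (hquot : ∀ (N : Subgroup X) [N.Normal], N ≠ ⊥ →
      FamilyControlsTransferIn p (indFam 𝓦 (X ⧸ N)) ⊤)
    (hcon : IsConstrained p X → ∀ S : Subgroup X, IsSylowIn p S ⊤ →
      pCore p X ⊓ commutator X ≤ transferGen (indFam 𝓦 X) ⊤ S)
    {S : Subgroup X} (hS : IsSylowIn p S ⊤) :
    S ⊓ commutator X ≤ transferGen (indFam 𝓦 X) ⊤ S := by
  have h𝓦X := isConjugacyFunctor_induced_image (G := X) h𝓦
  have htop : ∀ H : Subgroup X, transferGen (indFam 𝓦 X) H S ≤ transferGen (indFam 𝓦 X) ⊤ S :=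
    fun H => iSup₂_mono fun W _ => inf_le_inf_left _
      (commutator_mono (inf_le_inf_right _ le_top) (inf_le_inf_right _ le_top))
  have hprop : ∀ H : Subgroup X, H ≠ ⊤ → S ≤ H →
      S ⊓ ⁅H, H⁆ ≤ transferGen (indFam 𝓦 X) ⊤ S := fun H hH hSH =>
    (inf_commutator_le_of_subgroup h𝓦 (hS.of_le hSH le_top) (hsub H hH)).trans (htop H)
  by_cases hQ : pCore p X = ⊥
  · refine familyTransfer_of_local hS h𝓦X fun T hT hne hext => ?_
    have hN : Subgroup.normalizer (T : Set X) ≠ ⊤ := fun h => hne (by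
      have : T.Normal := normalizer_eq_top_iff.mp h
      exact le_bot_iff.mp (hQ ▸ PLocal.le_pCore (hS.2.1.to_le hT)))
    exact familyControlsTransferIn_iff.mpr ⟨_, (extremal_iff hS.2.1).mp hext,
      inf_commutator_le_of_subgroup h𝓦 ((extremal_iff hS.2.1).mp hext) (hsub _ hN)⟩
  by_cases hc : IsConstrained p X
  · exact transfer_quotient_pCore h𝓦 hS hsub (hquot _ hQ) (hcon hc S hS)
  by_cases hK : pPrimeCore p X = ⊥
  swap
  · have hKc := PLocal.coprime_card_pPrimeCore p X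
    let K := pPrimeCore p X
    let f := QuotientGroup.mk' K
    let R := transferGen (indFam 𝓦 X) ⊤ S
    have hq := inf_commutator_le_transferGen (isConjugacyFunctor_induced_image h𝓦) (hquot _ hK)
      (isSylowIn_map hS f (QuotientGroup.mk'_surjective _))
    have hle : transferGen (indFam 𝓦 (X ⧸ K)) ⊤ (S.map f) ≤ R.map f := by
      refine iSup₂_le fun V hV => ?_
      obtain ⟨_, ⟨M, hM, rfl⟩, hNM⟩ := nrm_map_mk'_le_map h𝓦 hKc hS.2.1
        ((⊤ : Subgroup (X ⧸ K)) ⊓ Subgroup.normalizer (V (S.map f) : Set (X ⧸ K))) ⟨V, hV, rfl⟩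
      obtain ⟨U, hU, rfl⟩ := hM
      refine (inf_le_inf_left _ (commutator_mono hNM hNM)).trans ?_
      rw [← map_commutator]
      rintro _ ⟨⟨t, ht, rfl⟩, m, hm, hmt⟩
      let N : Subgroup X := (⊤ : Subgroup X) ⊓ Subgroup.normalizer (U S : Set X)
      have hSN : S ≤ N := le_inf le_top (le_normalizer_functor (h𝓦X U hU) hS.2.1)
      have hmN : m ∈ N := commutator_le_self N hm
      let k : X := m⁻¹ * t
      have hk : k ∈ K := QuotientGroup.eq.mp hmt
      have hkN : k ∈ N := N.mul_mem (N.inv_mem hmN) (hSN ht)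
      have htN : t ∈ ⁅N, N⁆ := by
        have : (⁅N, N⁆.subgroupOf N).Normal := by
          rw [← map_subtype_commutator, subgroupOf, comap_map_eq_self_of_injective N.subtype_injective]
          infer_instance
        let g := QuotientGroup.mk' (⁅N, N⁆.subgroupOf N)
        have e : g ⟨t, hSN ht⟩ = g ⟨k, hkN⟩ := by
          rw [show (⟨t, hSN ht⟩ : N) = ⟨m, hmN⟩ * ⟨k, hkN⟩ from Subtype.ext (by simp [k]),
            map_mul, show g ⟨m, hmN⟩ = 1 from (QuotientGroup.eq_one_iff _).mpr (mem_subgroupOf.mpr hm),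
            one_mul]
        obtain ⟨i, hi⟩ := IsPGroup.iff_orderOf.mp hS.2.1 ⟨t, ht⟩
        rw [← orderOf_injective S.subtype S.subtype_injective] at hi
        have h1 : orderOf (g ⟨t, hSN ht⟩) ∣ p ^ i := by
          rw [← hi]
          exact (orderOf_map_dvd g _).trans
            (dvd_of_eq (orderOf_injective N.subtype N.subtype_injective ⟨t, hSN ht⟩).symm)
        have h2 : orderOf (g ⟨t, hSN ht⟩) ∣ Nat.card K := by
          rw [e]
          refine (orderOf_map_dvd g _).trans ?_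
          rw [← orderOf_injective N.subtype N.subtype_injective]
          exact orderOf_dvd_natCard K hk
        have h3 := Nat.eq_one_of_dvd_coprimes (Nat.Coprime.pow_left i hKc.symm) h1 h2
        rw [orderOf_eq_one_iff] at h3
        exact mem_subgroupOf.mp ((QuotientGroup.eq_one_iff _).mp h3)
      exact ⟨t, le_iSup₂ (f := fun V (_ : V ∈ indFam 𝓦 X) => S ⊓
        ⁅(⊤ : Subgroup X) ⊓ Subgroup.normalizer (V S : Set X),
          (⊤ : Subgroup X) ⊓ Subgroup.normalizer (V S : Set X)⁆) U hU ⟨ht, htN⟩, rfl⟩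
    rintro s ⟨hs, hs'⟩
    obtain ⟨r, hr, hrs⟩ := hle (hq ⟨⟨s, hs, rfl⟩, by
      rw [← map_top_of_surjective f (QuotientGroup.mk'_surjective _), ← map_commutator]
      exact ⟨s, hs', rfl⟩⟩)
    have h1 : r⁻¹ * s ∈ S ⊓ K := Subgroup.mem_inf.mpr
      ⟨S.mul_mem (S.inv_mem (transferGen_le _ _ _ hr).1) hs, QuotientGroup.eq.mp hrs⟩
    rw [inf_pPrimeCore_eq_bot hS, mem_bot, inv_mul_eq_one] at h1
    exact h1 ▸ hr
  have hD := normalizer_dSub_ne_top hS hK hc
  by_cases hCS : Subgroup.centralizer (pCore p X : Set X) ⊔ S = ⊤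
  swap
  · refine inf_commutator_le_of_fusControls hS (fusControls_pair hS) ?_
    rintro H (rfl | rfl)
    · exact ⟨le_sup_right, hprop _ hCS le_sup_right⟩
    · exact ⟨le_normalizer_dSub, hprop _ hD le_normalizer_dSub⟩
  refine transfer_quotient_pCore h𝓦 hS hsub (hquot _ hQ) ?_
  have hQS := pCore_le_isSylowIn hS
  have hSS : ⁅S, S⁆ ≤ transferGen (indFam 𝓦 X) ⊤ S := by
    have := hprop S (fun h => hD (eq_top_iff.mpr (h.ge.trans le_normalizer_dSub))) le_rfl
    rwa [inf_of_le_right (commutator_le_self S)] at this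
  rintro x ⟨hx, hx'⟩
  refine mem_of_transfer hS hSS (hQS hx) hx' fun k g _ => hSS ?_
  obtain ⟨c, hc', s, hs, rfl⟩ := exists_decomp_of_sup_eq_top hCS g
  have hxk : x ^ k ∈ pCore p X := pow_mem hx k
  have hsx : s * x ^ k * s⁻¹ ∈ pCore p X := Subgroup.Normal.conj_mem inferInstance _ hxk s
  have e : c * s * x ^ k * (c * s)⁻¹ = s * x ^ k * s⁻¹ := by
    calc c * s * x ^ k * (c * s)⁻¹ = c * (s * x ^ k * s⁻¹) * c⁻¹ := by group
      _ = s * x ^ k * s⁻¹ := by rw [← Subgroup.mem_centralizer_iff.mp hc' _ hsx, mul_inv_cancel_right]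
  rw [e]
  have := commutator_mem_commutator (S.inv_mem (hQS hxk)) hs
  simpa [commutatorElement_def, mul_assoc] using this

end

/-- The inductive hypothesis on all sections. -/
theorem familyFusion_of_constrained (h𝓦 : ∀ W ∈ 𝓦, IsCharPFunctor.{u} p W) :
    ∀ (X : Type u) [Group X] [Finite X],
      (∀ (Y : Type u) [Group Y] [Finite Y], Involves Y X → IsConstrained p Y →
        FamilyControlsStrongFusionIn p (indFam 𝓦 Y) ⊤) →
      FamilyControlsStrongFusionIn p (indFam 𝓦 X) ⊤ := by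
  suffices H : ∀ (n : ℕ) (X : Type u) [Group X] [Finite X], Nat.card X = n →
      (∀ (Y : Type u) [Group Y] [Finite Y], Involves Y X → IsConstrained p Y →
        FamilyControlsStrongFusionIn p (indFam 𝓦 Y) ⊤) →
      FamilyControlsStrongFusionIn p (indFam 𝓦 X) ⊤ from fun X _ _ h => H _ X rfl h
  intro n
  induction n using Nat.strongRecOn with
  | ind n ih =>
  intro X _ _ hX h
  refine familyFusion_step h𝓦 (fun K hK => ?_) (fun N _ hN => ?_) (h X (involves_equiv (MulEquiv.refl X)))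
  · exact ih _ (by
      have := Subgroup.card_mul_index K
      have h2 : K.index ≠ 1 := fun h => hK (index_eq_one.mp h)
      have h3 : 0 < Nat.card K := Nat.card_pos
      have h4 : K.index ≠ 0 := FiniteIndex.index_ne_zero
      nlinarith [Nat.one_lt_iff_ne_zero_and_ne_one.mpr ⟨h4, h2⟩]) K rfl
      fun Y _ _ hY => h Y (involves_trans (involves_subgroup K) hY)
  · exact ih _ (by
      have := Subgroup.card_mul_index N
      have h2 : Nat.card N ≠ 1 := fun h => hN (card_eq_one.mp h)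
      have h3 : 0 < Nat.card N := Nat.card_pos
      have h4 : N.index ≠ 0 := FiniteIndex.index_ne_zero
      show N.index < n
      nlinarith [show 1 < Nat.card N by omega, Nat.pos_of_ne_zero h4]) (X ⧸ N) rfl
      fun Y _ _ hY => h Y (involves_trans (involves_quotient N) hY)

theorem familyTransfer_of_constrained (h𝓦 : ∀ W ∈ 𝓦, IsCharPFunctor.{u} p W) :
    ∀ (X : Type u) [Group X] [Finite X],
      (∀ (Y : Type u) [Group Y] [Finite Y], Involves Y X → IsConstrained p Y →
        ∀ S : Subgroup Y, IsSylowIn p S ⊤ →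
          pCore p Y ⊓ commutator Y ≤ transferGen (indFam 𝓦 Y) ⊤ S) →
      FamilyControlsTransferIn p (indFam 𝓦 X) ⊤ := by
  suffices H : ∀ (n : ℕ) (X : Type u) [Group X] [Finite X], Nat.card X = n →
      (∀ (Y : Type u) [Group Y] [Finite Y], Involves Y X → IsConstrained p Y →
        ∀ S : Subgroup Y, IsSylowIn p S ⊤ →
          pCore p Y ⊓ commutator Y ≤ transferGen (indFam 𝓦 Y) ⊤ S) →
      FamilyControlsTransferIn p (indFam 𝓦 X) ⊤ from fun X _ _ h => H _ X rfl h
  intro n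
  induction n using Nat.strongRecOn with
  | ind n ih =>
  intro X _ _ hX h
  obtain ⟨S, -, hS⟩ := exists_isSylowIn_ge (A := (⊥ : Subgroup X)) (H := ⊤) (p := p) bot_le IsPGroup.of_bot
  refine familyControlsTransferIn_iff.mpr ⟨S, hS, ?_⟩
  refine familyTransfer_step h𝓦 (fun K hK => ?_) (fun N _ hN => ?_) (h X (involves_equiv (MulEquiv.refl X))) hS
  · exact ih _ (by
      have := Subgroup.card_mul_index K
      have h2 : K.index ≠ 1 := fun h => hK (index_eq_one.mp h)
      have h3 : 0 < Nat.card K := Nat.card_pos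
      have h4 : K.index ≠ 0 := FiniteIndex.index_ne_zero
      nlinarith [Nat.one_lt_iff_ne_zero_and_ne_one.mpr ⟨h4, h2⟩]) K rfl
      fun Y _ _ hY => h Y (involves_trans (involves_subgroup K) hY)
  · exact ih _ (by
      have := Subgroup.card_mul_index N
      have h2 : Nat.card N ≠ 1 := fun h => hN (card_eq_one.mp h)
      have h3 : 0 < Nat.card N := Nat.card_pos
      have h4 : N.index ≠ 0 := FiniteIndex.index_ne_zero
      show N.index < n
      nlinarith [show 1 < Nat.card N by omega, Nat.pos_of_ne_zero h4]) (X ⧸ N) rfl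
      fun Y _ _ hY => h Y (involves_trans (involves_quotient N) hY)

/-- From hypotheses on the sections `K/R` to hypotheses on all involved groups. -/
theorem of_sections {X : Type u} [Group X] [Finite X] {P : ∀ (Y : Type u) [Group Y], Prop}
    (hP : ∀ (Y Z : Type u) [Group Y] [Group Z] [Finite Y] [Finite Z], Y ≃* Z → P Y → P Z)
    (h : ∀ (K R : Subgroup X) [hR : (R.subgroupOf K).Normal],
      IsConstrained p (↥K ⧸ R.subgroupOf K) → P (↥K ⧸ R.subgroupOf K)) :
    ∀ (Y : Type u) [Group Y] [Finite Y], Involves Y X → IsConstrained p Y → P Y := by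
  intro Y _ _ hY hc
  obtain ⟨K, R, hR, ⟨e⟩⟩ := hY
  exact hP _ _ e (h K R (isConstrained_of_equiv e.symm hc))

end CfsgLib.ConjFunctor
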