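import Cfsg.Agent.ConjFunctor.ClassTwoModule
import Cfsg.Agent.WeakClosed.Transvection
import Cfsg.Agent.Coprime.Generation
import Cfsg.Agent.Solvable.Fitting
import Cfsg.Agent.PLocal.Thompson
import Cfsg.Agent.PLocal.PSolvable
import Cfsg.Agent.PLocal.Stability
import Cfsg.Agent.ConjFunctor.Basic

/-!
Solvable groups with a Sylow `2`-subgroup of class at most two, `S₄` not involved: the Thompson
subgroup lies in `O₂`.
-/

set_option autoImplicit false

namespace CfsgLib.ConjFunctor

open Cfsg Subgroup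
open scoped commutatorElement IsMulCommutative

/-- An elementary abelian `2`-group acting on a group of odd order, not trivially: a subgroup of
index 2 centralises an element of prime order inverted by the rest. -/
theorem exists_inverted_fixed {Y : Type*} [Group Y] [Finite Y] {E R : Subgroup Y}
    (hE : IsElementaryAbelian 2 E) (hER : E ≤ Subgroup.normalizer (R : Set Y))
    (hodd : ¬ 2 ∣ Nat.card R) (hne : ¬ R ≤ Subgroup.centralizer (E : Set Y)) :
    ∃ (B : Subgroup Y) (a k : Y) (r : ℕ), B ≤ E ∧ a ∈ E ∧ a ∉ B ∧ (∀ x ∈ E, x ∈ B ∨ a * x ∈ B) ∧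
      k ∈ R ∧ r.Prime ∧ r ≠ 2 ∧ orderOf k = r ∧ a * k * a⁻¹ = k⁻¹ ∧ ∀ b ∈ B, b * k = k * b := by
  classical
  have hcomm : ∀ x ∈ E, ∀ y ∈ E, x * y = y * x := fun x hx y hy =>
    congrArg Subtype.val (hE.1.is_comm.comm (⟨x, hx⟩ : E) ⟨y, hy⟩)
  have hsq : ∀ x ∈ E, x * x = 1 := fun x hx => by rw [← sq]; exact hE.2 x hx
  obtain ⟨B, ⟨hBE, hB⟩, hmax⟩ := Set.exists_max_image
    {B : Subgroup Y | B ≤ E ∧ ¬ R ⊓ Subgroup.centralizer (B : Set Y) ≤ Subgroup.centralizer (E : Set Y)}
    (fun B => Nat.card B) (Set.toFinite _) ⟨⊥, bot_le, fun h => hne fun x hx => h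
      (Subgroup.mem_inf.mpr ⟨hx, Subgroup.mem_centralizer_iff.mpr fun y hy => by
        rw [Subgroup.mem_bot.mp hy, one_mul, mul_one]⟩)⟩
  obtain ⟨f, hf, hfE⟩ := SetLike.not_le_iff_exists.mp hB
  obtain ⟨a, ha, haB⟩ : ∃ a ∈ E, a ∉ B := by
    by_contra h
    push Not at h
    exact hfE (Subgroup.mem_centralizer_iff.mpr fun x hx =>
      Subgroup.mem_centralizer_iff.mp hf.2 x (h x hx))
  have hup : ∀ u ∈ E, u ∉ B → R ⊓ Subgroup.centralizer (B : Set Y) ⊓ Subgroup.centralizer ({u} : Set Y) ≤
      Subgroup.centralizer (E : Set Y) := by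
    intro u hu huB
    by_contra h
    have hle : B ⊔ zpowers u ≤ E := sup_le hBE (zpowers_le.mpr hu)
    have h2 : ¬ R ⊓ Subgroup.centralizer ((B ⊔ zpowers u : Subgroup Y) : Set Y) ≤
        Subgroup.centralizer (E : Set Y) := fun h' => h fun x hx => h' (Subgroup.mem_inf.mpr
      ⟨(Subgroup.mem_inf.mp (Subgroup.mem_inf.mp hx).1).1, Subgroup.mem_centralizer_iff.mpr fun y hy => by
        have hle' : B ⊔ zpowers u ≤ Subgroup.centralizer ({x} : Set Y) := sup_le
          (fun b hb => Subgroup.mem_centralizer_singleton_iff.mpr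
            (Subgroup.mem_centralizer_iff.mp (Subgroup.mem_inf.mp (Subgroup.mem_inf.mp hx).1).2 b hb))
          (zpowers_le.mpr (Subgroup.mem_centralizer_singleton_iff.mpr
            (Subgroup.mem_centralizer_singleton_iff.mp (Subgroup.mem_inf.mp hx).2).symm))
        exact Subgroup.mem_centralizer_singleton_iff.mp (hle' hy)⟩)
    have h3 := hmax _ ⟨hle, h2⟩
    have h4 : B = B ⊔ zpowers u := Subgroup.eq_of_le_of_card_ge le_sup_left h3
    exact huB (h4 ▸ mem_sup_right (mem_zpowers u))
  have hindex : ∀ x ∈ E, x ∈ B ∨ a * x ∈ B := by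
    intro c hc
    by_contra hno
    push Not at hno
    obtain ⟨hcB, hacB⟩ := hno
    let A4 : Subgroup Y :=
      { carrier := {y | y = 1 ∨ y = a ∨ y = c ∨ y = a * c}
        one_mem' := Or.inl rfl
        mul_mem' := by
          have e1 : c * a = a * c := hcomm c hc a ha
          have e2 : a * (a * c) = c := by rw [← mul_assoc, hsq a ha, one_mul]
          have e3 : c * (a * c) = a := by rw [← mul_assoc, e1, mul_assoc, hsq c hc, mul_one]
          have e4 : a * c * a = c := by rw [mul_assoc, e1, e2]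
          have e5 : a * c * c = a := by rw [mul_assoc, hsq c hc, mul_one]
          have e6 : a * c * (a * c) = 1 := hsq _ (E.mul_mem ha hc)
          rintro x y (h | h | h | h) (h' | h' | h' | h') <;> rw [h, h'] <;>
            simp [e1, e2, e3, e4, e5, e6, hsq a ha, hsq c hc]
        inv_mem' := by
          intro x hx
          have hxE : x ∈ E := by
            rcases hx with rfl | rfl | rfl | rfl
            exacts [E.one_mem, ha, hc, E.mul_mem ha hc]
          rwa [show x⁻¹ = x from inv_eq_of_mul_eq_one_right (hsq x hxE)] }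
    have hA4E : A4 ≤ E := by
      rintro x (rfl | rfl | rfl | rfl)
      exacts [E.one_mem, ha, hc, E.mul_mem ha hc]
    have : IsMulCommutative A4 := ⟨⟨fun x y => Subtype.ext (hcomm _ (hA4E x.2) _ (hA4E y.2))⟩⟩
    have hncyc : ¬ IsCyclic A4 := by
      intro hcy
      obtain ⟨g, hg⟩ := hcy.exists_generator
      have h2 : g ^ 2 = 1 := Subtype.ext (hE.2 _ (hA4E g.2))
      have hpow : ∀ x : A4, x = 1 ∨ x = g := fun x => by
        obtain ⟨n, rfl⟩ := mem_zpowers_iff.mp (hg x)
        rcases Int.even_or_odd' n with ⟨j, rfl | rfl⟩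
        · left; rw [zpow_mul, zpow_ofNat, h2, one_zpow]
        · right; rw [zpow_add, zpow_mul, zpow_ofNat, h2, one_zpow, one_mul, zpow_one]
      have ha' : a ≠ 1 := fun h => haB (h ▸ B.one_mem)
      have hc' : c ≠ 1 := fun h => hcB (h ▸ B.one_mem)
      rcases hpow ⟨a, Or.inr (Or.inl rfl)⟩ with h | h
      · exact ha' (congrArg Subtype.val h)
      rcases hpow ⟨c, Or.inr (Or.inr (Or.inl rfl))⟩ with h' | h'
      · exact hc' (congrArg Subtype.val h')
      have hac : a = c := congrArg Subtype.val (h.trans h'.symm)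
      exact hacB (by rw [hac, hsq c hc]; exact B.one_mem)
    have hnorm : A4 ≤ Subgroup.normalizer ((R ⊓ Subgroup.centralizer (B : Set Y) : Subgroup Y) : Set Y) := by
      intro x hx
      refine mem_normalizer_of_forall_conj_mem fun y hy => ?_
      obtain ⟨hyR, hyB⟩ := Subgroup.mem_inf.mp hy
      refine Subgroup.mem_inf.mpr ⟨(Subgroup.mem_normalizer_iff.mp (hER (hA4E hx)) y).mp hyR,
        Subgroup.mem_centralizer_iff.mpr fun b hb => ?_⟩
      have h1 := Subgroup.mem_centralizer_iff.mp hyB b hb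
      have h2 := hcomm b (hBE hb) x (hA4E hx)
      have h3 : b * x⁻¹ = x⁻¹ * b := hcomm b (hBE hb) _ (E.inv_mem (hA4E hx))
      calc b * (x * y * x⁻¹) = x * (b * y) * x⁻¹ := by rw [← mul_assoc, ← mul_assoc, h2, mul_assoc x b y]
        _ = x * (y * b) * x⁻¹ := by rw [h1]
        _ = x * y * x⁻¹ * b := by rw [mul_assoc x y x⁻¹, mul_assoc x (y * x⁻¹) b, mul_assoc y x⁻¹ b, ← h3]; group
    have hcop : (Nat.card A4).Coprime (Nat.card ↥(R ⊓ Subgroup.centralizer (B : Set Y))) := by
      obtain ⟨n, hn⟩ := IsPGroup.iff_card.mp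
        (show IsPGroup 2 A4 from fun x => ⟨1, Subtype.ext (by simpa using hE.2 _ (hA4E x.2))⟩)
      rw [hn]
      exact Nat.Coprime.pow_left n ((Nat.Prime.coprime_iff_not_dvd Nat.prime_two).mpr fun h =>
        hodd (h.trans (Subgroup.card_dvd_of_le inf_le_left)))
    refine hB (Coprime.le_of_forall_inf_centralizer_le hncyc hnorm hcop fun u hu hu1 => hup u (hA4E hu) ?_)
    rcases hu with rfl | rfl | rfl | rfl
    exacts [fun _ => hu1 rfl, haB, hcB, hacB]
  obtain ⟨hfR, hfB⟩ := Subgroup.mem_inf.mp hf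
  set k0 := f⁻¹ * (a * f * a⁻¹) with hk0
  have hainv : a⁻¹ = a := inv_eq_of_mul_eq_one_right (hsq a ha)
  have hk01 : k0 ≠ 1 := fun h => hfE (Subgroup.mem_centralizer_iff.mpr fun x hx => by
    have haf : a * f = f * a := by
      have := inv_mul_eq_one.mp h
      calc a * f = a * f * a⁻¹ * a := by group
        _ = f * a := by rw [← this]
    rcases hindex x hx with h' | h'
    · exact Subgroup.mem_centralizer_iff.mp hfB x h'
    · have := Subgroup.mem_centralizer_iff.mp hfB _ h'
      calc x * f = a * (a * x * f) := by rw [← mul_assoc, ← mul_assoc, hsq a ha, one_mul]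
        _ = a * (f * (a * x)) := by rw [this]
        _ = a * f * a * x := by group
        _ = f * x := by rw [haf, mul_assoc f a a, hsq a ha, mul_one])
  have hkinv : a * k0 * a⁻¹ = k0⁻¹ := by
    rw [hk0]
    calc a * (f⁻¹ * (a * f * a⁻¹)) * a⁻¹ = a * f⁻¹ * a * f * (a * a)⁻¹ := by group
      _ = a * f⁻¹ * a * f := by rw [hsq a ha, inv_one, mul_one]
      _ = (f⁻¹ * (a * f * a⁻¹))⁻¹ := by rw [mul_inv_rev, inv_inv, mul_inv_rev, mul_inv_rev, inv_inv, hainv]; group
  have hk0R : k0 ∈ R := R.mul_mem (R.inv_mem hfR) ((Subgroup.mem_normalizer_iff.mp (hER ha) f).mp hfR)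
  have hk0B : ∀ b ∈ B, Commute b k0 := fun b hb => by
    have h1 : Commute b f := Subgroup.mem_centralizer_iff.mp hfB b hb
    have h2 : Commute b a := hcomm b (hBE hb) a ha
    exact h1.inv_right.mul_right ((h2.mul_right h1).mul_right h2.inv_right)
  obtain ⟨r, hr, hrdvd⟩ := Nat.exists_prime_and_dvd (n := orderOf k0) (fun h => hk01 (orderOf_eq_one_iff.mp h))
  refine ⟨B, a, k0 ^ (orderOf k0 / r), r, hBE, ha, haB, hindex, R.pow_mem hk0R _, hr, ?_, ?_, ?_, fun b hb => ((hk0B b hb).pow_right _).eq⟩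
  · rintro rfl
    exact hodd (hrdvd.trans (Subgroup.orderOf_dvd_natCard R hk0R))
  · exact orderOf_pow_orderOf_div (orderOf_pos k0).ne' hrdvd
  · rw [← conj_pow, hkinv, inv_pow]

variable {G : Type*} [Group G] [Finite G] {S : Sylow 2 G}

theorem maxEA_le_pCore [Group.IsSolvable G] (hS4 : ¬ Involves (Equiv.Perm (Fin 4)) G)
    (hO : pPrimeCore 2 G = ⊥) (hcl : ⁅⁅(S : Subgroup G), (S : Subgroup G)⁆, (S : Subgroup G)⁆ = ⊥)
    {A : Subgroup G} (hA : A ∈ PLocal.maxEAIn 2 (S : Subgroup G)) : A ≤ pCore 2 G := by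
  classical
  haveI : Fact (Nat.Prime 2) := ⟨Nat.prime_two⟩
  have hcon : Subgroup.centralizer (pCore 2 G : Set G) ≤ pCore 2 G :=
    PLocal.centralizer_pCore_le PLocal.isPSolvable_of_isSolvable hO
  set Q := pCore 2 G with hQ
  have hQn : Q.Normal := inferInstance
  have hQS : Q ≤ S := PLocal.pCore_le_sylow S
  set X := Q ⊓ Subgroup.centralizer (Q : Set G) with hX
  set W := omegaOne 2 X with hW
  have hXab : IsMulCommutative X := ⟨⟨fun x y => Subtype.ext
    (Subgroup.mem_centralizer_iff.mp y.2.2 x x.2.1)⟩⟩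
  have hWel : IsElementaryAbelian 2 W := PLocal.isElementaryAbelian_omegaOne hXab
  have hWQ : W ≤ Q := (PLocal.omegaOne_le 2 X).trans inf_le_left
  have hWn : W.Normal := by
    refine normalizer_eq_top_iff.mp (eq_top_iff.mpr fun g _ => mem_normalizer_iff_cj.mpr ?_)
    rw [hW, PLocal.map_omegaOne (MulAut.conj g).injective, hX, Subgroup.map_inf _ _ _ (MulAut.conj g).injective]
    congr 1
    have h1 : Q.map (MulAut.conj g).toMonoidHom = Q :=
      cj_eq_of_mem_normalizer ((normalizer_eq_top Q).ge (mem_top g))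
    rw [h1]
    congr 1
    exact cj_eq_of_mem_normalizer ((normalizer_eq_top (Subgroup.centralizer (Q : Set G))).ge (mem_top g))
  haveI := hWel.1
  have hcen : ∀ s ∈ (S : Subgroup G), ∀ t ∈ (S : Subgroup G), ∀ u ∈ (S : Subgroup G),
      u * ⁅s, t⁆ = ⁅s, t⁆ * u := fun s hs t ht u hu => by
    have h1 : ⁅⁅s, t⁆, u⁆ ∈ (⊥ : Subgroup G) :=
      hcl ▸ commutator_mem_commutator (commutator_mem_commutator hs ht) hu
    exact (commutatorElement_eq_one_iff_mul_comm.mp (Subgroup.mem_bot.mp h1)).symm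
  have hcomW : ∀ a ∈ (S : Subgroup G), a * a = 1 → ∀ q ∈ Q, ⁅a, q⁆ ∈ W := by
    intro a haS ha2 q hq
    have hqS := hQS hq
    refine PLocal.mem_omegaOne (Subgroup.mem_inf.mpr ⟨?_, Subgroup.mem_centralizer_iff.mpr fun u hu => ?_⟩) ?_
    · exact Q.mul_mem (hQn.conj_mem q hq a) (Q.inv_mem hq)
    · exact hcen a haS q hqS u (hQS hu)
    · have h1 : a * ⁅a, q⁆ * a⁻¹ = ⁅a, q⁆ := by rw [hcen a haS q hqS a haS, mul_inv_cancel_right]
      calc ⁅a, q⁆ ^ 2 = a * ⁅a, q⁆ * a⁻¹ * ⁅a, q⁆ := by rw [h1, sq]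
        _ = ⁅a * a, q⁆ := by simp only [commutatorElement_def]; group
        _ = 1 := by rw [ha2]; simp [commutatorElement_def]
  -- the quotient by `Q`
  let π := QuotientGroup.mk' Q
  set R := fittingSubgroup (G ⧸ Q)
  have hRn : R.Normal := Solvable.fittingSubgroup_normal
  have hRodd : ¬ 2 ∣ Nat.card R := by
    intro hd
    haveI : Group.IsNilpotent R := Solvable.fittingSubgroup_isNilpotent
    let P : Sylow 2 R := default
    have hPn : (P : Subgroup R).Normal :=
      P.normal_of_normalizerCondition Group.normalizerCondition_of_isNilpotent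
    haveI : (P : Subgroup R).Characteristic := P.characteristic_of_normal hPn
    haveI : ((P : Subgroup R).map R.subtype).Normal := ConjAct.normal_of_characteristic_of_normal
    have h1 := PLocal.le_pCore (P.isPGroup'.map R.subtype)
    rw [PLocal.pCore_quotient_pCore_eq_bot, le_bot_iff,
      Subgroup.map_eq_bot_iff_of_injective _ R.subtype_injective] at h1
    exact P.ne_bot_of_dvd_card hd h1
  -- the bound
  have key : ∀ (n : ℕ) (A' : Subgroup G), Nat.card A' ≤ n → A' ≤ (S : Subgroup G) →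
      IsElementaryAbelian 2 A' →
      Nat.card A' ^ 2 * Nat.card ↥(W ⊓ Subgroup.centralizer (A' : Set G)) ≤
        Nat.card W * Nat.card ↥(A' ⊓ Q) ^ 2 := by
    intro n
    induction n with
    | zero => intro A' h _ _; exact absurd h (Nat.not_le.2 Nat.card_pos)
    | succ n ih =>
    intro A' hn hA'S hA'e
    by_cases hA'Q : A' ≤ Q
    · rw [inf_eq_left.mpr hA'Q, mul_comm (Nat.card W)]
      exact Nat.mul_le_mul_left _ (Subgroup.card_le_of_le inf_le_left)
    have hEe : IsElementaryAbelian 2 (A'.map π) := PLocal.isElementaryAbelian_map hA'e π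
    have hne : ¬ R ≤ Subgroup.centralizer ((A'.map π : Subgroup (G ⧸ Q)) : Set (G ⧸ Q)) := by
      intro h
      have h1 : A'.map π ≤ R := (le_centralizer_iff.mp h).trans Solvable.centralizer_fittingSubgroup_le
      have hp : IsPGroup 2 (A'.map π) := (S.isPGroup'.to_le hA'S).map π
      have h2 : A'.map π = ⊥ := by
        obtain ⟨i, hi⟩ := IsPGroup.iff_card.mp hp
        rw [← Subgroup.card_eq_one, hi]
        rcases Nat.eq_zero_or_pos i with rfl | hpos
        · rfl
        · exact absurd ((dvd_pow_self 2 hpos.ne').trans (hi ▸ Subgroup.card_dvd_of_le h1)) hRodd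
      exact hA'Q (by rwa [Subgroup.map_eq_bot_iff, QuotientGroup.ker_mk'] at h2)
    obtain ⟨Bb, ab, kb, r, hBb, habE, habB, hidx, hkR, hr, hr2, hkr, hkinv, hkB⟩ :=
      exists_inverted_fixed hEe (by rw [normalizer_eq_top (H := R)]; exact le_top) hRodd hne
    obtain ⟨a, ha, rfl⟩ := habE
    obtain ⟨k, rfl⟩ := QuotientGroup.mk'_surjective Q kb
    set B := A' ⊓ Bb.comap π with hB
    have hBQ : B ⊓ Q = A' ⊓ Q := le_antisymm (inf_le_inf_right _ inf_le_left) fun x hx => by
      refine Subgroup.mem_inf.mpr ⟨Subgroup.mem_inf.mpr ⟨hx.1, ?_⟩, hx.2⟩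
      rw [Subgroup.mem_comap, show π x = 1 from (QuotientGroup.eq_one_iff x).mpr hx.2]
      exact Bb.one_mem
    have haB : a ∉ B := fun h => habB (Subgroup.mem_inf.mp h).2
    have hBlt : Nat.card B < Nat.card A' := (fun {B A : Subgroup G} (h : B < A) => lt_of_le_of_ne (Subgroup.card_le_of_le h.le) fun e => h.ne (Subgroup.eq_of_le_of_card_ge h.le e.ge))
      (lt_of_le_of_ne inf_le_left fun h => haB (h.symm ▸ ha))
    have hBidx : Nat.card A' ≤ 2 * Nat.card B := by
      have hmem : ∀ x ∈ A', x ∈ B ∨ a * x ∈ B := fun x hx => by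
        rcases hidx (π x) (mem_map_of_mem π hx) with h | h
        · exact Or.inl (Subgroup.mem_inf.mpr ⟨hx, h⟩)
        · exact Or.inr (Subgroup.mem_inf.mpr ⟨A'.mul_mem ha hx, by rwa [Subgroup.mem_comap, map_mul]⟩)
      let g : A' → Fin 2 × B := fun x =>
        if h : (x : G) ∈ B then (0, ⟨x, h⟩) else (1, ⟨a * x, (hmem x x.2).resolve_left h⟩)
      have hg : Function.Injective g := by
        intro u v huv
        simp only [g] at huv
        split_ifs at huv with h1 h2
        · exact Subtype.ext (congrArg (fun z : Fin 2 × B => ((z.2 : B) : G)) huv)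
        · simp at huv
        · simp at huv
        · exact Subtype.ext (mul_left_cancel (congrArg (fun z : Fin 2 × B => ((z.2 : B) : G)) huv))
      have := Nat.card_le_card_of_injective g hg
      rwa [Nat.card_prod, Nat.card_fin] at this
    have hBIH := ih B (by omega) (inf_le_left.trans hA'S) (PLocal.isElementaryAbelian_of_le hA'e inf_le_left)
    rw [hBQ] at hBIH
    -- the action on `W`
    let φ : G →* MulAut W := MulAut.conjNormal
    have hφQ : ∀ x ∈ Q, φ x = 1 := fun x hx => MulEquiv.ext fun w => Subtype.ext (by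
      rw [MulAut.conjNormal_apply]
      show x * w * x⁻¹ = w
      rw [Subgroup.mem_centralizer_iff.mp (Subgroup.mem_inf.mp ((PLocal.omegaOne_le 2 X) w.2)).2 x hx,
        mul_inv_cancel_right])
    let ψ : G ⧸ Q →* MulAut W := QuotientGroup.lift Q φ fun x hx => hφQ x hx
    have haS := hA'S ha
    have ha2 : a * a = 1 := by rw [← sq]; exact hA'e.2 a ha
    have hκ1 : φ k ≠ 1 := by
      intro h
      set a' := k * a * k⁻¹ with ha'
      set t := a * a' with ht
      have hta' : ∀ q ∈ Q, ⁅a', q⁆ ∈ W := fun q hq => by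
        have e : ⁅a', q⁆ = k * ⁅a, k⁻¹ * q * k⁆ * k⁻¹ := by
          simp only [ha', commutatorElement_def]; group
        rw [e]
        exact hWn.conj_mem _ (hcomW a haS ha2 _ (by simpa using hQn.conj_mem q hq k⁻¹)) k
      have htq : ∀ q ∈ Q, ⁅t, q⁆ ∈ W := fun q hq => by
        have e : ⁅t, q⁆ = a * ⁅a', q⁆ * a⁻¹ * ⁅a, q⁆ := by
          simp only [ht, commutatorElement_def]; group
        rw [e]
        exact W.mul_mem (hWn.conj_mem _ (hta' q hq) a) (hcomW a haS ha2 q hq)
      have hφt : φ t = 1 := by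
        rw [ht, ha', map_mul, map_mul, map_mul, map_inv, h, inv_one, one_mul, mul_one, ← map_mul, ha2, map_one]
      have ht2 : t ^ 2 ∈ Subgroup.centralizer (Q : Set G) := Subgroup.mem_centralizer_iff.mpr fun q hq => by
        set c := ⁅t, q⁆
        have hc := htq q hq
        have htc : t * c * t⁻¹ = c := by
          have := congrArg Subtype.val (DFunLike.congr_fun hφt (⟨c, hc⟩ : W))
          rwa [MulAut.conjNormal_apply] at this
        have hc2 : c * c = 1 := by
          rw [← sq]; exact hWel.2 c hc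
        have : t ^ 2 * q * (t ^ 2)⁻¹ = q := by
          calc t ^ 2 * q * (t ^ 2)⁻¹ = t * c * t⁻¹ * c * q := by
                rw [sq]; simp only [c, commutatorElement_def]; group
            _ = q := by rw [htc, hc2, one_mul]
        exact (mul_inv_eq_iff_eq_mul.mp this).symm
      have h1 : π t ^ 2 = 1 := by rw [← map_pow]; exact (QuotientGroup.eq_one_iff _).mpr (hcon ht2)
      have ha2' : π a * π a = 1 := by rw [← map_mul, ha2, map_one]
      have h2 : π t = (π k)⁻¹ * (π k)⁻¹ := by
        rw [ht, ha', map_mul, map_mul, map_mul, map_inv, ← mul_assoc, ← mul_assoc]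
        have hainv : (π a)⁻¹ = π a := inv_eq_of_mul_eq_one_right ha2'
        rw [show π a * π k * π a = (π k)⁻¹ by nth_rw 2 [← hainv]; exact hkinv]
      rw [h2] at h1
      have h4 : π k ^ 4 = 1 := by
        rw [← inv_eq_one, ← h1]; group
      have := orderOf_dvd_of_pow_eq_one h4
      rw [hkr] at this
      exact hr2 ((Nat.prime_dvd_prime_iff_eq hr Nat.prime_two).mp (hr.dvd_of_dvd_pow (show r ∣ 2 ^ 2 from this)))
    have hψ : ∀ x, ψ (π x) = φ x := fun x => rfl
    have hκr : φ k ^ r = 1 := by rw [← hψ, ← map_pow, ← hkr, pow_orderOf_eq_one, map_one]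
    have hαinv : φ a * φ k * (φ a)⁻¹ = (φ k)⁻¹ := by
      rw [← hψ a, ← hψ k, ← map_inv, ← map_mul, ← map_mul, hkinv, map_inv]
    have hαα : φ a * φ a = 1 := by rw [← map_mul, ha2, map_one]
    -- `r = 3` gives a section `S₄`
    have hr3 : r ≠ 3 := by
      intro hr3
      subst hr3
      refine hS4 (Cfsg.Agent.S2759.sufficiency W (S.isPGroup'.to_le (hWQ.trans hQS)) ?_)
      set N := Subgroup.normalizer (W : Set G)
      let e : G →* N := (MonoidHom.id G).codRestrict N fun x => (normalizer_eq_top W).ge (mem_top x)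
      let q : N →* N ⧸ (Subgroup.centralizer (W : Set G)).subgroupOf N := QuotientGroup.mk' _
      have hq1 : ∀ x : G, φ x = 1 → q (e x) = 1 := fun x hx => by
        refine (QuotientGroup.eq_one_iff _).mpr (Subgroup.mem_subgroupOf.mpr ?_)
        refine Subgroup.mem_centralizer_iff.mpr fun w hw => ?_
        have := congrArg Subtype.val (DFunLike.congr_fun hx (⟨w, hw⟩ : W))
        rw [MulAut.conjNormal_apply] at this
        exact (mul_inv_eq_iff_eq_mul.mp this).symm
      have hq2 : ∀ x : G, q (e x) = 1 → φ x = 1 := fun x hx => MulEquiv.ext fun w => Subtype.ext (by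
        have h1 : x ∈ Subgroup.centralizer (W : Set G) :=
          Subgroup.mem_subgroupOf.mp ((QuotientGroup.eq_one_iff _).mp hx)
        rw [MulAut.conjNormal_apply]
        show x * w * x⁻¹ = w
        rw [← Subgroup.mem_centralizer_iff.mp h1 w w.2, mul_inv_cancel_right])
      let θ : G →* N ⧸ (Subgroup.centralizer (W : Set G)).subgroupOf N := q.comp e
      have hk3 : orderOf (θ k) = 3 := by
        haveI : Fact (Nat.Prime 3) := ⟨Nat.prime_three⟩
        refine orderOf_eq_prime ?_ fun h => hκ1 (hq2 k h)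
        rw [← map_pow]
        exact hq1 _ (by rw [map_pow]; exact hκr)
      have ha2o : ∃ j, orderOf (θ a) = 2 ^ j := by
        have : orderOf (θ a) ∣ 2 ^ 1 := orderOf_dvd_of_pow_eq_one (by
          rw [pow_one, ← map_pow, sq, ha2, map_one])
        obtain ⟨j, -, hj⟩ := (Nat.dvd_prime_pow Nat.prime_two).1 this
        exact ⟨j, hj⟩
      have hinv : θ a * θ k * (θ a)⁻¹ = (θ k)⁻¹ := by
        rw [eq_inv_iff_mul_eq_one, ← map_inv, ← map_mul, ← map_mul, ← map_mul]
        exact hq1 _ (by rw [map_mul, map_mul, map_mul, map_inv, hαinv, inv_mul_cancel])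
      haveI : Fact (Nat.Prime 3) := ⟨Nat.prime_three⟩
      obtain ⟨L, f, hf⟩ := LocalEven.exists_surjective_of_involves'
        (LocalEven.involves_dihedral_of_inverted (p := 3) (by decide) hk3 ha2o hinv)
      exact LocalEven.involves_of_surjective L (WeakClosed.dihedralToPerm.comp f)
        (WeakClosed.dihedralToPerm_surjective.comp hf)
    have hr5 : 5 ≤ r := by
      have h4 : r ≠ 4 := fun h => by subst h; exact absurd hr (by decide)
      have := hr.two_le
      omega
    have hmod := four_mul_card_fixed_le (V := W) (fun v => Subtype.ext (by simpa using hWel.2 (v : G) v.2))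
      (φ a) (φ k) hr hr5 hκr hκ1 hαα hαinv (φ '' (B : Set G))
      (by
        rintro _ ⟨b, hb, rfl⟩
        have := congrArg ψ (hkB _ (Subgroup.mem_inf.mp hb).2)
        rw [map_mul, map_mul] at this
        exact this)
      (by
        rintro _ ⟨b, hb, rfl⟩ v
        have hbS := hA'S (Subgroup.mem_inf.mp hb).1
        have hvS := hQS (hWQ v.2)
        refine Subtype.ext ?_
        rw [MulAut.conjNormal_apply]
        show a * (((φ b v : W) : G) * (v : G)⁻¹) * a⁻¹ = ((φ b v : W) : G) * (v : G)⁻¹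
        rw [MulAut.conjNormal_apply, ← commutatorElement_def, hcen b hbS v hvS a haS, mul_inv_cancel_right])
      ((Subgroup.centralizer (B : Set G)).subgroupOf W)
      ((Subgroup.centralizer (B : Set G) ⊓ Subgroup.centralizer ({a} : Set G)).subgroupOf W)
      (fun v => by
        rw [Subgroup.mem_subgroupOf, Subgroup.mem_centralizer_iff]
        constructor
        · rintro h _ ⟨b, hb, rfl⟩
          refine Subtype.ext ?_
          rw [MulAut.conjNormal_apply, h b hb, mul_inv_cancel_right]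
        · intro h b hb
          have := congrArg Subtype.val (h _ ⟨b, hb, rfl⟩)
          rw [MulAut.conjNormal_apply] at this
          exact mul_inv_eq_iff_eq_mul.mp this)
      (fun v => by
        rw [Subgroup.mem_subgroupOf, Subgroup.mem_inf, Subgroup.mem_centralizer_singleton_iff]
        refine and_congr (by rw [Subgroup.mem_subgroupOf]) ?_
        rw [Subtype.ext_iff, MulAut.conjNormal_apply, mul_inv_eq_iff_eq_mul]
        exact eq_comm)
    have hMU : 4 * Nat.card ↥(W ⊓ Subgroup.centralizer (A' : Set G)) ≤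
        Nat.card ↥(W ⊓ Subgroup.centralizer (B : Set G)) := by
      have hc : ∀ H : Subgroup G, Nat.card (H.subgroupOf W) = Nat.card ↥(H ⊓ W) := fun H => by
        rw [← Subgroup.card_map_of_injective W.subtype_injective, Subgroup.subgroupOf_map_subtype]
      rw [hc, hc, inf_comm _ W, inf_comm _ W] at hmod
      refine le_trans (Nat.mul_le_mul_left 4 (Subgroup.card_le_of_le (inf_le_inf_left W ?_))) hmod
      exact le_inf (Subgroup.centralizer_le (SetLike.coe_subset_coe.mpr inf_le_left))
        (Subgroup.centralizer_le (Set.singleton_subset_iff.mpr ha))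
    calc Nat.card A' ^ 2 * Nat.card ↥(W ⊓ Subgroup.centralizer (A' : Set G))
        ≤ (2 * Nat.card B) ^ 2 * Nat.card ↥(W ⊓ Subgroup.centralizer (A' : Set G)) :=
          Nat.mul_le_mul_right _ (Nat.pow_le_pow_left hBidx 2)
      _ = Nat.card B ^ 2 * (4 * Nat.card ↥(W ⊓ Subgroup.centralizer (A' : Set G))) := by ring
      _ ≤ Nat.card B ^ 2 * Nat.card ↥(W ⊓ Subgroup.centralizer (B : Set G)) := Nat.mul_le_mul_left _ hMU
      _ ≤ _ := hBIH
  obtain ⟨hAS, hAe, hAmax⟩ := hA
  have h1 := key _ A le_rfl hAS hAe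
  -- the replacement `(A ∩ Q) W`
  have hDe : IsElementaryAbelian 2 (A ⊓ Q ⊔ W : Subgroup G) :=
    PLocal.isElementaryAbelian_sup (PLocal.isElementaryAbelian_of_le hAe inf_le_left) hWel
      (fun x hx => Subgroup.mem_centralizer_iff.mpr fun w hw =>
        (Subgroup.mem_centralizer_iff.mp (Subgroup.mem_inf.mp ((PLocal.omegaOne_le 2 X) hw)).2 x hx.2).symm)
  have h2 : Nat.card ↥(A ⊓ Q) * Nat.card W ≤ Nat.card A * Nat.card ↥(W ⊓ Subgroup.centralizer (A : Set G)) := by
    refine (PLocal.card_sup_mul_card_inf (A := A ⊓ Q) (B := W)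
      (by rw [normalizer_eq_top]; exact le_top)).ge.trans (Nat.mul_le_mul ?_ ?_)
    · exact hAmax _ (sup_le (inf_le_left.trans hAS) (hWQ.trans hQS)) hDe
    · refine Subgroup.card_le_of_le fun x hx => Subgroup.mem_inf.mpr ⟨hx.2, ?_⟩
      exact Subgroup.mem_centralizer_iff.mpr fun y hy =>
        congrArg Subtype.val (hAe.1.is_comm.comm (⟨y, hy⟩ : A) ⟨x, hx.1.1⟩)
  have h3 : Nat.card A ≤ Nat.card ↥(A ⊓ Q) := by
    have hd : 0 < Nat.card ↥(W ⊓ Subgroup.centralizer (A : Set G)) := Nat.card_pos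
    have := Nat.card_pos (α := A)
    have h4 : Nat.card A ^ 2 * Nat.card ↥(W ⊓ Subgroup.centralizer (A : Set G)) ≤
        Nat.card A * Nat.card ↥(A ⊓ Q) * Nat.card ↥(W ⊓ Subgroup.centralizer (A : Set G)) :=
      h1.trans (by
        calc Nat.card W * Nat.card ↥(A ⊓ Q) ^ 2
            = Nat.card ↥(A ⊓ Q) * Nat.card W * Nat.card ↥(A ⊓ Q) := by ring
          _ ≤ Nat.card A * Nat.card ↥(W ⊓ Subgroup.centralizer (A : Set G)) * Nat.card ↥(A ⊓ Q) :=
            Nat.mul_le_mul_right _ h2
          _ = _ := by ring)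
    have h5 := Nat.le_of_mul_le_mul_right h4 hd
    rw [sq] at h5
    exact Nat.le_of_mul_le_mul_left h5 this
  exact inf_eq_left.mp (Subgroup.eq_of_le_of_card_ge inf_le_left h3)

end CfsgLib.ConjFunctor
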