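import Mathlib

/-!
An involution inverting an element of prime order at least 5 on a `2`-group of exponent 2, in the
presence of a commuting family acting quadratically.
-/

set_option autoImplicit false

namespace CfsgLib.ConjFunctor

variable {V : Type*} [CommGroup V] [Finite V]

theorem four_mul_card_fixed_le (h2 : ∀ v : V, v ^ 2 = 1) (α κ : MulAut V) {r : ℕ} (hr : r.Prime)
    (hr5 : 5 ≤ r) (hκ : κ ^ r = 1) (hκ1 : κ ≠ 1) (hα : α * α = 1) (hinv : α * κ * α⁻¹ = κ⁻¹)
    (B : Set (MulAut V)) (hB : ∀ β ∈ B, β * κ = κ * β)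
    (hq : ∀ β ∈ B, ∀ v, α (β v * v⁻¹) = β v * v⁻¹)
    (M U : Subgroup V) (hM : ∀ v, v ∈ M ↔ ∀ β ∈ B, β v = v) (hU : ∀ v, v ∈ U ↔ v ∈ M ∧ α v = v) :
    4 * Nat.card U ≤ Nat.card M := by
  classical
  haveI := Fact.mk hr
  have happ : ∀ (a b : MulAut V) (v : V), (a * b) v = a (b v) := fun _ _ _ => rfl
  have hak : ∀ v, α (κ v) = κ⁻¹ (α v) := fun v => by
    rw [← happ, ← happ, ← hinv, inv_mul_cancel_right]
  have hinv2 : ∀ v, κ (κ⁻¹ v) = v := fun v => by rw [← happ, mul_inv_cancel]; rfl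
  have hinv3 : ∀ v, κ⁻¹ (κ v) = v := fun v => by rw [← happ, inv_mul_cancel]; rfl
  -- powers of `κ` fixing a point
  have hcop : ∀ (d : ℕ) (v : V), d.Coprime r → (κ ^ d) v = v → κ v = v := by
    intro d v hd hv
    have hord : orderOf κ ∣ r := orderOf_dvd_of_pow_eq_one hκ
    obtain ⟨l, hl⟩ := exists_pow_eq_self_of_coprime (x := κ) (n := d) (hd.coprime_dvd_right hord)
    conv_lhs => rw [← hl]
    clear hl
    induction l with
    | zero => rfl
    | succ l ih => rw [pow_succ, happ, hv, ih]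
  -- the values `[β, v]` are fixed by `κ`
  have h1 : ∀ β ∈ B, ∀ v, κ (β v * v⁻¹) = β v * v⁻¹ := by
    intro β hβ v
    set δ := β v * v⁻¹ with hδ
    have e : β (κ v) * (κ v)⁻¹ = κ δ := by
      rw [hδ, map_mul, map_inv, ← happ, hB β hβ, happ]
    have h := hq β hβ (κ v)
    rw [e, hak, hq β hβ v] at h
    refine hcop 2 δ ((Nat.coprime_primes Nat.prime_two hr).mpr (by omega)) ?_
    rw [pow_two, happ]
    exact (congrArg κ h).symm.trans (hinv2 _)
  have h3 : ∀ v, κ v * v⁻¹ ∈ M := by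
    intro v
    rw [hM]
    intro β hβ
    have h4 : β v = β v * v⁻¹ * v := (inv_mul_cancel_right _ _).symm
    have h5 : β (κ v) = β v * v⁻¹ * κ v := by
      rw [← happ, hB β hβ, happ]
      conv_lhs => rw [h4]
      rw [map_mul, h1 β hβ v]
    rw [map_mul, map_inv, h5]
    calc β v * v⁻¹ * κ v * (β v)⁻¹ = κ v * v⁻¹ * (β v * (β v)⁻¹) := by ac_rfl
      _ = _ := by rw [mul_inv_cancel, mul_one]
  have hkM : ∀ v ∈ M, κ v ∈ M := fun v hv => by
    rw [hM] at hv ⊢
    intro β hβ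
    rw [← happ, hB β hβ, happ, hv β hβ]
  -- `κ` moves `M`
  have hmove : ¬ ∀ m ∈ M, κ m = m := by
    intro hfix
    apply hκ1
    refine MulEquiv.ext fun v => ?_
    set d := κ v * v⁻¹ with hd
    have hkv : κ v = d * v := (inv_mul_cancel_right _ _).symm
    have hn : ∀ n : ℕ, (κ ^ n) v = d ^ n * v := by
      intro n
      induction n with
      | zero => simp
      | succ n ih =>
        rw [pow_succ', happ, ih, map_mul, map_pow, hfix d (h3 v), hkv, ← mul_assoc, ← pow_succ]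
    have hr1 := hn r
    rw [hκ] at hr1
    have hdr : d ^ r = 1 := right_eq_mul.mp (show v = d ^ r * v from hr1)
    have hd1 : d = 1 := orderOf_eq_one_iff.mp (Nat.eq_one_of_dvd_coprimes
      ((Nat.coprime_primes hr Nat.prime_two).mpr (by omega)) (orderOf_dvd_of_pow_eq_one hdr)
      (orderOf_dvd_of_pow_eq_one (h2 d)))
    show κ v = v
    rw [hkv, hd1, one_mul]
  by_contra hlt
  push Not at hlt
  have hp : IsPGroup 2 M := fun m => ⟨1, Subtype.ext (by simpa using h2 (m : V))⟩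
  have hUM : U ≤ M := fun v hv => ((hU v).mp hv).1
  obtain ⟨k, hk⟩ := (hp.to_quotient (U.subgroupOf M)).exists_card_eq
  have hcard : Nat.card (M ⧸ U.subgroupOf M) * Nat.card U = Nat.card M := by
    rw [← Nat.card_congr (Subgroup.subgroupOfEquivOfLe hUM).toEquiv,
      ← Subgroup.card_eq_card_quotient_mul_card_subgroup]
  rw [hk] at hcard
  have hk1 : k ≤ 1 := by
    by_contra h
    have : 2 ^ 2 ≤ 2 ^ k := Nat.pow_le_pow_right (by norm_num) (by omega)
    nlinarith [Nat.card_pos (α := U)]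
  have hidx : U.relIndex M ≤ 2 := by
    show (U.subgroupOf M).index ≤ 2
    rw [Subgroup.index_eq_card, hk]
    calc 2 ^ k ≤ 2 ^ 1 := Nat.pow_le_pow_right (by norm_num) hk1
      _ = 2 := rfl
  -- the points of `M` fixed by `α` and by its conjugate
  let U₂ : Subgroup V := U ⊓ U.map κ.toMonoidHom
  have hU₂M : U₂ ≤ M := inf_le_left.trans hUM
  have hU₂fix : ∀ v ∈ U₂, κ v = v := by
    rintro v ⟨hv, w, hw, rfl⟩
    refine hcop 2 _ ((Nat.coprime_primes Nat.prime_two hr).mpr (by omega)) ?_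
    have ha1 : α (κ w) = κ w := ((hU _).mp hv).2
    have ha2 := ((hU w).mp hw).2
    have : α (κ w) = κ⁻¹ w := by rw [hak, ha2]
    rw [ha1] at this
    show (κ ^ 2) (κ w) = κ w
    rw [pow_two, happ]
    have h6 : κ (κ w) = w := by rw [this, hinv2]
    rw [h6]
  have hidx2 : U₂.relIndex M ≤ 4 := by
    have hMmap : M.map κ.toMonoidHom = M := Subgroup.eq_of_le_of_card_ge
      (by rintro _ ⟨v, hv, rfl⟩; exact hkM v hv) (Subgroup.card_map_of_injective κ.injective).ge
    have : (U.map κ.toMonoidHom).relIndex M = U.relIndex M := by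
      conv_lhs => rw [← hMmap]
      exact Subgroup.relIndex_map_map_of_injective _ _ κ.injective
    calc U₂.relIndex M ≤ U.relIndex M * (U.map κ.toMonoidHom).relIndex M := Subgroup.relIndex_inf_le
      _ ≤ 2 * 2 := Nat.mul_le_mul hidx (this ▸ hidx)
  apply hmove
  intro m hm
  have hpow : ∀ n : ℕ, (κ ^ n) m ∈ M := by
    intro n
    induction n with
    | zero => exact hm
    | succ n ih => rw [pow_succ', happ]; exact hkM _ ih
  let f : Fin 5 → M ⧸ U₂.subgroupOf M := fun i => QuotientGroup.mk ⟨(κ ^ (i : ℕ)) m, hpow i⟩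
  haveI : Fintype (M ⧸ U₂.subgroupOf M) := Fintype.ofFinite _
  obtain ⟨i, j, hij, hne⟩ : ∃ i j, f i = f j ∧ i ≠ j := by
    by_contra h
    push Not at h
    have := Nat.card_le_card_of_injective f fun i j hij => h i j hij
    rw [Nat.card_fin, ← Subgroup.index_eq_card] at this
    have h4 : (U₂.subgroupOf M).index ≤ 4 := hidx2
    omega
  wlog hlt' : (i : ℕ) < j generalizing i j
  · exact this j i hij.symm hne.symm (by omega)
  have hd0 : ((κ ^ (i : ℕ)) m)⁻¹ * (κ ^ (j : ℕ)) m ∈ U₂ := (QuotientGroup.eq (s := U₂.subgroupOf M)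
    (a := (⟨_, hpow i⟩ : M)) (b := ⟨_, hpow j⟩)).mp hij
  set d := (j : ℕ) - i with hd
  have hfixn : ∀ (n : ℕ) (v : V), v ∈ U₂ → (κ ^ n) v = v := by
    intro n v hv
    induction n with
    | zero => rfl
    | succ n ih => rw [pow_succ, happ, hU₂fix v hv, ih]
  set δ := ((κ ^ (i : ℕ)) m)⁻¹ * (κ ^ (j : ℕ)) m with hδ
  have hδm : m⁻¹ * (κ ^ d) m = δ := by
    refine (κ ^ (i : ℕ)).injective ?_
    rw [hfixn _ _ hd0, map_mul, map_inv, ← happ, ← pow_add, show (i : ℕ) + d = j by omega]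
  have hkd : (κ ^ d) m = m * δ := by rw [← hδm, mul_inv_cancel_left]
  refine hcop (2 * d) m ?_ ?_
  · have hd4 : d ≤ 4 := by omega
    have hd1 : 1 ≤ d := by omega
    refine Nat.Coprime.mul_left ((Nat.coprime_primes Nat.prime_two hr).mpr (by omega)) ?_
    exact (hr.coprime_iff_not_dvd.mpr fun hdv => by have := Nat.le_of_dvd hd1 hdv; omega).symm
  · rw [two_mul, pow_add, happ, hkd, map_mul, hfixn _ _ hd0, hkd, mul_assoc, ← sq, h2, mul_one]

end CfsgLib.ConjFunctor
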