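import Cfsg.Prelude.Def_LocalEven

/-! Transitivity of `Involves` and `Involves` from subgroups and quotients. -/

set_option autoImplicit false

namespace CfsgLib.ConjFunctor

open Cfsg Subgroup

variable {G H K : Type*} [Group G] [Group H] [Group K]

theorem involves_of_surjective_subgroup (L : Subgroup G) (f : ↥L →* H)
    (hf : Function.Surjective f) : Involves H G := by
  have hR : (f.ker.map L.subtype).subgroupOf L = f.ker := by
    rw [subgroupOf, comap_map_eq_self_of_injective L.subtype_injective]
  have hn : ((f.ker.map L.subtype).subgroupOf L).Normal := by rw [hR]; infer_instance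
  exact ⟨L, _, hn, ⟨(QuotientGroup.quotientMulEquivOfEq hR).trans
    (QuotientGroup.quotientKerEquivOfSurjective f hf)⟩⟩

theorem exists_hom_of_involves (h : Involves H G) :
    ∃ (L : Subgroup G) (f : ↥L →* H), Function.Surjective f := by
  obtain ⟨L, R, hR, ⟨e⟩⟩ := h
  exact ⟨L, e.toMonoidHom.comp (QuotientGroup.mk' (R.subgroupOf L)),
    e.surjective.comp (QuotientGroup.mk'_surjective _)⟩

theorem involves_section (L R : Subgroup G) [(R.subgroupOf L).Normal] :
    Involves (↥L ⧸ R.subgroupOf L) G :=
  ⟨L, R, inferInstance, ⟨MulEquiv.refl _⟩⟩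

theorem involves_of_surjective (f : G →* H) (hf : Function.Surjective f) : Involves H G :=
  involves_of_surjective_subgroup ⊤ (f.comp (⊤ : Subgroup G).subtype)
    (hf.comp fun x => ⟨⟨x, trivial⟩, rfl⟩)

theorem involves_subgroup (L : Subgroup G) : Involves ↥L G :=
  involves_of_surjective_subgroup L (MonoidHom.id _) Function.surjective_id

theorem involves_quotient (N : Subgroup G) [N.Normal] : Involves (G ⧸ N) G :=
  involves_of_surjective (QuotientGroup.mk' N) (QuotientGroup.mk'_surjective N)

theorem involves_equiv (e : G ≃* H) : Involves H G :=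
  involves_of_surjective e.toMonoidHom e.surjective

theorem involves_trans (h₁ : Involves H G) (h₂ : Involves K H) : Involves K G := by
  obtain ⟨L, f, hf⟩ := exists_hom_of_involves h₁
  obtain ⟨M, g, hg⟩ := exists_hom_of_involves h₂
  let L' : Subgroup G := (M.comap f).map L.subtype
  have hle : L' ≤ L := map_subtype_le _
  let i : ↥L' →* ↥M := ((f.comp (Subgroup.inclusion hle))).codRestrict M (by
    rintro ⟨x, y, hy, rfl⟩; exact hy)
  refine involves_of_surjective_subgroup L' (g.comp i) (hg.comp ?_)
  rintro ⟨m, hm⟩
  obtain ⟨y, rfl⟩ := hf m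
  exact ⟨⟨y, ⟨y, hm, rfl⟩⟩, rfl⟩

theorem card_le_of_involves [Finite G] (h : Involves H G) : Nat.card H ≤ Nat.card G := by
  obtain ⟨L, f, hf⟩ := exists_hom_of_involves h
  exact (Nat.card_le_card_of_surjective f hf).trans (Nat.le_of_dvd Nat.card_pos L.card_subgroup_dvd_card)

theorem finite_of_involves [Finite G] (h : Involves H G) : Finite H := by
  obtain ⟨L, f, hf⟩ := exists_hom_of_involves h
  exact Finite.of_surjective f hf

end CfsgLib.ConjFunctor
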