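import Cfsg.Agent.ConjFunctor.Reduction
import Cfsg.Agent.ConjFunctor.Sections

/-!
Reduction of fusion in a group with `O_{p'}(G) = 1` that is not `p`-constrained, and transport
of control between a group and its subgroups or quotients for induced functors.
-/

set_option autoImplicit false

universe u

namespace CfsgLib.ConjFunctor

open Cfsg Subgroup

section
variable {G : Type*} [Group G] {p : ℕ} {S : Subgroup G} {𝓜 : Set (Subgroup G)}

/-- `C(O_p(G)) ≤ O_p(G)`. -/
def IsConstrained (p : ℕ) (G : Type*) [Group G] : Prop :=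
  Subgroup.centralizer (pCore p G : Set G) ≤ pCore p G

theorem FusControls.bind {𝓗 : Set (Subgroup G)} {K : Subgroup G} (h : FusControls 𝓗 S K)
    (hstep : ∀ H ∈ 𝓗, FusControls 𝓜 S H) : FusControls 𝓜 S K :=
  fun A g hg hA hgA => (h A g hg hA hgA).bind le_rfl fun H hH z hz B hB hzB =>
    hstep H hH B z hz hB (cjSet_subset_iff.mpr hzB)

variable [Finite G] [Fact p.Prime]

theorem pCore_le_isSylowIn (hS : IsSylowIn p S ⊤) : pCore p G ≤ S :=
  PLocal.pCore_le_sylow hS.toSylowTop

theorem inf_pPrimeCore_eq_bot (hS : IsSylowIn p S ⊤) : S ⊓ pPrimeCore p G = ⊥ :=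
  PLocal.disjoint_of_isPGroup_of_coprime hS.2.1 (PLocal.coprime_card_pPrimeCore p G)

/-- `S ∩ O_p(G) C(O_p(G))`. -/
abbrev dSub (p : ℕ) (S : Subgroup G) : Subgroup G :=
  S ⊓ (pCore p G ⊔ Subgroup.centralizer (pCore p G : Set G))

theorem le_normalizer_dSub : S ≤ Subgroup.normalizer (dSub p S : Set G) := by
  intro s hs
  refine mem_normalizer_of_forall_conj_mem fun x hx => ?_
  exact Subgroup.mem_inf.mpr ⟨S.mul_mem (S.mul_mem hs hx.1) (S.inv_mem hs),
    Subgroup.Normal.conj_mem inferInstance x hx.2 s⟩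

theorem exists_mem_centralizer_mul_mem_normalizer (hS : IsSylowIn p S ⊤) (g : G) :
    ∃ c ∈ Subgroup.centralizer (pCore p G : Set G),
      ∃ m ∈ Subgroup.normalizer (dSub p S : Set G), g = c * m := by
  let R : Subgroup G := pCore p G ⊔ Subgroup.centralizer (pCore p G : Set G)
  have hD : IsSylowIn p (dSub p S) R :=
    hS.inf_of_normal le_top (by rw [normalizer_eq_top (H := R)])
  obtain ⟨r, hr, hrg⟩ := hD.exists_cj_eq (T' := g *• dSub p S) (by
    have := hD.cj g
    rwa [cj_eq_of_mem_normalizer (T := R) (g := g) (by rw [normalizer_eq_top (H := R)]; trivial)] at this)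
  rw [cj_cj] at hrg
  obtain ⟨c, hc, q, hq, hcq⟩ := mem_sup_of_normal_left.mp (show r⁻¹ ∈
    Subgroup.centralizer (pCore p G : Set G) ⊔ pCore p G by rw [sup_comm]; exact inv_mem hr)
  refine ⟨c, hc, q * (r * g), mul_mem ?_ (mem_normalizer_iff_cj.mpr hrg), ?_⟩
  · exact le_normalizer_dSub (pCore_le_isSylowIn hS hq)
  · rw [← mul_assoc, hcq, inv_mul_cancel_left]

theorem normalizer_dSub_ne_top (hS : IsSylowIn p S ⊤) (hK : pPrimeCore p G = ⊥)
    (hnc : ¬ IsConstrained p G) : Subgroup.normalizer (dSub p S : Set G) ≠ ⊤ := by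
  intro htop
  have hn : (dSub p S).Normal := normalizer_eq_top_iff.mp htop
  have hDQ : dSub p S ≤ pCore p G := PLocal.le_pCore hS.2.1.to_inf_left
  let C : Subgroup G := Subgroup.centralizer (pCore p G : Set G)
  have hP : IsSylowIn p (S ⊓ C) C := hS.inf_of_normal le_top (by rw [normalizer_eq_top (H := C)])
  have hcen : S ⊓ C ≤ pCore p G :=
    (inf_le_inf_left S (le_sup_right : C ≤ _)).trans hDQ
  let P : Sylow p C := (hP.2.1.comap_subtype (K := C)).toSylow hP.2.2
  have hPc : Subgroup.normalizer ((P : Subgroup C) : Set C) ≤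
      Subgroup.centralizer ((P : Subgroup C) : Set C) := by
    intro c _
    rw [Subgroup.mem_centralizer_iff]
    intro x hx
    apply Subtype.ext
    exact (Subgroup.mem_centralizer_iff.mp c.2 (x : G) (hcen hx))
  let K0 := (MonoidHom.transferSylow P hPc).ker
  have hK0c : (Nat.card K0).Coprime p :=
    (PLocal.not_dvd_iff_coprime).mpr (MonoidHom.not_dvd_card_ker_transferSylow P hPc)
  have hK0 : K0 = ⊥ := by
    have h1 : (pPrimeCore p C).map C.subtype = ⊥ := by
      rw [PLocal.pPrimeCore_map_subtype_eq, hK, inf_bot_eq]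
    rw [map_eq_bot_iff_of_injective _ C.subtype_injective] at h1
    exact le_bot_iff.mp (h1 ▸ PLocal.le_pPrimeCore hK0c)
  have htopP : (P : Subgroup C) = ⊤ := by
    have := MonoidHom.ker_transferSylow_isComplement' P hPc
    rw [show (MonoidHom.transferSylow P hPc).ker = ⊥ from hK0] at this
    exact isComplement'_bot_left.mp this
  refine hnc fun x hx => hcen ?_
  exact htopP.ge (Subgroup.mem_top (⟨x, hx⟩ : C))

/-- With `C(Q)S < G`, fusion is generated by `C(Q)S` and `N(D)`. -/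
theorem fusControls_pair (hS : IsSylowIn p S ⊤) :
    FusControls {Subgroup.centralizer (pCore p G : Set G) ⊔ S,
      Subgroup.normalizer (dSub p S : Set G)} S ⊤ := by
  intro A g _ hA hgA
  obtain ⟨c, hc, m, hm, rfl⟩ := exists_mem_centralizer_mul_mem_normalizer hS g
  let L : Subgroup G := Subgroup.centralizer (pCore p G : Set G) ⊔ S
  let N : Subgroup G := Subgroup.normalizer (dSub p S : Set G)
  have hSI : IsSylowIn p S (L ⊓ N) := hS.of_le (le_inf le_sup_right le_normalizer_dSub) le_top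
  have hmA : cjSet m A ⊆ ((L ⊓ N : Subgroup G) : Set G) := by
    rintro _ ⟨a, ha, rfl⟩
    refine Subgroup.mem_inf.mpr ⟨?_,
      N.mul_mem (N.mul_mem hm (le_normalizer_dSub (hA ha))) (N.inv_mem hm)⟩
    have h1 := hgA ⟨a, ha, rfl⟩
    have := L.mul_mem (L.mul_mem (L.inv_mem (le_sup_left (b := S) hc)) (le_sup_right (a := Subgroup.centralizer _) h1))
      (le_sup_left (b := S) hc)
    simpa [mul_assoc] using this
  have hp0 : IsPGroup p ↥(Subgroup.closure (cjSet m A)) := by
    refine (isPGroup_cj m hS.2.1).to_le ((Subgroup.closure_le _).mpr ?_)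
    rw [← cjSet_coe]
    exact cjSet_mono m hA
  obtain ⟨d, ⟨hdL, hdN⟩, hd⟩ := hSI.exists_cj_le ((Subgroup.closure_le _).mpr hmA) hp0
  have h1 : ∀ a ∈ A, (d * m) * a * (d * m)⁻¹ ∈ S := by
    intro a ha
    simpa [mul_assoc] using hd (conj_mem_cj d (Subgroup.subset_closure ⟨a, ha, rfl⟩))
  refine .step hA (Set.mem_insert_of_mem _ rfl) (mul_mem hdN hm) h1 ?_
  rw [show c * m * (d * m)⁻¹ = c * d⁻¹ by simp [mul_assoc]]
  refine Fus.single (cjSet_subset_iff.mpr h1) (Set.mem_insert _ _)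
    (L.mul_mem (le_sup_left (b := S) hc) (L.inv_mem hdL)) ?_
  rintro _ ⟨a, ha, rfl⟩
  simpa [mul_assoc] using hgA ⟨a, ha, rfl⟩

theorem exists_decomp_of_sup_eq_top (h : Subgroup.centralizer (pCore p G : Set G) ⊔ S = ⊤) (g : G) :
    ∃ c ∈ Subgroup.centralizer (pCore p G : Set G), ∃ s ∈ S, g = c * s := by
  obtain ⟨c, hc, s, hs, e⟩ :=
    mem_sup_of_normal_left.mp (h.symm ▸ Subgroup.mem_top g)
  exact ⟨c, hc, s, hs, e.symm⟩

theorem exists_mul_of_mem_sup_normalizer {N H : Subgroup G} (hH : H ≤ Subgroup.normalizer (N : Set G)) {x : G}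
    (hx : x ∈ N ⊔ H) : ∃ n ∈ N, ∃ h ∈ H, n * h = x := by
  rw [← SetLike.mem_coe, coe_mul_of_right_le_normalizer_left N H hH] at hx
  exact Set.mem_mul.mp hx

/-- With `C(Q)S = G`, fusion in `G` is controlled when it is modulo `Q`. -/
theorem fusControls_of_quotient_pCore (hS : IsSylowIn p S ⊤)
    (hCS : Subgroup.centralizer (pCore p G : Set G) ⊔ S = ⊤)
    (hinner : FusControls 𝓜 S S)
    (h : FusControls (Subgroup.map (QuotientGroup.mk' (pCore p G)) '' 𝓜)
      (S.map (QuotientGroup.mk' (pCore p G))) ⊤) :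
    FusControls 𝓜 S ⊤ := by
  have hQS : pCore p G ≤ S := pCore_le_isSylowIn hS
  have hfam : IsConjugationFamily {U : Subgroup G | U ≤ S ∧ Extremal p S U} S :=
    isConjugationFamily_of_extremal hS (fun _ h => h.1) fun T hT => by
      obtain ⟨a, h1, h2, -⟩ := exists_extremal_conj hS hT
      exact ⟨_, ⟨h1, h2⟩, ⟨a, rfl⟩, h2⟩
  refine fusControls_of_conjugationFamily hfam hQS fun U hU hQU x hx => ?_
  let f := QuotientGroup.mk' (pCore p G)
  have hxU : cjSet x (U : Set G) ⊆ S := by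
    rw [cjSet_coe, cj_eq_of_mem_normalizer hx]; exact hU.1
  obtain ⟨n, hn, hnU⟩ := exists_lift_of_le (p := p) hQS (h (f '' (U : Set G)) (f x) trivial
    (Set.image_mono hU.1) (by
      rintro _ ⟨_, ⟨a, ha, rfl⟩, rfl⟩
      exact ⟨_, hxU ⟨a, ha, rfl⟩, by simp [f]⟩)) (U : Set G) rfl hU.1
  have hagree : ∀ u ∈ U, (n * u * n⁻¹)⁻¹ * (x * u * x⁻¹) ∈ pCore p G := by
    intro u hu
    rw [← QuotientGroup.eq]
    exact (hnU u hu).trans (by simp [f])
  have hnN : n ∈ Subgroup.normalizer (U : Set G) := mem_normalizer_of_forall_conj_mem fun u hu => by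
    have h1 := (mem_normalizer_iff.mp hx u).mp hu
    have h2 := mul_mem h1 (inv_mem (hQU (hagree u hu)))
    simpa [mul_assoc] using h2
  let E : Subgroup G :=
    { carrier := {y | y ∈ Subgroup.normalizer (U : Set G) ∧ ∀ u ∈ U, y * u * y⁻¹ * u⁻¹ ∈ pCore p G}
      one_mem' := ⟨one_mem _, fun u _ => by simp [one_mem]⟩
      mul_mem' := fun {a b} ha hb => ⟨mul_mem ha.1 hb.1, fun u hu => by
        have := mul_mem (ha.2 _ ((mem_normalizer_iff.mp hb.1 u).mp hu)) (hb.2 u hu)
        simpa [mul_assoc] using this⟩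
      inv_mem' := fun {a} ha => ⟨inv_mem ha.1, fun u hu => by
        have := inv_mem (ha.2 _ ((mem_normalizer_iff.mp (inv_mem ha.1) u).mp hu))
        simpa [mul_assoc] using this⟩ }
  have hEN : E ≤ Subgroup.normalizer (U : Set G) := fun y hy => hy.1
  have hEnorm : Subgroup.normalizer (U : Set G) ≤ Subgroup.normalizer (E : Set G) := by
    intro y hy
    refine mem_normalizer_of_forall_conj_mem fun e he => ⟨mul_mem (mul_mem hy he.1) (inv_mem hy),
      fun u hu => ?_⟩
    have h1 := he.2 _ ((mem_normalizer_iff.mp (inv_mem hy) u).mp hu)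
    have := Subgroup.Normal.conj_mem inferInstance _ h1 y
    simpa [mul_assoc] using this
  let CU : Subgroup G := Subgroup.centralizer (U : Set G)
  have hCE : CU ≤ E := fun y hy => ⟨centralizer_le_normalizer _ hy, fun u hu => by
    rw [← Subgroup.mem_centralizer_iff.mp hy u hu, mul_inv_cancel_right, mul_inv_cancel]
    exact one_mem _⟩
  have hpow : ∀ y ∈ E, ∃ k : ℕ, y ^ p ^ k ∈ CU := by
    intro y hy
    obtain ⟨c, hc, s, hs, rfl⟩ := exists_decomp_of_sup_eq_top hCS y
    obtain ⟨k, hk⟩ := hS.2.1 ⟨s, hs⟩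
    let C : Subgroup G := Subgroup.centralizer (pCore p G : Set G)
    have hyC : (c * s) ^ p ^ k ∈ C := by
      rw [← QuotientGroup.eq_one_iff, QuotientGroup.mk_pow, QuotientGroup.mk_mul,
        (QuotientGroup.eq_one_iff c).mpr hc, one_mul, ← QuotientGroup.mk_pow,
        show s ^ p ^ k = 1 from congrArg Subtype.val hk]
      rfl
    obtain ⟨l, hl⟩ : ∃ l : ℕ, ∀ q ∈ pCore p G, q ^ p ^ l = 1 := by
      obtain ⟨l, hl⟩ := IsPGroup.iff_card.mp (PLocal.isPGroup_pCore p G)
      refine ⟨l, fun q hq => ?_⟩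
      have := congrArg Subtype.val (pow_card_eq_one' (x := (⟨q, hq⟩ : pCore p G)))
      simpa [hl] using this
    refine ⟨k + l, Subgroup.mem_centralizer_iff.mpr fun u hu => ?_⟩
    let y := (c * s) ^ p ^ k
    have hyE : y ∈ E := E.pow_mem hy _
    let q := y * u * y⁻¹ * u⁻¹
    have hyq : y * q * y⁻¹ = q := by
      rw [← Subgroup.mem_centralizer_iff.mp hyC q (hyE.2 u hu), mul_inv_cancel_right]
    have hstep : ∀ i : ℕ, y ^ i * u * (y ^ i)⁻¹ = q ^ i * u := by
      intro i
      induction i with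
      | zero => simp
      | succ j ih =>
        calc y ^ (j + 1) * u * (y ^ (j + 1))⁻¹ = y * (y ^ j * u * (y ^ j)⁻¹) * y⁻¹ := by
              rw [pow_succ']; group
          _ = (y * q ^ j * y⁻¹) * (y * u * y⁻¹) := by rw [ih]; group
          _ = (y * q * y⁻¹) ^ j * (q * u) := by
              rw [← conj_pow, show q * u = y * u * y⁻¹ from inv_mul_cancel_right _ _]
          _ = q ^ (j + 1) * u := by rw [hyq, pow_succ]; exact (mul_assoc _ _ _).symm
    have h1 := hstep (p ^ l)
    rw [hl q (hyE.2 u hu), one_mul, mul_inv_eq_iff_eq_mul] at h1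
    rw [pow_add, pow_mul]
    exact h1.symm
  have hE : IsSylowIn p (nrm S U ⊓ E) E :=
    ((extremal_iff hS.2.1).mp hU.2).inf_of_normal hEN hEnorm
  have hsupE : CU ⊔ (nrm S U ⊓ E) = E := by
    refine le_antisymm (sup_le hCE inf_le_right) ?_
    let L : Subgroup G := CU ⊔ (nrm S U ⊓ E)
    have hCUn : (CU.subgroupOf E).Normal :=
      normal_subgroupOf_of_le_normalizer (hEN.trans (fun y hy => by
        refine mem_normalizer_of_forall_conj_mem fun z hz => ?_
        rw [Subgroup.mem_centralizer_iff]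
        intro u hu
        have h1 := Subgroup.mem_centralizer_iff.mp hz _ ((mem_normalizer_iff.mp (inv_mem hy) u).mp hu)
        calc u * (y * z * y⁻¹) = y * ((y⁻¹ * u * y⁻¹⁻¹) * z) * y⁻¹ := by group
          _ = y * (z * (y⁻¹ * u * y⁻¹⁻¹)) * y⁻¹ := by rw [h1]
          _ = y * z * y⁻¹ * u := by group))
    have hpg : IsPGroup p (↥E ⧸ CU.subgroupOf E) := by
      intro z
      obtain ⟨y, rfl⟩ := QuotientGroup.mk'_surjective _ z
      obtain ⟨k, hk⟩ := hpow y y.2
      exact ⟨k, by rw [← map_pow]; exact (QuotientGroup.eq_one_iff _).mpr (mem_subgroupOf.mpr (by simpa using hk))⟩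
    obtain ⟨j, hj⟩ := IsPGroup.iff_card.mp hpg
    have h1 : L.relIndex E ∣ p ^ j := by
      rw [← hj]; exact relIndex_dvd_of_le_left E le_sup_left
    have h2 : ¬ p ∣ L.relIndex E := fun hd =>
      hE.2.2 (hd.trans (relIndex_dvd_of_le_left E le_sup_right))
    obtain ⟨i, hi, hi'⟩ := (Nat.dvd_prime_pow Fact.out).mp h1
    have h3 : L.relIndex E = 1 := by
      rcases i with _ | i
      · simpa using hi'
      · exact absurd (hi' ▸ dvd_pow_self p (Nat.succ_ne_zero i)) h2
    exact relIndex_eq_one.mp h3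
  have hh : x * n⁻¹ ∈ E := ⟨mul_mem hx (inv_mem hnN), fun u hu => by
    have hv := (mem_normalizer_iff.mp (inv_mem hnN) u).mp hu
    have h1 := hagree _ hv
    have := Subgroup.Normal.conj_mem inferInstance _ h1 u
    simpa [mul_assoc] using this⟩
  rw [← hsupE] at hh
  obtain ⟨z, hz, s, hs, hzs⟩ := exists_mul_of_mem_sup_normalizer
    (show nrm S U ⊓ E ≤ Subgroup.normalizer (CU : Set G) from
      inf_le_left.trans (inf_le_right.trans fun y hy => by
        refine mem_normalizer_of_forall_conj_mem fun w hw => ?_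
        rw [Subgroup.mem_centralizer_iff]
        intro u hu
        have h1 := Subgroup.mem_centralizer_iff.mp hw _ ((mem_normalizer_iff.mp (inv_mem hy) u).mp hu)
        calc u * (y * w * y⁻¹) = y * ((y⁻¹ * u * y⁻¹⁻¹) * w) * y⁻¹ := by group
          _ = y * (w * (y⁻¹ * u * y⁻¹⁻¹)) * y⁻¹ := by rw [h1]
          _ = y * w * y⁻¹ * u := by group)) hh
  have hsN : s ∈ Subgroup.normalizer (U : Set G) := hs.1.2
  have hUU : cjSet n (U : Set G) = U := by rw [cjSet_coe, cj_eq_of_mem_normalizer hnN]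
  have h1 : Fus 𝓜 S (U : Set G) (s * n) := hn.trans (by
    rw [hUU]
    exact hinner _ s hs.1.1 hU.1 (by rw [cjSet_coe, cj_eq_of_mem_normalizer hsN]; exact hU.1))
  refine h1.congr' fun u hu => ?_
  have hw : (s * n) * u * (s * n)⁻¹ ∈ U := (mem_normalizer_iff.mp (mul_mem hsN hnN) u).mp hu
  have hzc : z * ((s * n) * u * (s * n)⁻¹) * z⁻¹ = (s * n) * u * (s * n)⁻¹ := by
    rw [← Subgroup.mem_centralizer_iff.mp hz _ hw, mul_inv_cancel_right]
  have hxe : z * (s * n) = x := by rw [← mul_assoc, hzs]; group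
  calc s * n * u * (s * n)⁻¹ = z * ((s * n) * u * (s * n)⁻¹) * z⁻¹ := hzc.symm
    _ = (z * (s * n)) * u * (z * (s * n))⁻¹ := by group
    _ = x * u * x⁻¹ := by rw [hxe]

end

/-! ### Transport along homomorphisms for induced functors -/

section
variable {p : ℕ} {𝓦 : Set (∀ (Q : Type u) [Group Q], Subgroup Q)}

/-- The induced family of conjugacy functors. -/
abbrev indFam (𝓦 : Set (∀ (Q : Type u) [Group Q], Subgroup Q)) (G : Type u) [Group G] :
    Set (Subgroup G → Subgroup G) :=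
  (fun W => inducedFunctor (G := G) W) '' 𝓦

variable {G H : Type u} [Group G] [Group H] [Finite G] [Fact p.Prime]

theorem map_famIn_induced_le (h𝓦 : ∀ W ∈ 𝓦, IsCharPFunctor.{u} p W) (f : G →* H)
    {T : Subgroup G} (hT : IsPGroup p T) (hf : Set.InjOn f T) (K : Subgroup G) :
    ∀ M ∈ Subgroup.map f '' famIn (indFam 𝓦 G) K T,
      ∃ M' ∈ famIn (indFam 𝓦 H) (K.map f) (T.map f), M ≤ M' := by
  rintro _ ⟨_, ⟨_, ⟨W, hW, rfl⟩, rfl⟩, rfl⟩
  refine ⟨_, ⟨_, ⟨W, hW, rfl⟩, rfl⟩, ?_⟩
  dsimp only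
  rw [inducedFunctor_map (h𝓦 W hW) f hT hf]
  exact (map_inf_le _ _ f).trans (inf_le_inf_left _ (le_normalizer_map f))

theorem map_transferGen_induced_le (h𝓦 : ∀ W ∈ 𝓦, IsCharPFunctor.{u} p W) (f : G →* H)
    {T : Subgroup G} (hT : IsPGroup p T) (hf : Set.InjOn f T) (K : Subgroup G) :
    (transferGen (indFam 𝓦 G) K T).map f ≤ transferGen (indFam 𝓦 H) (K.map f) (T.map f) := by
  simp only [transferGen, Subgroup.map_iSup]
  refine iSup₂_le ?_
  rintro _ ⟨W, hW, rfl⟩
  refine le_trans ?_ (le_iSup₂ (f := fun V (_ : V ∈ indFam 𝓦 H) => T.map f ⊓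
    ⁅K.map f ⊓ Subgroup.normalizer (V (T.map f) : Set H),
      K.map f ⊓ Subgroup.normalizer (V (T.map f) : Set H)⁆) _ ⟨W, hW, rfl⟩)
  dsimp only
  rw [inducedFunctor_map (h𝓦 W hW) f hT hf]
  refine (map_inf_le _ _ f).trans (inf_le_inf_left _ ?_)
  rw [map_commutator]
  have := (map_inf_le K (Subgroup.normalizer (inducedFunctor (G := G) W T : Set G)) f).trans
    (inf_le_inf_left _ (le_normalizer_map f))
  exact commutator_mono this this

omit [Fact p.Prime] in
theorem isSylowIn_subgroupOf [Fact p.Prime] {K T : Subgroup G} (hT : IsSylowIn p T K) :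
    IsSylowIn p (T.subgroupOf K) (⊤ : Subgroup K) :=
  ⟨le_top, hT.2.1.comap_subtype, by rw [relIndex_top_right]; exact hT.2.2⟩

/-- Control in a subgroup as a group gives control in the ambient group. -/
theorem fusControls_of_subgroup (h𝓦 : ∀ W ∈ 𝓦, IsCharPFunctor.{u} p W) {K T : Subgroup G}
    (hT : IsSylowIn p T K) (h : FamilyControlsStrongFusionIn p (indFam 𝓦 ↥K) ⊤) :
    FusControls (famIn (indFam 𝓦 G) K T) T K := by
  have h1 := (fusControls_of_family (isConjugacyFunctor_induced_image h𝓦) h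
    (isSylowIn_subgroupOf hT)).map K.subtype K.subtype_injective
  have h2 := h1.mono (map_famIn_induced_le h𝓦 K.subtype (isSylowIn_subgroupOf hT).2.1
    K.subtype_injective.injOn ⊤)
  rwa [map_subgroupOf_eq_of_le hT.1, ← MonoidHom.range_eq_map, range_subtype] at h2

theorem inf_commutator_le_of_subgroup (h𝓦 : ∀ W ∈ 𝓦, IsCharPFunctor.{u} p W) {K T : Subgroup G}
    (hT : IsSylowIn p T K) (h : FamilyControlsTransferIn p (indFam 𝓦 ↥K) ⊤) :
    T ⊓ ⁅K, K⁆ ≤ transferGen (indFam 𝓦 G) K T := by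
  have h1 := Subgroup.map_mono (f := K.subtype)
    (inf_commutator_le_transferGen (isConjugacyFunctor_induced_image h𝓦) h
      (isSylowIn_subgroupOf hT))
  rw [map_inf _ _ _ K.subtype_injective, map_commutator, map_subgroupOf_eq_of_le hT.1,
    ← MonoidHom.range_eq_map, range_subtype] at h1
  refine h1.trans ?_
  have := map_transferGen_induced_le h𝓦 K.subtype (isSylowIn_subgroupOf hT).2.1
    K.subtype_injective.injOn ⊤
  rwa [map_subgroupOf_eq_of_le hT.1, ← MonoidHom.range_eq_map, range_subtype] at this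

theorem isSylowIn_map {S : Subgroup G} (hS : IsSylowIn p S ⊤) (f : G →* H)
    (hf : Function.Surjective f) : IsSylowIn p (S.map f) ⊤ :=
  ⟨le_top, hS.2.1.map f, fun hd => hS.2.2 (by
    rw [relIndex_top_right] at hd ⊢
    exact hd.trans (index_map_dvd S hf))⟩

/-- Control is an isomorphism invariant. -/
theorem familyControlsStrongFusionIn_of_equiv (h𝓦 : ∀ W ∈ 𝓦, IsCharPFunctor.{u} p W)
    [Finite H] (e : G ≃* H) (h : FamilyControlsStrongFusionIn p (indFam 𝓦 G) ⊤) :
    FamilyControlsStrongFusionIn p (indFam 𝓦 H) ⊤ := by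
  obtain ⟨S, hS, hc⟩ := familyControlsStrongFusionIn_iff.mp h
  refine familyControlsStrongFusionIn_iff.mpr ⟨_, isSylowIn_map hS e.toMonoidHom e.surjective, ?_⟩
  have := (hc.map e.toMonoidHom e.injective).mono
    (map_famIn_induced_le h𝓦 e.toMonoidHom hS.2.1 e.injective.injOn ⊤)
  rwa [map_top_of_surjective e.toMonoidHom e.surjective] at this

theorem familyControlsTransferIn_of_equiv (h𝓦 : ∀ W ∈ 𝓦, IsCharPFunctor.{u} p W)
    [Finite H] (e : G ≃* H) (h : FamilyControlsTransferIn p (indFam 𝓦 G) ⊤) :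
    FamilyControlsTransferIn p (indFam 𝓦 H) ⊤ := by
  obtain ⟨S, hS, hc⟩ := familyControlsTransferIn_iff.mp h
  refine familyControlsTransferIn_iff.mpr ⟨_, isSylowIn_map hS e.toMonoidHom e.surjective, ?_⟩
  have h1 := (Subgroup.map_mono (f := e.toMonoidHom) hc).trans
    (map_transferGen_induced_le h𝓦 e.toMonoidHom hS.2.1 e.injective.injOn ⊤)
  rwa [map_inf _ _ _ e.injective, map_commutator,
    map_top_of_surjective e.toMonoidHom e.surjective] at h1

end

end CfsgLib.ConjFunctor
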