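import Cfsg.Agent.ConjFunctor.Basic
import Cfsg.Prelude.Def_LocalEven
import Cfsg.Prelude.Def_PLocal
import Mathlib.RingTheory.Polynomial.Basic
import Mathlib.Algebra.Polynomial.AlgebraMap
import Mathlib.Algebra.CharP.Lemmas

/-!
Engel conditions on abelian normal sections: `[U, g, …, g] ≤ V` element-wise, the norm identity
`(g - 1) ^ (p - 1) = 1 + g + ⋯ + g ^ (p - 1)` in characteristic `p`, and chief factors inside
normal `p`-subgroups.
-/

set_option autoImplicit false

namespace CfsgLib.ConjFunctor

open Cfsg Subgroup Polynomial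
open scoped commutatorElement

/-- `(X - 1) ^ (p - 1) ≡ 1 + X + ⋯ + X ^ (p - 1)` modulo `p`. -/
theorem exists_sub_one_pow_eq_geomSum (p : ℕ) [Fact p.Prime] :
    ∃ q : Polynomial ℤ,
      ((X : Polynomial ℤ) - 1) ^ (p - 1) = (∑ j ∈ Finset.range p, X ^ j) + C (p : ℤ) * q := by
  have hp : 1 ≤ p := (Fact.out : p.Prime).one_lt.le
  have hmap : (((X : Polynomial ℤ) - 1) ^ (p - 1)).map (Int.castRingHom (ZMod p)) =
      (∑ j ∈ Finset.range p, (X : Polynomial ℤ) ^ j).map (Int.castRingHom (ZMod p)) := by
    simp only [Polynomial.map_pow, Polynomial.map_sub, Polynomial.map_X, Polynomial.map_one,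
      Polynomial.map_sum]
    refine mul_right_cancel₀ (show (X : Polynomial (ZMod p)) - 1 ≠ 0 from ?_) ?_
    · rw [← C_1]; exact X_sub_C_ne_zero 1
    · rw [geom_sum_mul, ← pow_succ, Nat.sub_add_cancel hp, sub_pow_char, one_pow]
  have hdvd : C (p : ℤ) ∣ ((X : Polynomial ℤ) - 1) ^ (p - 1) - ∑ j ∈ Finset.range p, X ^ j := by
    rw [C_dvd_iff_dvd_coeff]
    intro i
    have := congrArg (fun f => Polynomial.coeff f i) hmap
    simp only [coeff_map, eq_intCast] at this
    rw [coeff_sub, ← ZMod.intCast_eq_intCast_iff_dvd_sub]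
    exact this.symm
  obtain ⟨q, hq⟩ := hdvd
  exact ⟨q, by rw [← hq]; abel⟩

section
variable {G : Type*} [Group G]

/-- Iterated commutators are conjugation-equivariant. -/
theorem conj_iterate_commutator (g x u : G) : ∀ n : ℕ,
    x * (fun y => ⁅g, y⁆)^[n] u * x⁻¹ = (fun y => ⁅x * g * x⁻¹, y⁆)^[n] (x * u * x⁻¹)
  | 0 => rfl
  | n + 1 => by
    rw [Function.iterate_succ_apply', Function.iterate_succ_apply', ← conj_iterate_commutator g x u n]
    exact map_commutatorElement (MulAut.conj x).toMonoidHom g _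

theorem iterate_commutator_mem_iter (U : Subgroup G) (g : G) {u : G} (hu : u ∈ U) :
    ∀ n : ℕ, (fun y => ⁅g, y⁆)^[n] u ∈ iterCommutator U (Subgroup.zpowers g) n
  | 0 => hu
  | n + 1 => by
    rw [Function.iterate_succ_apply']
    show _ ∈ ⁅iterCommutator U (Subgroup.zpowers g) n, Subgroup.zpowers g⁆
    rw [← commutatorElement_inv]
    exact inv_mem (commutator_mem_commutator (iterate_commutator_mem_iter U g hu n) (mem_zpowers g))

theorem map_iterCommutator {H : Type*} [Group H] (f : G →* H) (A B : Subgroup G) :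
    ∀ n : ℕ, (iterCommutator A B n).map f = iterCommutator (A.map f) (B.map f) n
  | 0 => rfl
  | n + 1 => by
    show (⁅iterCommutator A B n, B⁆).map f = ⁅_, _⁆
    rw [map_commutator, map_iterCommutator f A B n]

theorem addEnd_mul_apply {M : Type*} [AddMonoid M] (f g : AddMonoid.End M) (a : M) :
    (f * g) a = f (g a) := rfl

theorem addEnd_sub_apply {M : Type*} [AddCommGroup M] (f g : AddMonoid.End M) (a : M) :
    (f - g) a = f a - g a := rfl

theorem addEnd_natCast_apply {M : Type*} [AddCommGroup M] (a : M) :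
    ∀ n : ℕ, (n : AddMonoid.End M) a = n • a
  | 0 => by rw [Nat.cast_zero, zero_nsmul]; rfl
  | n + 1 => by
    rw [Nat.cast_succ, succ_nsmul, ← addEnd_natCast_apply a n]
    rfl

theorem addEnd_sum_apply {M ι : Type*} [AddCommGroup M] (s : Finset ι) (f : ι → AddMonoid.End M)
    (a : M) : (∑ i ∈ s, f i) a = ∑ i ∈ s, f i a :=
  map_sum ({ toFun := fun g => g a, map_zero' := rfl, map_add' := fun _ _ => rfl } :
    AddMonoid.End M →+ M) f s

variable {A : Subgroup G} {e : G}

/-- Conjugation by `e` as an additive endomorphism of `A`. -/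
def conjEnd (he : e ∈ Subgroup.normalizer (A : Set G)) : AddMonoid.End (Additive A) :=
  MonoidHom.toAdditive
    { toFun := fun a => ⟨e * a * e⁻¹, (mem_normalizer_iff.mp he a).mp a.2⟩
      map_one' := by ext; simp
      map_mul' := fun a b => by ext; simp [mul_assoc] }

theorem conjEnd_apply (he : e ∈ Subgroup.normalizer (A : Set G)) (a : Additive A) :
    ((conjEnd he a).toMul : G) = e * (a.toMul : G) * e⁻¹ := rfl

theorem conjEnd_pow_apply (he : e ∈ Subgroup.normalizer (A : Set G)) (a : Additive A) :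
    ∀ j : ℕ, (((conjEnd he ^ j) a).toMul : G) = e ^ j * (a.toMul : G) * (e ^ j)⁻¹
  | 0 => by simp
  | j + 1 => by
    rw [pow_succ', addEnd_mul_apply, conjEnd_apply,
      conjEnd_pow_apply he a j, pow_succ', mul_inv_rev]
    simp [mul_assoc]

variable [hA : IsMulCommutative A]

open scoped IsMulCommutative in
theorem conjEnd_sub_one_pow_apply (he : e ∈ Subgroup.normalizer (A : Set G)) (a : Additive A) :
    ∀ j : ℕ, ((((conjEnd he - 1) ^ j) a).toMul : G) = (fun y => ⁅e, y⁆)^[j] (a.toMul : G)
  | 0 => by simp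
  | j + 1 => by
    rw [pow_succ', addEnd_mul_apply, addEnd_sub_apply,
      Function.iterate_succ_apply', ← conjEnd_sub_one_pow_apply he a j, commutatorElement_def,
      show (1 : AddMonoid.End (Additive A)) (((conjEnd he - 1) ^ j) a) = ((conjEnd he - 1) ^ j) a from rfl,
      toMul_sub, Subgroup.coe_div, conjEnd_apply, div_eq_mul_inv]

open scoped IsMulCommutative in
/-- `iterCommutator` from the element-wise condition, on abelian subgroups. -/
theorem iterCommutator_eq_bot_of_forall (he : e ∈ Subgroup.normalizer (A : Set G)) {n : ℕ}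
    (h : ∀ a ∈ A, (fun y => ⁅e, y⁆)^[n] a = 1) :
    iterCommutator A (Subgroup.zpowers e) n = ⊥ := by
  let δ : AddMonoid.End (Additive A) := conjEnd he - 1
  let Im : ℕ → Subgroup G := fun k =>
    ((AddMonoidHom.toMultiplicative (δ ^ k)).range).map A.subtype
  have memIm : ∀ k x, x ∈ Im k ↔ ∃ a : Additive A, (((δ ^ k) a).toMul : G) = x := by
    intro k x
    constructor
    · rintro ⟨_, ⟨a, rfl⟩, rfl⟩; exact ⟨Additive.ofMul a.toAdd.toMul, rfl⟩
    · rintro ⟨a, rfl⟩; exact ⟨_, ⟨Multiplicative.ofAdd a, rfl⟩, rfl⟩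
  have hImA : ∀ k, Im k ≤ A := fun k => map_subtype_le _
  have key : ∀ k, iterCommutator A (Subgroup.zpowers e) k ≤ Im k := by
    intro k
    induction k with
    | zero => exact fun x hx => (memIm 0 x).mpr ⟨Additive.ofMul ⟨x, hx⟩, rfl⟩
    | succ k ih =>
      show ⁅_, _⁆ ≤ _
      rw [commutator_le]
      intro x hx y hy
      obtain ⟨a, rfl⟩ := (memIm k x).mp (ih hx)
      obtain ⟨i, rfl⟩ := mem_zpowers_iff.mp hy
      -- `⁅e ^ i, x⁆` lies in the image of `δ ^ (k + 1)` for every integer `i`
      rw [← commutatorElement_inv]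
      refine inv_mem ?_
      suffices H : ∀ (i : ℤ) (b : Additive A),
          ⁅e ^ i, (((δ ^ k) b).toMul : G)⁆ ∈ Im (k + 1) from H i a
      intro i
      have hcomm : ∀ b, conjEnd he ((δ ^ k) b) = (δ ^ k) (conjEnd he b) := fun b => by
        have : Commute (conjEnd he) δ := (Commute.refl _).sub_right (Commute.one_right _)
        exact congrArg (fun f : AddMonoid.End (Additive A) => f b) (this.pow_right k).eq
      have hone : ∀ b, ⁅e, (((δ ^ k) b).toMul : G)⁆ ∈ Im (k + 1) := fun b =>
        (memIm _ _).mpr ⟨b, by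
          rw [conjEnd_sub_one_pow_apply, conjEnd_sub_one_pow_apply, Function.iterate_succ_apply']⟩
      induction i using Int.induction_on with
      | zero => intro b; simp [(Im (k + 1)).one_mem]
      | succ m ihm =>
        intro b
        have h1 := ihm (conjEnd he b)
        rw [← hcomm, conjEnd_apply] at h1
        have h3 := mul_mem h1 (hone b)
        rw [commutatorElement_def, commutatorElement_def] at h3
        rw [zpow_add_one, commutatorElement_def]
        simpa [mul_assoc] using h3
      | pred m ihm =>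
        intro b
        let c : Additive A := Additive.ofMul ⟨e⁻¹ * (b.toMul : G) * e,
          (mem_normalizer_iff''.mp he _).mp b.toMul.2⟩
        have hc : conjEnd he c = b := by
          apply Additive.toMul.injective
          ext
          rw [conjEnd_apply]
          simp [c, mul_assoc]
        have h1 := ihm c
        have h2 := hone c
        have h4 : (((δ ^ k) b).toMul : G) = e * (((δ ^ k) c).toMul : G) * e⁻¹ := by
          rw [← hc, ← hcomm, conjEnd_apply]
        have h3 := mul_mem h1 (inv_mem h2)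
        rw [h4, zpow_sub_one, commutatorElement_def]
        rw [commutatorElement_def, commutatorElement_def] at h3
        simpa [mul_assoc] using h3
  refine le_bot_iff.mp ((key n).trans fun x hx => ?_)
  obtain ⟨a, rfl⟩ := (memIm n x).mp hx
  rw [mem_bot, conjEnd_sub_one_pow_apply]
  exact h _ a.toMul.2

open scoped IsMulCommutative in
theorem conjEnd_geomSum_eq_zero {p : ℕ} [Fact p.Prime] (he : e ∈ Subgroup.normalizer (A : Set G))
    (hexp : ∀ a ∈ A, a ^ p = 1) (h : ∀ a ∈ A, (fun y => ⁅e, y⁆)^[p - 1] a = 1) :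
    ∑ j ∈ Finset.range p, conjEnd he ^ j = 0 := by
  obtain ⟨q, hq⟩ := exists_sub_one_pow_eq_geomSum p
  have h0 : (conjEnd he - 1) ^ (p - 1) = 0 := by
    refine DFunLike.ext _ _ fun a => Additive.toMul.injective (Subtype.ext ?_)
    rw [conjEnd_sub_one_pow_apply]
    exact h _ a.toMul.2
  have h1 := congrArg (Polynomial.aeval (R := ℤ) (conjEnd he)) hq
  simp only [map_pow, map_sub, Polynomial.aeval_X, map_one, map_add, map_sum, map_mul,
    Polynomial.aeval_C] at h1
  rw [h0] at h1
  have hp0 : ((p : ℤ) : AddMonoid.End (Additive A)) = 0 := by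
    rw [Int.cast_natCast]
    refine DFunLike.ext _ _ fun a => ?_
    rw [addEnd_natCast_apply]
    refine Additive.toMul.injective (Subtype.ext ?_)
    simp [toMul_nsmul, hexp _ a.toMul.2]
  rw [eq_intCast, hp0, zero_mul, add_zero] at h1
  exact h1.symm

open scoped IsMulCommutative in
/-- The norm of an Engel element is trivial. -/
theorem prod_conj_eq_one {p : ℕ} [Fact p.Prime] (he : e ∈ Subgroup.normalizer (A : Set G))
    (hexp : ∀ a ∈ A, a ^ p = 1) (h : ∀ a ∈ A, (fun y => ⁅e, y⁆)^[p - 1] a = 1) {a : G}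
    (ha : a ∈ A) : ((List.range p).map fun j => e ^ j * a * (e ^ j)⁻¹).prod = 1 := by
  have h0 := congrArg (fun f : AddMonoid.End (Additive A) => f (Additive.ofMul (⟨a, ha⟩ : A)))
    (conjEnd_geomSum_eq_zero he hexp h)
  rw [addEnd_sum_apply] at h0
  change _ = (0 : Additive A) at h0
  have h2 : A.subtype (∏ j ∈ Finset.range p,
      ((conjEnd he ^ j) (Additive.ofMul (⟨a, ha⟩ : A))).toMul) = 1 := by
    rw [show (∏ j ∈ Finset.range p, ((conjEnd he ^ j) (Additive.ofMul (⟨a, ha⟩ : A))).toMul) =
      (∑ j ∈ Finset.range p, (conjEnd he ^ j) (Additive.ofMul (⟨a, ha⟩ : A))).toMul from rfl]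
    rw [h0]
    rfl
  rw [← List.toFinset_range, List.prod_toFinset _ List.nodup_range, map_list_prod,
    List.map_map] at h2
  rw [← h2]
  congr 1
  refine List.map_congr_left fun j _ => ?_
  exact (conjEnd_pow_apply he (Additive.ofMul ⟨a, ha⟩) j).symm

end

section
variable {G : Type*} [Group G] {U V : Subgroup G} [V.Normal]

theorem iterCommutator_le_iff [U.Normal] (hab : ⁅U, U⁆ ≤ V) (e : G) (n : ℕ) :
    iterCommutator U (Subgroup.zpowers e) n ≤ V ↔ ∀ u ∈ U, (fun y => ⁅e, y⁆)^[n] u ∈ V := by
  refine ⟨fun h u hu => h (iterate_commutator_mem_iter U e hu n), fun h => ?_⟩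
  let f := QuotientGroup.mk' V
  have hUn : (U.map f).Normal := Subgroup.Normal.map ‹_› f (QuotientGroup.mk'_surjective V)
  have : IsMulCommutative (U.map f) := by
    rw [← le_centralizer_iff_isMulCommutative, ← commutator_eq_bot_iff_le_centralizer,
      ← map_commutator, Subgroup.map_eq_bot_iff, QuotientGroup.ker_mk']
    exact hab
  have hf : ∀ (k : ℕ) (u : G), f ((fun y => ⁅e, y⁆)^[k] u) = (fun y => ⁅f e, y⁆)^[k] (f u) := by
    intro k u
    induction k with
    | zero => rfl
    | succ k ih =>
      rw [Function.iterate_succ_apply', Function.iterate_succ_apply', map_commutatorElement, ih]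
  rw [← QuotientGroup.ker_mk' V, ← Subgroup.map_eq_bot_iff, map_iterCommutator, MonoidHom.map_zpowers]
  refine iterCommutator_eq_bot_of_forall (by rw [normalizer_eq_top (H := U.map f)]; trivial) ?_
  rintro _ ⟨u, hu, rfl⟩
  rw [← hf, ← MonoidHom.mem_ker, QuotientGroup.ker_mk']
  exact h u hu

/-- The norm of an Engel element on an elementary abelian normal section. -/
theorem prod_conj_mem [U.Normal] {p : ℕ} [Fact p.Prime] (hab : ⁅U, U⁆ ≤ V)
    (hexp : ∀ u ∈ U, u ^ p ∈ V) {e : G}
    (h : iterCommutator U (Subgroup.zpowers e) (p - 1) ≤ V) {u : G} (hu : u ∈ U) :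
    ((List.range p).map fun j => e ^ j * u * (e ^ j)⁻¹).prod ∈ V := by
  let f := QuotientGroup.mk' V
  have hUn : (U.map f).Normal := Subgroup.Normal.map ‹_› f (QuotientGroup.mk'_surjective V)
  have : IsMulCommutative (U.map f) := by
    rw [← le_centralizer_iff_isMulCommutative, ← commutator_eq_bot_iff_le_centralizer,
      ← map_commutator, Subgroup.map_eq_bot_iff, QuotientGroup.ker_mk']
    exact hab
  rw [← QuotientGroup.ker_mk' V, MonoidHom.mem_ker, map_list_prod, List.map_map]
  have h1 := prod_conj_eq_one (A := U.map f) (e := f e) (p := p)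
    (by rw [normalizer_eq_top (H := U.map f)]; trivial) ?_ ?_ (mem_map_of_mem f hu)
  · rw [← h1]; congr 1
  · rintro _ ⟨w, hw, rfl⟩
    rw [← map_pow, ← MonoidHom.mem_ker, QuotientGroup.ker_mk']
    exact hexp w hw
  · intro a ha
    have := iterate_commutator_mem_iter (U.map f) (f e) ha (p - 1)
    rw [← MonoidHom.map_zpowers, ← map_iterCommutator, Subgroup.map_eq_bot_iff _ |>.mpr
      (by rwa [QuotientGroup.ker_mk']), mem_bot] at this
    exact this

end

/-- A chief factor inside a normal `p`-subgroup is elementary abelian. -/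
theorem chiefFactor_elementary {G : Type*} [Group G] [Finite G] {p : ℕ} [Fact p.Prime]
    {U V : Subgroup G} (h : IsChiefFactor U V) (hp : IsPGroup p U) :
    ⁅U, U⁆ ≤ V ∧ ∀ u ∈ U, u ^ p ∈ V := by
  obtain ⟨hlt, hU, hV, hmin⟩ := h
  let f := QuotientGroup.mk' V
  let A : Subgroup (G ⧸ V) := U.map f
  have hA : A.Normal := Subgroup.Normal.map hU f (QuotientGroup.mk'_surjective V)
  have hAp : IsPGroup p A := hp.map f
  have hA0 : A ≠ ⊥ := fun h => hlt.not_ge (by
    rw [Subgroup.map_eq_bot_iff, QuotientGroup.ker_mk'] at h; exact h)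
  have hmin' : ∀ B : Subgroup (G ⧸ V), B.Normal → B ≤ A → B = ⊥ ∨ B = A := by
    intro B hB hBA
    rcases hmin (B.comap f) (hB.comap f) (by
        conv_lhs => rw [← QuotientGroup.ker_mk' V]
        exact ker_le_comap f B)
        ((comap_mono hBA).trans (by
          rw [comap_map_eq, QuotientGroup.ker_mk']; exact sup_le le_rfl hlt.le)) with h | h
    · left
      rw [← map_comap_eq_self_of_surjective (QuotientGroup.mk'_surjective V) B, h, Subgroup.map_eq_bot_iff,
        QuotientGroup.ker_mk']
    · right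
      rw [← map_comap_eq_self_of_surjective (QuotientGroup.mk'_surjective V) B, h]
  have hcomm : ⁅A, A⁆ = ⊥ := by
    rcases hmin' ⁅A, A⁆ inferInstance (commutator_le_self A) with h | h
    · exact h
    · exfalso
      have : Group.IsNilpotent A := hAp.isNilpotent
      have : Nontrivial A := (nontrivial_iff_ne_bot A).mpr hA0
      have h1 : commutator A = ⊤ := by
        apply map_injective A.subtype_injective
        rw [map_subtype_commutator, h, ← MonoidHom.range_eq_map, range_subtype]
      exact (Group.IsSolvable.commutator_lt_top_of_nontrivial A).ne h1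
  refine ⟨?_, fun u hu => ?_⟩
  · rwa [← map_commutator, Subgroup.map_eq_bot_iff, QuotientGroup.ker_mk'] at hcomm
  · have hab : ∀ a ∈ A, ∀ b ∈ A, Commute a b := fun a ha b hb =>
      commutatorElement_eq_one_iff_commute.mp (mem_bot.mp (hcomm ▸ commutator_mem_commutator ha hb))
    let B : Subgroup (G ⧸ V) :=
      { carrier := {a | a ∈ A ∧ a ^ p = 1}
        one_mem' := ⟨A.one_mem, one_pow _⟩
        mul_mem' := fun {a b} ha hb => ⟨A.mul_mem ha.1 hb.1, by
          rw [(hab a ha.1 b hb.1).mul_pow, ha.2, hb.2, one_mul]⟩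
        inv_mem' := fun {a} ha => ⟨A.inv_mem ha.1, by rw [inv_pow, ha.2, inv_one]⟩ }
    have hB : B.Normal := ⟨fun a ha x => ⟨hA.conj_mem a ha.1 x, by rw [conj_pow, ha.2]; simp⟩⟩
    rcases hmin' B hB (fun a ha => ha.1) with h | h
    · exfalso
      have : Nontrivial A := (nontrivial_iff_ne_bot A).mpr hA0
      obtain ⟨n, hn⟩ := IsPGroup.iff_card.mp hAp
      have hdvd : p ∣ Nat.card A := by
        rw [hn]
        refine dvd_pow_self p fun h0 => ?_
        rw [h0, pow_zero] at hn
        exact (Finite.one_lt_card (α := A)).ne' hn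
      obtain ⟨a, ha⟩ := exists_prime_orderOf_dvd_card' p hdvd
      have haB : (a : G ⧸ V) ∈ B := ⟨a.2, by
        have := congrArg Subtype.val (ha ▸ pow_orderOf_eq_one a)
        simpa using this⟩
      rw [h, mem_bot] at haB
      rw [show a = 1 from Subtype.ext haB, orderOf_one] at ha
      exact (Fact.out : p.Prime).one_lt.ne ha
    · have : f u ∈ B := h ▸ mem_map_of_mem f hu
      rw [← QuotientGroup.ker_mk' V, MonoidHom.mem_ker, map_pow]
      exact this.2

end CfsgLib.ConjFunctor
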