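import Cfsg.Agent.ConjFunctor.Basic
import Mathlib.Algebra.BigOperators.Group.Finset.Piecewise
import Mathlib.Algebra.BigOperators.Group.Finset.Sigma
import Mathlib.GroupTheory.GroupAction.Basic

/-!
Glauberman's orbit lemma: if every element of a conjugation-invariant set `D` of a `p`-group `S`
kills the sums over its `p`-cycles of a function `F`, then only the points fixed by all of `D`
contribute to the total product of `F`.
-/

set_option autoImplicit false

namespace CfsgLib.ConjFunctor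

open Cfsg Subgroup

variable {G : Type*} [Group G] {p : ℕ}

/-- A proper subgroup of a finite `p`-group lies in a normal subgroup of index `p`. -/
theorem exists_normal_index_eq {S : Type*} [Group S] [Finite S] [Fact p.Prime] (hS : IsPGroup p S)
    {R : Subgroup S} (hR : R ≠ ⊤) : ∃ M : Subgroup S, R ≤ M ∧ M.Normal ∧ M.index = p := by
  obtain ⟨n, hn⟩ := IsPGroup.iff_card.mp hS
  obtain ⟨m, hm⟩ := IsPGroup.iff_card.mp (hS.to_subgroup R)
  have hmn : m < n := by
    have h1 := card_mul_index R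
    rw [hm, hn] at h1
    by_contra hc
    have h2 : p ^ n ≤ p ^ m := Nat.pow_le_pow_right (Fact.out : p.Prime).pos (not_lt.mp hc)
    have h3 : Nat.card S ≤ Nat.card R := by rw [hn, hm]; exact h2
    exact hR (eq_top_of_le_card R h3)
  obtain ⟨k, rfl⟩ : ∃ k, n = k + 1 := ⟨n - 1, by omega⟩
  obtain ⟨M, hM, hRM⟩ := Sylow.exists_subgroup_card_pow_prime_le p
    (n := m) (m := k) (by rw [hn]; exact pow_dvd_pow p (Nat.le_succ k)) R hm (by omega)
  have hidx : M.index = p := by
    have h1 := card_mul_index M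
    rw [hM, hn, pow_succ] at h1
    exact Nat.eq_of_mul_eq_mul_left (pow_pos (Fact.out : p.Prime).pos k) h1
  refine ⟨M, hRM, ?_, hidx⟩
  have : Group.IsNilpotent S := hS.isNilpotent
  have hne : M < ⊤ := lt_top_iff_ne_top.mpr fun h => by
    rw [h, index_top] at hidx
    exact (Fact.out : p.Prime).one_lt.ne hidx
  have hlt := Group.normalizerCondition_of_isNilpotent M hne
  rw [← normalizer_eq_top_iff]
  have h2 := relIndex_mul_index hlt.le
  rw [hidx] at h2
  rcases (Nat.dvd_prime (Fact.out : p.Prime)).mp (Dvd.intro_left _ h2) with h3 | h3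
  · exact index_eq_one.mp h3
  · rw [h3] at h2
    have : M.relIndex (Subgroup.normalizer (M : Set S)) = 1 :=
      Nat.eq_of_mul_eq_mul_right (Fact.out : p.Prime).pos (by rw [h2, one_mul])
    exact absurd (relIndex_eq_one.mp this) hlt.not_ge

variable {Ω A : Type*} [MulAction G Ω] [Fintype Ω] [DecidableEq Ω] [CommMonoid A]

open scoped Classical in
/-- The points of the orbit of `ω` under `S`. -/
noncomputable def orbitFinset (S : Subgroup G) (ω : Ω) : Finset Ω :=
  Finset.univ.filter fun x => ∃ s ∈ S, s • ω = x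

omit [DecidableEq Ω] in
theorem mem_orbitFinset {S : Subgroup G} {ω x : Ω} :
    x ∈ orbitFinset S ω ↔ ∃ s ∈ S, s • ω = x := by
  simp [orbitFinset]

omit [DecidableEq Ω] in
theorem orbitFinset_eq_of_mem {S : Subgroup G} {ω x : Ω} (h : x ∈ orbitFinset S ω) :
    orbitFinset S x = orbitFinset S ω := by
  obtain ⟨s, hs, rfl⟩ := mem_orbitFinset.mp h
  ext y
  simp only [mem_orbitFinset, smul_smul]
  exact ⟨fun ⟨t, ht, e⟩ => ⟨t * s, mul_mem ht hs, e⟩,
    fun ⟨t, ht, e⟩ => ⟨t * s⁻¹, mul_mem ht (inv_mem hs), by rwa [inv_mul_cancel_right]⟩⟩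

variable [Finite G] [Fact p.Prime]

theorem prod_orbit_eq_one {D : Set G} {F : Ω → A} {S : Subgroup G} (hS : IsPGroup p S)
    (hinv : ∀ s ∈ S, ∀ e ∈ D, e ∈ S → s * e * s⁻¹ ∈ D)
    (hD : ∀ e ∈ D, e ∈ S → ∀ x, ∏ j ∈ Finset.range p, F (e ^ j • x) = 1)
    (ω : Ω) (hω : ∃ e ∈ D, e ∈ S ∧ e • ω ≠ ω) : ∏ x ∈ orbitFinset S ω, F x = 1 := by
  suffices H : ∀ n : ℕ, ∀ M : Subgroup G, Nat.card M = n → M ≤ S → ∀ ω : Ω,
      (∃ e ∈ D, e ∈ M ∧ e • ω ≠ ω) → ∏ x ∈ orbitFinset M ω, F x = 1 from H _ S rfl le_rfl ω hω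
  intro n
  induction n using Nat.strongRecOn with
  | ind n ih =>
  intro T hn hT ω hω
  obtain ⟨e₀, he₀D, he₀T, he₀⟩ := hω
  let R : Subgroup T := (MulAction.stabilizer G ω).subgroupOf T
  have hR : R ≠ ⊤ := fun h => he₀ (by
    have : (⟨e₀, he₀T⟩ : T) ∈ R := h ▸ Subgroup.mem_top _
    exact this)
  obtain ⟨M₀, hRM, hMn, hidx⟩ := exists_normal_index_eq (hS.to_le hT) hR
  let M : Subgroup G := M₀.map T.subtype
  have hMT : M ≤ T := map_subtype_le _
  have memM : ∀ x : T, (x : G) ∈ M ↔ x ∈ M₀ := fun x => mem_map_iff_mem T.subtype_injective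
  have hMcard : Nat.card M < n := by
    rw [← hn, show Nat.card M = Nat.card M₀ from card_map_of_injective T.subtype_injective,
      ← card_mul_index M₀, hidx]
    exact lt_mul_of_one_lt_right Nat.card_pos (Fact.out : p.Prime).one_lt
  -- choose the element stepping between the suborbits
  obtain ⟨y, hy, hyD⟩ : ∃ y : T, y ∉ M₀ ∧
      ((y : G) ∈ D ∨ ∀ e ∈ D, e ∈ T → e ∈ M) := by
    by_cases h : ∀ e ∈ D, e ∈ T → e ∈ M
    · obtain ⟨y, hy⟩ : ∃ y : T, y ∉ M₀ := by
        by_contra hc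
        push Not at hc
        rw [show M₀ = ⊤ from eq_top_iff.mpr (fun x _ => hc x), index_top] at hidx
        exact (Fact.out : p.Prime).one_lt.ne hidx
      exact ⟨y, hy, Or.inr h⟩
    · push Not at h
      obtain ⟨e, heD, heT, heM⟩ := h
      exact ⟨⟨e, heT⟩, fun he => heM ((memM _).mpr he), Or.inl heD⟩
  let q : T →* T ⧸ M₀ := QuotientGroup.mk' M₀
  have hqcard : Nat.card (T ⧸ M₀) = p := hidx
  have hord : orderOf (q y) = p := by
    have h1 : orderOf (q y) ∣ p := hqcard ▸ orderOf_dvd_natCard _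
    rcases (Nat.dvd_prime (Fact.out : p.Prime)).mp h1 with h | h
    · rw [orderOf_eq_one_iff] at h
      exact absurd ((QuotientGroup.eq_one_iff y).mp h) hy
    · exact h
  have hgen : ∀ t : T, ∃ j < p, ∃ m : T, m ∈ M₀ ∧ t = y ^ j * m := by
    intro t
    have : q t ∈ Subgroup.zpowers (q y) := by
      have htop : Subgroup.zpowers (q y) = ⊤ := by
        refine eq_top_of_card_eq _ ?_
        rw [Nat.card_zpowers, hord, hqcard]
      exact htop ▸ Subgroup.mem_top _
    obtain ⟨j, hj⟩ := (mem_powers_iff_mem_zpowers.mpr this)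
    refine ⟨j % p, Nat.mod_lt _ (Fact.out : p.Prime).pos, (y ^ (j % p))⁻¹ * t, ?_, by group⟩
    refine QuotientGroup.eq.mp (show q (y ^ (j % p)) = q t from ?_)
    rw [map_pow, ← hord, pow_mod_orderOf]
    exact hj
  have hdec : ∏ x ∈ orbitFinset T ω, F x =
      ∏ j ∈ Finset.range p, ∏ x ∈ orbitFinset M ω, F ((y : G) ^ j • x) := by
    rw [← Finset.prod_product']
    refine (Finset.prod_bij (fun jx _ => (y : G) ^ jx.1 • jx.2) ?_ ?_ ?_ (fun _ _ => rfl)).symm
    · rintro ⟨j, x⟩ hjx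
      obtain ⟨-, hx⟩ := Finset.mem_product.mp hjx
      obtain ⟨m, hm, rfl⟩ := mem_orbitFinset.mp hx
      exact mem_orbitFinset.mpr ⟨(y : G) ^ j * m,
        T.mul_mem (T.pow_mem y.2 j) (hMT hm), mul_smul _ _ _⟩
    · rintro ⟨i, x⟩ hix ⟨j, x'⟩ hjx h
      obtain ⟨hi, hx⟩ := Finset.mem_product.mp hix
      obtain ⟨hj, hx'⟩ := Finset.mem_product.mp hjx
      obtain ⟨m, hm, rfl⟩ := mem_orbitFinset.mp hx
      obtain ⟨m', hm', rfl⟩ := mem_orbitFinset.mp hx'
      simp only [smul_smul] at h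
      obtain ⟨m₁, hm₁, rfl⟩ := hm
      obtain ⟨m₂, hm₂, rfl⟩ := hm'
      have hmem : (y ^ j * m₂)⁻¹ * (y ^ i * m₁) ∈ M₀ := by
        refine hRM ?_
        show _ ∈ MulAction.stabilizer G ω
        rw [MulAction.mem_stabilizer_iff]
        simp only [Subgroup.subtype_apply] at h ⊢
        push_cast
        rw [mul_smul, inv_smul_eq_iff]
        exact h
      have hq : q y ^ i = q y ^ j := by
        have h1 : q (y ^ j * m₂) = q (y ^ i * m₁) := QuotientGroup.eq.mpr hmem
        rw [map_mul, map_mul, map_pow, map_pow, show q m₂ = 1 from (QuotientGroup.eq_one_iff _).mpr hm₂,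
          show q m₁ = 1 from (QuotientGroup.eq_one_iff _).mpr hm₁, mul_one, mul_one] at h1
        exact h1.symm
      have hij : i = j := by
        have := pow_eq_pow_iff_modEq.mp hq
        rw [hord] at this
        exact Nat.ModEq.eq_of_lt_of_lt this (Finset.mem_range.mp hi) (Finset.mem_range.mp hj)
      subst hij
      simp only [mul_smul, smul_left_cancel_iff] at h
      exact Prod.ext rfl h
    · intro z hz
      obtain ⟨t, ht, rfl⟩ := mem_orbitFinset.mp hz
      obtain ⟨j, hj, m, hm, hjm⟩ := hgen ⟨t, ht⟩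
      refine ⟨(j, (m : G) • ω), Finset.mem_product.mpr ⟨Finset.mem_range.mpr hj,
        mem_orbitFinset.mpr ⟨m, (memM m).mpr hm, rfl⟩⟩, ?_⟩
      have := congrArg Subtype.val hjm
      simp only [Subgroup.coe_mul, SubmonoidClass.coe_pow] at this
      rw [this, mul_smul]
  rw [hdec]
  rcases hyD with hyD | hall
  · rw [Finset.prod_comm]
    exact Finset.prod_eq_one fun x _ => hD _ hyD (hT y.2) x
  · refine Finset.prod_eq_one fun j _ => ?_
    have hset : ∏ x ∈ orbitFinset M ω, F ((y : G) ^ j • x) =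
        ∏ x ∈ orbitFinset M ((y : G) ^ j • ω), F x := by
      refine Finset.prod_bij (fun x _ => (y : G) ^ j • x) ?_ (fun a _ b _ h => smul_left_cancel _ h)
        ?_ (fun _ _ => rfl)
      · intro x hx
        obtain ⟨_, ⟨m, hm, rfl⟩, rfl⟩ := mem_orbitFinset.mp hx
        refine mem_orbitFinset.mpr ⟨(((y ^ j * m * (y ^ j)⁻¹ : T)) : G),
          (memM _).mpr (hMn.conj_mem m hm _), ?_⟩
        simp [smul_smul, mul_assoc]
      · intro z hz
        obtain ⟨_, ⟨m, hm, rfl⟩, rfl⟩ := mem_orbitFinset.mp hz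
        refine ⟨(((y ^ j)⁻¹ * m * y ^ j : T) : G) • ω, mem_orbitFinset.mpr ⟨_,
          (memM _).mpr (by simpa using hMn.conj_mem m hm (y ^ j)⁻¹), rfl⟩, ?_⟩
        simp [smul_smul, mul_assoc]
    rw [hset]
    refine ih _ hMcard M rfl (hMT.trans hT) _ ?_
    have hm := T.pow_mem y.2 j
    refine ⟨(y : G) ^ j * e₀ * ((y : G) ^ j)⁻¹, hinv _ (hT hm) e₀ he₀D (hT he₀T), ?_, ?_⟩
    · exact hall _ (hinv _ (hT hm) e₀ he₀D (hT he₀T)) (T.mul_mem (T.mul_mem hm he₀T) (T.inv_mem hm))
    · simpa [smul_smul, mul_assoc, ← mul_smul] using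
        fun h => he₀ (smul_left_cancel ((y : G) ^ j) (by simpa [← mul_smul] using h))

open scoped Classical in
/-- Only the common fixed points of `D` contribute. -/
theorem prod_eq_prod_fixed {D : Set G} {F : Ω → A} {S : Subgroup G} (hS : IsPGroup p S)
    (hinv : ∀ s ∈ S, ∀ e ∈ D, e ∈ S → s * e * s⁻¹ ∈ D)
    (hD : ∀ e ∈ D, e ∈ S → ∀ x, ∏ j ∈ Finset.range p, F (e ^ j • x) = 1) :
    ∏ x, F x = ∏ x ∈ Finset.univ.filter (fun x => ∀ e ∈ D, e ∈ S → e • x = x), F x := by
  rw [← Finset.prod_filter_mul_prod_filter_not Finset.univ (fun x => ∀ e ∈ D, e ∈ S → e • x = x)]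
  have : ∏ x ∈ Finset.univ.filter (fun x => ¬ ∀ e ∈ D, e ∈ S → e • x = x), F x = 1 := by
    rw [← Finset.prod_fiberwise_of_maps_to (t := Finset.univ) (g := fun x => orbitFinset S x)
      (fun _ _ => Finset.mem_univ _)]
    refine Finset.prod_eq_one fun o _ => ?_
    by_cases ho : ∃ x, orbitFinset S x = o ∧ ¬ ∀ e ∈ D, e ∈ S → e • x = x
    · obtain ⟨x, rfl, hx⟩ := ho
      have heq : ((Finset.univ.filter fun x => ¬ ∀ e ∈ D, e ∈ S → e • x = x).filter
          fun z => orbitFinset S z = orbitFinset S x) = orbitFinset S x := by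
        ext z
        constructor
        · intro hz
          obtain ⟨-, hz⟩ := Finset.mem_filter.mp hz
          rw [← hz]
          exact mem_orbitFinset.mpr ⟨1, one_mem _, one_smul _ _⟩
        · intro hz
          refine Finset.mem_filter.mpr ⟨Finset.mem_filter.mpr ⟨Finset.mem_univ _, fun hfix => ?_⟩,
            orbitFinset_eq_of_mem hz⟩
          obtain ⟨s, hs, rfl⟩ := mem_orbitFinset.mp hz
          refine hx fun e he heS => ?_
          have h1 := hfix _ (hinv s hs e he heS) (S.mul_mem (S.mul_mem hs heS) (S.inv_mem hs))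
          rw [← mul_smul, inv_mul_cancel_right, mul_smul] at h1
          exact smul_left_cancel _ h1
      rw [heq]
      push Not at hx
      obtain ⟨e, he, heS, hne⟩ := hx
      exact prod_orbit_eq_one hS hinv hD x ⟨e, he, heS, hne⟩
    · refine Finset.prod_eq_one fun z hz => absurd ?_ ho
      obtain ⟨h1, h2⟩ := Finset.mem_filter.mp hz
      exact ⟨z, h2, (Finset.mem_filter.mp h1).2⟩
  rw [this, mul_one]

end CfsgLib.ConjFunctor
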