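import Cfsg.Agent.ConjFunctor.MainCor
import Cfsg.Agent.ConjFunctor.Engel
import Cfsg.Agent.ConjFunctor.Orbit

/-!
The structure of a minimal failure of transfer control (Yoshida, Glauberman).
-/

set_option autoImplicit false

universe u

namespace CfsgLib.ConjFunctor

open Cfsg Subgroup
open scoped commutatorElement

variable {p : ℕ} [Fact p.Prime]

section
variable {X : Type*} [Group X]

theorem list_prod_mem_map {ι : Type*} (U : Subgroup X) {f : ι → X} (hf : ∀ i, f i ∈ U) (l : List ι) :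
    (l.map f).prod ∈ U :=
  U.list_prod_mem (by simpa using fun i _ => hf i)

variable [Finite X]

/-- If `M` is the unique maximal subgroup over `S` and `O_p(X) ∩ X'` is not in `T₀ ⊇ O_p(X) ∩ M'`,
then no element of `S` outside `O_p(X)` satisfies the Engel condition on all chief factors
below `O_p(X)`. -/
theorem exists_bad_chiefFactor {S T₀ M : Subgroup X} (hS : IsSylowIn p S ⊤) (hSM : S ≤ M)
    (hmax : ∀ H : Subgroup X, S ≤ H → H ≠ ⊤ → H ≤ M) (hT₀ : T₀ ≤ pCore p X)
    (hQM : pCore p X ⊓ ⁅M, M⁆ ≤ T₀) (hne : ¬ pCore p X ⊓ commutator X ≤ T₀)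
    {u : X} (hu : u ∈ S) (huQ : u ∉ pCore p X) :
    ∃ U V : Subgroup X, IsChiefFactor U V ∧ U ≤ pCore p X ∧
      ¬ iterCommutator U (zpowers u) (p - 1) ≤ V := by
  classical
  by_contra hcon
  push Not at hcon
  obtain ⟨U, -, hUmin⟩ := Finite.exists_le_minimal (p := fun U : Subgroup X =>
      U.Normal ∧ U ≤ pCore p X ⊓ commutator X ∧ ¬ U ≤ T₀)
    (a := pCore p X ⊓ commutator X) ⟨inferInstance, le_rfl, hne⟩
  obtain ⟨hUn, hUle, hUT⟩ := hUmin.prop
  obtain ⟨V, hVn, hVlt, hVmax⟩ : ∃ V : Subgroup X, V.Normal ∧ V < U ∧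
      ∀ V' : Subgroup X, V'.Normal → V' < U → V ≤ V' → V' = V := by
    obtain ⟨V, -, hV⟩ := Finite.exists_le_maximal (p := fun V : Subgroup X => V.Normal ∧ V < U)
      (a := ⊥) ⟨inferInstance, bot_lt_iff_ne_bot.mpr fun h => hUT (h ▸ bot_le)⟩
    exact ⟨V, hV.prop.1, hV.prop.2, fun V' h1 h2 h3 => le_antisymm (hV.le_of_ge ⟨h1, h2⟩ h3) h3⟩
  have hVT : V ≤ T₀ := by
    by_contra h
    exact hVlt.not_ge (hUmin.le_of_le ⟨hVn, hVlt.le.trans hUle, h⟩ hVlt.le)
  have hchief : IsChiefFactor U V := ⟨hVlt, hUn, hVn, fun N hN hVN hNU =>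
    (eq_or_lt_of_le hNU).elim Or.inr fun h => Or.inl (hVmax N hN h hVN)⟩
  have hUQ : U ≤ pCore p X := hUle.trans inf_le_left
  obtain ⟨hab, hexp⟩ := chiefFactor_elementary hchief ((PLocal.isPGroup_pCore p X).to_le hUQ)
  let D : Set X := {e | iterCommutator U (zpowers e) (p - 1) ≤ V}
  have huD : u ∈ D := hcon U V hchief hUQ
  have hinv : ∀ s e : X, e ∈ D → s * e * s⁻¹ ∈ D := by
    intro s e he
    rw [Set.mem_setOf_eq, iterCommutator_le_iff hab] at he ⊢
    intro v hv
    have := hVn.conj_mem _ (he _ (hUn.conj_mem v hv s⁻¹)) s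
    rw [conj_iterate_commutator] at this
    simpa [mul_assoc] using this
  let A := Abelianization ↥M ⧸ (T₀.subgroupOf M).map Abelianization.of
  let φ : ↥M →* A := (QuotientGroup.mk' _).comp Abelianization.of
  have hUM : U ≤ M := hUQ.trans ((pCore_le_isSylowIn hS).trans hSM)
  have hVM : V ≤ M := hVlt.le.trans hUM
  have hφ1 : ∀ (x : X) (hx : x ∈ M), x ∈ T₀ → φ ⟨x, hx⟩ = 1 := fun x hx hxT =>
    (QuotientGroup.eq_one_iff _).mpr ⟨⟨x, hx⟩, hxT, rfl⟩
  have hφT : ∀ (x : X) (hx : x ∈ M), x ∈ pCore p X → φ ⟨x, hx⟩ = 1 → x ∈ T₀ := by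
    intro x hx hxQ h
    obtain ⟨t, ht, ht'⟩ := (QuotientGroup.eq_one_iff _).mp h
    have h1 : t⁻¹ * (⟨x, hx⟩ : M) ∈ commutator M := QuotientGroup.eq.mp ht'
    have h2 : (t : X)⁻¹ * x ∈ ⁅M, M⁆ := by
      rw [← map_subtype_commutator M]
      exact ⟨_, h1, rfl⟩
    have h3 := mul_mem (show (t : X) ∈ T₀ from ht)
      (hQM (Subgroup.mem_inf.mpr ⟨mul_mem (inv_mem (hT₀ ht)) hxQ, h2⟩))
    simpa using h3
  have hconjU : ∀ g v : X, v ∈ U → g⁻¹ * v * g ∈ U := fun g v hv => by
    simpa using hUn.conj_mem v hv g⁻¹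
  let ψ : X → U →* A := fun g => φ.comp
    { toFun := fun v => ⟨g⁻¹ * v * g, hUM (hconjU g v v.2)⟩
      map_one' := Subtype.ext (by simp)
      map_mul' := fun a b => Subtype.ext (by simp [mul_assoc]) }
  have hψ : ∀ g (v : U), ψ g v = φ ⟨g⁻¹ * v * g, hUM (hconjU g v v.2)⟩ := fun _ _ => rfl
  have hψm : ∀ g (m : M) (v : U), ψ (g * m) v = ψ g v := by
    intro g m v
    rw [hψ, hψ, show (⟨(g * m)⁻¹ * v * (g * m), hUM (hconjU _ v v.2)⟩ : M) =
      m⁻¹ * ⟨g⁻¹ * v * g, hUM (hconjU g v v.2)⟩ * m from Subtype.ext (by simp [mul_assoc]),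
      map_mul, map_mul, map_inv, inv_mul_cancel_comm]
  let F : X ⧸ M → (U → A) := fun q v => ψ q.out v
  have hF : ∀ (g : X) (v : U), F (g : X ⧸ M) v = ψ g v := by
    intro g v
    obtain ⟨m, hm⟩ := QuotientGroup.mk_out_eq_mul M g
    show ψ _ v = _
    rw [hm, hψm]
  let : Fintype (X ⧸ M) := Fintype.ofFinite _
  have htot : ∏ q, F q = 1 := by
    funext v
    have hfix : ∀ q : X ⧸ M, (v : X) • q = q := fun q => by
      induction q using QuotientGroup.induction_on with
      | H g =>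
        refine (QuotientGroup.eq.mpr ?_)
        have := M.inv_mem (hUM (hconjU g v v.2))
        simpa [mul_assoc] using this
    let T : M.LeftTransversal := default
    have h1 : MonoidHom.transfer φ (v : X) = 1 :=
      Abelianization.commutator_subset_ker _ (hUle v.2).2
    have h2 : MonoidHom.transfer φ (v : X) = ∏ q, F q v := by
      rw [MonoidHom.transfer_def φ T]
      refine Finset.prod_bij (fun q _ => q) (fun _ _ => Finset.mem_univ _) (fun _ _ _ _ h => h)
        (fun q _ => ⟨q, Finset.mem_univ _, rfl⟩) fun q _ => ?_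
      set a : X := ((T.2.leftQuotientEquiv q : X)) with ha
      have haq : (a : X ⧸ M) = q := (T.2.quotientGroupMk_leftQuotientEquiv q)
      conv_rhs => rw [← haq, hF, hψ]
      refine congrArg φ (Subtype.ext ?_)
      simp only
      rw [smul_apply_eq_smul_apply_inv_smul, inv_smul_eq_iff.mpr (hfix q).symm, ← ha, smul_eq_mul,
        mul_assoc]
    rw [Finset.prod_apply, ← h2, h1, Pi.one_apply]
  have hDnorm : ∀ e ∈ D, e ∈ S → ∀ x, ∏ j ∈ Finset.range p, F (e ^ j • x) = 1 := by
    intro e he _ x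
    induction x using QuotientGroup.induction_on with
    | H g =>
    funext v
    rw [Finset.prod_apply, Pi.one_apply]
    let w : ℕ → U := fun j => ⟨(e ^ j)⁻¹ * v * e ^ j, hconjU _ v v.2⟩
    have e1 : ∀ j, F (e ^ j • (g : X ⧸ M)) v = ψ g (w j) := by
      intro j
      rw [MulAction.Quotient.smul_coe, hF, smul_eq_mul, hψ, hψ]
      exact congrArg φ (Subtype.ext (by simp [w, mul_assoc]))
    rw [Finset.prod_congr rfl fun j _ => e1 j, ← List.toFinset_range,
      List.prod_toFinset _ List.nodup_range, show (fun j => ψ g (w j)) = ψ g ∘ w from rfl,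
      ← List.map_map, ← map_list_prod, hψ]
    refine hφ1 _ _ (hVT ?_)
    have h1 := prod_conj_mem (p := p) hab hexp (e := e⁻¹)
      (by rw [Subgroup.zpowers_inv]; exact he) v.2
    rw [Subgroup.val_list_prod, List.map_map,
      show Subtype.val ∘ w = fun j => e⁻¹ ^ j * (v : X) * (e⁻¹ ^ j)⁻¹ from
        funext fun j => by simp [w, inv_pow]]
    simpa using hVn.conj_mem _ h1 g⁻¹
  let E : Subgroup X := Subgroup.closure (D ∩ S)
  have hES : E ≤ S := (Subgroup.closure_le _).mpr fun e he => he.2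
  have hSE : S ≤ Subgroup.normalizer (E : Set X) := fun s hs => by
    refine mem_normalizer_of_forall_conj_mem fun x hx => ?_
    refine (show s *• E ≤ E from ?_) (conj_mem_cj s hx)
    rw [map_le_iff_le_comap, Subgroup.closure_le]
    exact fun e he => Subgroup.subset_closure
      ⟨hinv s e he.1, S.mul_mem (S.mul_mem hs he.2) (S.inv_mem hs)⟩
  have hNE : Subgroup.normalizer (E : Set X) ≤ M := hmax _ hSE fun h => huQ (by
    have : E.Normal := normalizer_eq_top_iff.mp h
    exact PLocal.le_pCore (hS.2.1.to_le hES) (Subgroup.subset_closure ⟨huD, hu⟩))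
  have hfixed : Finset.univ.filter (fun x : X ⧸ M => ∀ e ∈ D, e ∈ S → e • x = x) =
      {((1 : X) : X ⧸ M)} := by
    ext x
    induction x using QuotientGroup.induction_on with
    | H g =>
    simp only [Finset.mem_filter, Finset.mem_univ, true_and, Finset.mem_singleton]
    constructor
    · intro hx
      have hgE : g⁻¹ *• E ≤ M := by
        rw [map_le_iff_le_comap, Subgroup.closure_le]
        intro e he
        have h1 := QuotientGroup.eq.mp (hx e he.1 he.2)
        have := M.inv_mem h1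
        simpa [mul_assoc] using this
      obtain ⟨m, hm, hmE⟩ := (hS.of_le hSM le_top).exists_cj_le hgE
        (isPGroup_cj _ (hS.2.1.to_le hES))
      rw [cj_cj] at hmE
      have hle : (m * g⁻¹) *• E ≤ E := by
        rw [map_le_iff_le_comap, Subgroup.closure_le]
        exact fun e he => Subgroup.subset_closure
          ⟨hinv _ e he.1, hmE (conj_mem_cj _ (Subgroup.subset_closure he))⟩
      have hn : m * g⁻¹ ∈ M := hNE (mem_normalizer_iff_cj.mpr
        (eq_of_le_of_card_ge hle (le_of_eq (card_cj _ _).symm)))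
      refine QuotientGroup.eq.mpr ?_
      rw [mul_one]
      simpa using M.mul_mem (M.inv_mem hm) hn
    · intro hx e he heS
      rw [hx]
      refine QuotientGroup.eq.mpr ?_
      simpa using M.inv_mem (hSM heS)
  have hkey := prod_eq_prod_fixed hS.2.1 (D := D) (F := F) (fun s _ e he _ => hinv s e he) hDnorm
  rw [htot, hfixed, Finset.prod_singleton] at hkey
  refine hUT fun v hv => ?_
  have h1 := congrFun hkey ⟨v, hv⟩
  rw [Pi.one_apply, hF, hψ] at h1
  exact hφT v (hUM hv) (hUQ hv) ((congrArg φ (Subtype.ext (by simp))).trans h1.symm)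

end

section
variable {X : Type u} [Group X] [Finite X] {𝓦 : Set (∀ (Q : Type u) [Group Q], Subgroup Q)}

/-- The structure of a minimal failure of transfer control. -/
theorem minimal_failure_structure (h𝓦 : ∀ W ∈ 𝓦, IsCharPFunctor.{u} p W) (hne : 𝓦.Nonempty)
    (hsub : ∀ H : Subgroup X, H ≠ ⊤ → FamilyControlsTransferIn p (indFam 𝓦 ↥H) ⊤)
    (hquot : ∀ (N : Subgroup X) [N.Normal], N ≠ ⊥ →
      FamilyControlsTransferIn p (indFam 𝓦 (X ⧸ N)) ⊤)
    {S : Subgroup X} (hS : IsSylowIn p S ⊤)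
    (hfail : ¬ S ⊓ commutator X ≤ transferGen (indFam 𝓦 X) ⊤ S) :
    let R := transferGen (indFam 𝓦 X) ⊤ S
    let M := Subgroup.normalizer ((R ⊓ pCore p X : Subgroup X) : Set X)
    IsConstrained p X ∧ (M ≠ ⊤ ∧ ∀ H : Subgroup X, S ≤ H → H ≠ ⊤ → H ≤ M) ∧
      (⁅pCore p X, M⁆ ≤ pCore p X ⊓ ⁅M, M⁆ ∧ pCore p X ⊓ ⁅M, M⁆ ≤ pCore p X ⊓ R) ∧
      ∀ u : X, u ∈ S → u ∉ pCore p X → ∃ U V : Subgroup X, IsChiefFactor U V ∧ U ≤ pCore p X ∧
        ¬ iterCommutator U (zpowers u) (p - 1) ≤ V := by
  intro R M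
  have hc : IsConstrained p X := by
    by_contra hc
    exact hfail (familyTransfer_step h𝓦 hsub hquot (fun h => absurd h hc) hS)
  have hQR : ¬ pCore p X ⊓ commutator X ≤ R := fun h => by
    refine hfail (transfer_quotient_pCore h𝓦 hS hsub (hquot _ fun hQ => hfail ?_) h)
    have h1 : (⊤ : Subgroup X) ≤ ⊥ := by
      have hc' : Subgroup.centralizer (pCore p X : Set X) ≤ pCore p X := hc
      rw [hQ] at hc'
      exact (fun x _ => hc' (by simp [Subgroup.mem_centralizer_iff]))
    exact inf_le_left.trans (le_top.trans (h1.trans bot_le))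
  have hprop : ∀ H : Subgroup X, H ≠ ⊤ → S ≤ H → S ⊓ ⁅H, H⁆ ≤ R := fun H hH hSH =>
    (inf_commutator_le_of_subgroup h𝓦 (hS.of_le hSH le_top) (hsub H hH)).trans
      (iSup₂_mono fun W _ => inf_le_inf_left _
        (commutator_mono (inf_le_inf_right _ le_top) (inf_le_inf_right _ le_top)))
  obtain ⟨W₀, hW₀⟩ := hne
  have hN₀ : ∀ W ∈ 𝓦, S ⊓ ⁅Subgroup.normalizer (inducedFunctor (G := X) W S : Set X),
      Subgroup.normalizer (inducedFunctor (G := X) W S : Set X)⁆ ≤ R := by
    intro W hW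
    have := le_iSup₂ (f := fun V (_ : V ∈ indFam 𝓦 X) => S ⊓
      ⁅(⊤ : Subgroup X) ⊓ Subgroup.normalizer (V S : Set X),
        (⊤ : Subgroup X) ⊓ Subgroup.normalizer (V S : Set X)⁆) _ ⟨W, hW, rfl⟩
    simpa only [top_inf_eq, R, transferGen] using this
  have hWS := isConjugacyFunctor_induced (G := X) (h𝓦 W₀ hW₀)
  have hSR : ⁅S, S⁆ ≤ R := fun x hx => hN₀ W₀ hW₀ ⟨commutator_le_self S hx,
    commutator_mono (le_normalizer_functor hWS hS.2.1) (le_normalizer_functor hWS hS.2.1) hx⟩
  have hSn : Subgroup.normalizer (S : Set X) ≠ ⊤ := fun h => hfail fun x hx => hN₀ W₀ hW₀ ⟨hx.1, by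
    have h2 : Subgroup.normalizer (inducedFunctor (G := X) W₀ S : Set X) = ⊤ :=
      eq_top_iff.mpr (h ▸ normalizer_le_normalizer_functor hWS hS.2.1)
    rw [h2]
    exact hx.2⟩
  have hQS := pCore_le_isSylowIn hS
  have hQH : ∀ H : Subgroup X, S ≤ H → H ≠ ⊤ → ⁅pCore p X, H⁆ ≤ R ⊓ pCore p X := by
    intro H hSH hH
    refine le_inf ?_ (commutator_le_left _ _)
    exact (le_inf ((commutator_le_left _ _).trans hQS)
      (commutator_mono (hQS.trans hSH) le_rfl)).trans (hprop H hH hSH)
  have hmax : ∀ H : Subgroup X, S ≤ H → H ≠ ⊤ → H ≤ M := by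
    intro H hSH hH g hg
    refine mem_normalizer_of_forall_conj_mem fun t ht => ?_
    have h1 := inv_mem (hQH H hSH hH (commutator_mem_commutator ht.2 hg))
    have := mul_mem h1 ht
    simpa [commutatorElement_def, mul_assoc] using this
  have hSM : S ≤ M := hmax S le_rfl fun h => hSn (by rw [h, normalizer_eq_top (H := (⊤ : Subgroup X))])
  have hM : M ≠ ⊤ := by
    intro hMtop
    have hn : (R ⊓ pCore p X).Normal := normalizer_eq_top_iff.mp hMtop
    let f := QuotientGroup.mk' (R ⊓ pCore p X)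
    have hn' : ((pCore p X).map f).Normal :=
      Subgroup.Normal.map inferInstance f (QuotientGroup.mk'_surjective _)
    let C : Subgroup X := (Subgroup.centralizer ((pCore p X).map f : Set (X ⧸ _))).comap f
    have hC : C.Normal := inferInstance
    have hle : ∀ H : Subgroup X, S ≤ H → H ≠ ⊤ → H ≤ C := by
      intro H hSH hH g hg
      rw [mem_comap, Subgroup.mem_centralizer_iff]
      rintro _ ⟨q, hq, rfl⟩
      refine commutatorElement_eq_one_iff_commute.mp ?_
      rw [← map_commutatorElement]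
      exact (QuotientGroup.eq_one_iff _).mpr (hQH H hSH hH (commutator_mem_commutator hq hg))
    have hSC : S ≤ C := hle S le_rfl fun h => hSn (by rw [h, normalizer_eq_top (H := (⊤ : Subgroup X))])
    have hCtop : C = ⊤ := by
      have hSC' := hS.of_le hSC le_top
      let P : Sylow p C := hSC'.2.1.comap_subtype.toSylow hSC'.2.2
      have h1 := Sylow.normalizer_sup_eq_top P
      rw [show ((P : Subgroup C).map C.subtype) = S from map_subgroupOf_eq_of_le hSC] at h1
      rw [← h1, sup_eq_right.mpr (hle _ le_normalizer hSn)]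
    refine hQR fun x hx => ?_
    refine mem_of_transfer hS hSR (hQS hx.1) hx.2 fun k g _ => ?_
    have hxk : x ^ k ∈ pCore p X := pow_mem hx.1 k
    have h1 : f g ∈ Subgroup.centralizer ((pCore p X).map f : Set (X ⧸ _)) :=
      (hCtop.symm ▸ Subgroup.mem_top g : g ∈ C)
    have h2 := Subgroup.mem_centralizer_iff.mp h1 (f (x ^ k)) ⟨_, hxk, rfl⟩
    have h3 : f ((x ^ k)⁻¹ * (g * x ^ k * g⁻¹)) = 1 := by
      simp only [map_mul, map_inv]
      rw [← h2]
      group
    exact ((QuotientGroup.eq_one_iff _).mp h3).1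
  refine ⟨hc, ⟨hM, hmax⟩, ⟨le_inf (commutator_le_left _ _) (commutator_mono (hQS.trans hSM) le_rfl),
    le_inf inf_le_left ((inf_le_inf_right _ hQS).trans (hprop M hM hSM))⟩, fun u hu huQ => ?_⟩
  refine exists_bad_chiefFactor hS hSM hmax inf_le_right ?_
    (fun h => hQR (h.trans inf_le_left)) hu huQ
  exact le_inf ((inf_le_inf_right _ hQS).trans (hprop M hM hSM)) inf_le_left

end

/-- Some element of a Sylow subgroup outside `O_p` satisfies the Engel condition on all chief
factors below `O_p` unless the value of `W` is normal. -/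
def GoodElement (p : ℕ) (W : ∀ (Q : Type u) [Group Q], Subgroup Q) (Y : Type u) [Group Y] : Prop :=
  ∀ S : Subgroup Y, IsSylowIn p S ⊤ → ¬ (inducedFunctor (G := Y) W S).Normal →
    ∃ g : Y, g ∈ S ∧ g ∉ pCore p Y ∧ ∀ U V : Subgroup Y, IsChiefFactor U V → U ≤ pCore p Y →
      iterCommutator U (zpowers g) (p - 1) ≤ V

theorem isChiefFactor_comap {Y Z : Type*} [Group Y] [Group Z] (e : Y ≃* Z) {U V : Subgroup Z}
    (h : IsChiefFactor U V) : IsChiefFactor (U.comap e.toMonoidHom) (V.comap e.toMonoidHom) := by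
  obtain ⟨hlt, hU, hV, hmin⟩ := h
  have hinj := comap_injective (f := e.toMonoidHom) e.surjective
  refine ⟨lt_of_le_of_ne (comap_mono hlt.le) (fun h => hlt.ne (hinj h)), hU.comap _, hV.comap _,
    fun N hN h1 h2 => ?_⟩
  have hNe : (N.map e.toMonoidHom).comap e.toMonoidHom = N :=
    comap_map_eq_self_of_injective e.injective N
  rcases hmin (N.map e.toMonoidHom) (hN.map _ e.surjective)
    (by simpa only [map_comap_eq_self_of_surjective (f := e.toMonoidHom) e.surjective] using
      Subgroup.map_mono (f := e.toMonoidHom) h1)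
    (by simpa only [map_comap_eq_self_of_surjective (f := e.toMonoidHom) e.surjective] using
      Subgroup.map_mono (f := e.toMonoidHom) h2) with h | h
  · exact Or.inl (by rw [← hNe, h])
  · exact Or.inr (by rw [← hNe, h])

theorem goodElement_of_equiv {W : ∀ (Q : Type u) [Group Q], Subgroup Q}
    (hW : IsCharPFunctor.{u} p W) (Y Z : Type u) [Group Y] [Group Z] [Finite Y] [Finite Z]
    (e : Y ≃* Z) (h : GoodElement p W Y) : GoodElement p W Z := by
  intro S hS hn
  have hback := isSylowIn_map hS e.symm.toMonoidHom e.symm.surjective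
  have he : (S.map e.symm.toMonoidHom).map e.toMonoidHom = S := by
    rw [Subgroup.map_map]
    simp
  obtain ⟨g, hg, hgQ, hgU⟩ := h _ hback fun hn' => hn (by
    rw [← he, inducedFunctor_map hW e.toMonoidHom hback.2.1 e.injective.injOn]
    exact hn'.map _ e.surjective)
  refine ⟨e g, he ▸ ⟨g, hg, rfl⟩, fun h => hgQ ?_, fun U V hUV hU => ?_⟩
  · rw [← PLocal.map_pCore_equiv e] at h
    obtain ⟨g', hg', hgg⟩ := h
    rwa [← e.injective hgg]
  · have := Subgroup.map_mono (f := e.toMonoidHom) (hgU _ _ (isChiefFactor_comap e hUV) (by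
      intro x hx
      have : e x ∈ (pCore p Y).map e.toMonoidHom := PLocal.map_pCore_equiv e ▸ hU hx
      obtain ⟨x', hx', hxx⟩ := this
      rwa [← e.injective hxx]))
    rwa [map_iterCommutator, MonoidHom.map_zpowers,
      map_comap_eq_self_of_surjective (f := e.toMonoidHom) e.surjective,
      map_comap_eq_self_of_surjective (f := e.toMonoidHom) e.surjective] at this

/-- Transfer control from good elements in constrained sections. -/
theorem transfer_of_goodElement {W : ∀ (Q : Type u) [Group Q], Subgroup Q}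
    (hW : IsCharPFunctor.{u} p W) :
    ∀ (X : Type u) [Group X] [Finite X],
      (∀ (Y : Type u) [Group Y] [Finite Y], Involves Y X → IsConstrained p Y → GoodElement p W Y) →
      FamilyControlsTransferIn p (indFam {W} X) ⊤ := by
  have h𝓦 : ∀ V ∈ ({W} : Set (∀ (Q : Type u) [Group Q], Subgroup Q)), IsCharPFunctor.{u} p V := by
    intro V hV; rw [Set.mem_singleton_iff] at hV; subst hV; exact hW
  suffices H : ∀ (n : ℕ) (X : Type u) [Group X] [Finite X], Nat.card X = n →
      (∀ (Y : Type u) [Group Y] [Finite Y], Involves Y X → IsConstrained p Y → GoodElement p W Y) →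
      FamilyControlsTransferIn p (indFam {W} X) ⊤ from fun X _ _ h => H _ X rfl h
  intro n
  induction n using Nat.strongRecOn with
  | ind n ih =>
  intro X _ _ hX h
  obtain ⟨S, -, hS⟩ := exists_isSylowIn_ge (A := (⊥ : Subgroup X)) (H := ⊤) (p := p) bot_le IsPGroup.of_bot
  refine familyControlsTransferIn_iff.mpr ⟨S, hS, ?_⟩
  by_contra hfail
  have hfail' : ¬ S ⊓ commutator X ≤ transferGen (indFam {W} X) ⊤ S := hfail
  have hsub : ∀ H : Subgroup X, H ≠ ⊤ → FamilyControlsTransferIn p (indFam {W} ↥H) ⊤ := fun K hK =>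
    ih _ (hX ▸ lt_of_le_of_ne (card_le_card_group K) fun h => hK (eq_top_of_card_eq K h)) K rfl
      fun Y _ _ hY => h Y (involves_trans (involves_subgroup K) hY)
  have hquot : ∀ (N : Subgroup X) [N.Normal], N ≠ ⊥ →
      FamilyControlsTransferIn p (indFam {W} (X ⧸ N)) ⊤ := fun N _ hN =>
    ih _ (by
      have h1 := Subgroup.card_mul_index N
      have h2 : Nat.card N ≠ 1 := fun h => hN (card_eq_one.mp h)
      have h3 : 0 < Nat.card N := Nat.card_pos
      have h4 : N.index ≠ 0 := FiniteIndex.index_ne_zero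
      show N.index < n
      nlinarith [show 1 < Nat.card N by omega, Nat.pos_of_ne_zero h4]) (X ⧸ N) rfl
      fun Y _ _ hY => h Y (involves_trans (involves_quotient N) hY)
  obtain ⟨hc, -, -, hbad⟩ := minimal_failure_structure h𝓦 (Set.singleton_nonempty W) hsub hquot hS hfail'
  obtain ⟨g, hg, hgQ, hgood⟩ := h X (involves_equiv (MulEquiv.refl X)) hc S hS fun hn => hfail' (by
    refine le_trans ?_ (le_iSup₂ (inducedFunctor (G := X) W) ⟨W, rfl, rfl⟩)
    rw [normalizer_eq_top_iff.mpr hn, top_inf_eq]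
    rfl)
  obtain ⟨U, V, hUV, hU, hn⟩ := hbad g hg hgQ
  exact hn (hgood U V hUV hU)

/-- Iso from a section to its model. -/
noncomputable def sectionEquiv {X H : Type*} [Group X] [Group H] {K R : Subgroup X}
    [(R.subgroupOf K).Normal] (f : K →* H) (hf : Function.Surjective f)
    (hker : f.ker = R.subgroupOf K) : ↥K ⧸ R.subgroupOf K ≃* H :=
  (QuotientGroup.quotientMulEquivOfEq hker.symm).trans
    (QuotientGroup.quotientKerEquivOfSurjective f hf)

end CfsgLib.ConjFunctor
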