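import Cfsg.Agent.ConjFunctor.FourEngel
import Cfsg.Agent.ConjFunctor.Transfer
import Cfsg.Agent.ConjFunctor.MainCor
import Cfsg.Prelude.Def_Amalgam

/-!
Consequences for the K-infinity functors.
-/

set_option autoImplicit false

universe u

namespace CfsgLib.ConjFunctor

open Cfsg Subgroup
open scoped commutatorElement

section
variable {G X : Type*} [Group G] [Group X] {p : ℕ}

/-- Normalizer `p`-stability passes to subgroups, in particular along isomorphisms. -/
theorem isNormalizerPStable_of_injective [Finite X] [Fact p.Prime] (f : G →* X)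
    (hf : Function.Injective f) (hst : IsNormalizerPStable p X) : IsNormalizerPStable p G := by
  intro P hP g hg hquad
  let P' : Subgroup X := P.map f
  have hg' : f g ∈ Subgroup.normalizer (P' : Set X) := Subgroup.le_normalizer_map f ⟨g, hg, rfl⟩
  have hquad' : ⁅⁅P', Subgroup.zpowers (f g)⁆, Subgroup.zpowers (f g)⁆ = ⊥ := by
    rw [← MonoidHom.map_zpowers, ← Subgroup.map_commutator, ← Subgroup.map_commutator, hquad,
      Subgroup.map_bot]
  have hmem := hst P' (hP.map f) (f g) hg' hquad'
  let ι : ↥(Subgroup.normalizer (P : Set G)) →* ↥(Subgroup.normalizer (P' : Set X)) :=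
    (f.comp (Subgroup.normalizer (P : Set G)).subtype).codRestrict _
      (fun a => Subgroup.le_normalizer_map f ⟨a, a.2, rfl⟩)
  have key : ∀ a, ι a ∈ (Subgroup.centralizer (P' : Set X)).subgroupOf _ ↔
      a ∈ (Subgroup.centralizer (P : Set G)).subgroupOf _ := by
    intro a
    simp only [Subgroup.mem_subgroupOf, Subgroup.mem_centralizer_iff]
    constructor
    · intro h y hy
      refine hf ?_
      rw [map_mul, map_mul]
      exact h (f y) ⟨y, hy, rfl⟩
    · rintro h _ ⟨y, hy, rfl⟩
      have := congrArg f (h y hy)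
      rwa [map_mul, map_mul] at this
  let φ := QuotientGroup.map ((Subgroup.centralizer (P : Set G)).subgroupOf _)
    ((Subgroup.centralizer (P' : Set X)).subgroupOf _) ι (fun a ha => Subgroup.mem_comap.mpr ((key a).mpr ha))
  have hinj : Function.Injective φ := by
    rw [injective_iff_map_eq_one]
    intro q hq
    obtain ⟨a, rfl⟩ := QuotientGroup.mk_surjective q
    exact (QuotientGroup.eq_one_iff a).mpr ((key a).mp ((QuotientGroup.eq_one_iff _).mp hq))
  exact (le_sSup ⟨(inferInstance : (pCore p _).Normal).comap φ,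
    (PLocal.isPGroup_pCore p _).comap_of_injective φ hinj⟩ : Subgroup.comap φ _ ≤ pCore p _) hmem

theorem stable_quotient_of_sections [Finite X] [Fact p.Prime]
    (hst : ∀ (K R : Subgroup X) [hR : (R.subgroupOf K).Normal],
      IsNormalizerPStable p (↥K ⧸ R.subgroupOf K))
    (K R : Subgroup X) [(R.subgroupOf K).Normal] (N : Subgroup (↥K ⧸ R.subgroupOf K)) [N.Normal] :
    IsNormalizerPStable p ((↥K ⧸ R.subgroupOf K) ⧸ N) := by
  obtain ⟨K', R', hR', ⟨e⟩⟩ : Involves ((↥K ⧸ R.subgroupOf K) ⧸ N) X :=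
    involves_trans (involves_section K R) (involves_quotient N)
  exact isNormalizerPStable_of_injective e.symm.toMonoidHom e.symm.injective (hst K' R')

end

variable {p : ℕ} [Fact p.Prime]

theorem iterate_commutator_mem_of_le {G : Type*} [Group G] {V : Subgroup G} [V.Normal] {g u : G}
    {m n : ℕ} (hmn : m ≤ n) (h : (fun y => ⁅g, y⁆)^[m] u ∈ V) : (fun y => ⁅g, y⁆)^[n] u ∈ V := by
  obtain ⟨d, rfl⟩ := Nat.exists_eq_add_of_le hmn
  rw [add_comm, Function.iterate_add_apply]
  exact iterate_commutator_mem g h d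

/-- A K-infinity functor satisfies the good element condition for `p ≥ 5`. -/
theorem goodElement_kInf (hp : 5 ≤ p) {W : ∀ (Q : Type u) [Group Q], Subgroup Q}
    (hWK : (W = fun Q [Group Q] => kInfLower Q) ∨ W = fun Q [Group Q] => kInfUpper Q)
    (Y : Type u) [Group Y] [Finite Y] : GoodElement p W Y := by
  intro S hS hn
  obtain ⟨g, hg, hgQ, h4, -, -⟩ := exists_fourEngelElt hS (by
    rcases hWK with rfl | rfl
    exacts [Or.inl hn, Or.inr hn])
  refine ⟨g, hg, hgQ, fun U V hUV hU => ?_⟩
  have := hUV.2.1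
  have := hUV.2.2.1
  have hab := (chiefFactor_elementary hUV ((PLocal.isPGroup_pCore p Y).to_le hU)).1
  exact (iterCommutator_le_iff hab g _).mpr fun u hu => iterate_commutator_mem_of_le (m := 4) (by omega)
    ((iterCommutator_le_iff hab g 4).mp (h4 U V hUV hU) u hu)

/-- Transfer control by a K-infinity subgroup, `p ≥ 5`. -/
theorem controlsTransfer_kInf (hp : 5 ≤ p) {W : ∀ (Q : Type u) [Group Q], Subgroup Q}
    (hWK : (W = fun Q [Group Q] => kInfLower Q) ∨ W = fun Q [Group Q] => kInfUpper Q)
    (X : Type u) [Group X] [Finite X] : FamilyControlsTransferIn p (indFam {W} X) ⊤ := by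
  have hW : IsCharPFunctor.{u} p W := by
    rcases hWK with rfl | rfl
    exacts [isCharPFunctor_kInfLower, isCharPFunctor_kInfUpper]
  exact transfer_of_goodElement hW X fun Y _ _ _ _ => goodElement_kInf hp hWK Y

theorem inf_commutator_eq_kInf (hp : 5 ≤ p) {W : ∀ (Q : Type u) [Group Q], Subgroup Q}
    (hWK : (W = fun Q [Group Q] => kInfLower Q) ∨ W = fun Q [Group Q] => kInfUpper Q)
    {X : Type u} [Group X] [Finite X] {S : Subgroup X} (hS : IsSylowIn p S ⊤) :
    S ⊓ commutator X = S ⊓ ⁅Subgroup.normalizer (inducedFunctor (G := X) W S : Set X),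
      Subgroup.normalizer (inducedFunctor (G := X) W S : Set X)⁆ := by
  have hW : IsCharPFunctor.{u} p W := by
    rcases hWK with rfl | rfl
    exacts [isCharPFunctor_kInfLower, isCharPFunctor_kInfUpper]
  refine le_antisymm ?_ (inf_le_inf_left _ (commutator_mono le_top le_top))
  refine (inf_commutator_le_transferGen (isConjugacyFunctor_induced_image (fun V hV => by
    rw [Set.mem_singleton_iff] at hV; subst hV; exact hW)) (controlsTransfer_kInf hp hWK X) hS).trans ?_
  refine iSup₂_le ?_
  rintro _ ⟨W', hW', rfl⟩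
  rw [Set.mem_singleton_iff] at hW'
  subst hW'
  rw [top_inf_eq]

/-- Strong fusion control by a K-infinity subgroup under `p`-stability of all sections. -/
theorem controlsStrongFusion_kInf {W : ∀ (Q : Type u) [Group Q], Subgroup Q}
    (hWK : (W = fun Q [Group Q] => kInfLower Q) ∨ W = fun Q [Group Q] => kInfUpper Q)
    {G : Type u} [Group G] [Finite G]
    (hst : ∀ (K R : Subgroup G) [hR : (R.subgroupOf K).Normal],
      IsNormalizerPStable p (↥K ⧸ R.subgroupOf K)) (S : Sylow p G) :
    ControlsStrongFusion p (inducedFunctor (G := G) W (S : Subgroup G)) := by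
  have hW : IsCharPFunctor.{u} p W := by
    rcases hWK with rfl | rfl
    exacts [isCharPFunctor_kInfLower, isCharPFunctor_kInfUpper]
  have h := familyFusion_section (𝓦 := {W}) (fun V hV => by
    rw [Set.mem_singleton_iff] at hV; subst hV; exact hW) (G := G) (fun K R hR hc => ?_) G
    (involves_equiv (MulEquiv.refl G))
  · rw [show indFam {W} G = {inducedFunctor W} from Set.image_singleton] at h
    exact controlsStrongFusion_of_family (isConjugacyFunctor_induced hW) h S
  · obtain ⟨T⟩ := (inferInstance : Nonempty (Sylow p (↥K ⧸ R.subgroupOf K)))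
    refine familyControlsStrongFusionIn_iff.mpr ⟨_, isSylowIn_top T, fun A g _ hA hgA => ?_⟩
    have hn : (inducedFunctor (G := ↥K ⧸ R.subgroupOf K) W (T : Subgroup _)).Normal := by
      by_contra hn
      obtain ⟨g, -, -, -, -, hbad⟩ := exists_fourEngelElt (isSylowIn_top T) (by
        rcases hWK with rfl | rfl
        exacts [Or.inl hn, Or.inr hn])
      obtain ⟨N, hN, hns⟩ := hbad hc
      exact hns (stable_quotient_of_sections hst K R N)
    refine Fus.single hA (M := ⊤ ⊓ Subgroup.normalizer
      ((inducedFunctor W (T : Subgroup (↥K ⧸ R.subgroupOf K)) : Subgroup _) : Set (↥K ⧸ R.subgroupOf K)))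
      ⟨_, ⟨W, rfl, rfl⟩, rfl⟩ ?_ (cjSet_subset_iff.mp hgA)
    exact ⟨trivial, (Subgroup.normalizer_eq_top_iff.mpr hn).symm ▸ Subgroup.mem_top g⟩

/-- The quadratic element on the centre of `O_p(H)`, inside the ambient group. -/
theorem exists_quadratic_center_of_not_le {G : Type u} [Group G] [Finite G] {H T : Subgroup G}
    (hT : IsSylowIn p T H)
    (hn : ¬ H ≤ Subgroup.normalizer ((inducedFunctor kInfLower T : Subgroup G) : Set G)) :
    ∃ g : G, g ∈ T ∧ g ∉ pCoreOf p H ∧
      ∀ z ∈ pCoreOf p H ⊓ Subgroup.centralizer (pCoreOf p H : Set G), ⁅g, ⁅g, z⁆⁆ = 1 := by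
  have hS := isSylowIn_subgroupOf hT
  have hmap := inducedFunctor_map (isCharPFunctor_kInfLower (p := p)) H.subtype hS.2.1
    H.subtype_injective.injOn
  rw [map_subgroupOf_eq_of_le hT.1] at hmap
  obtain ⟨g, hg, hgQ, -, hz, -⟩ := exists_fourEngelElt hS (Or.inl fun h => hn (by
    intro x hx
    rw [hmap]
    refine Subgroup.le_normalizer_map H.subtype ⟨⟨x, hx⟩, ?_, rfl⟩
    exact (Subgroup.normalizer_eq_top_iff.mpr h).symm ▸ Subgroup.mem_top _))
  refine ⟨g, hg, fun ⟨q, hq, hqg⟩ => hgQ ?_, ?_⟩
  · rwa [← Subtype.ext hqg]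
  · rintro _ ⟨⟨z, hzQ, rfl⟩, hzC⟩
    exact congrArg Subtype.val (hz z ⟨hzQ, Subgroup.mem_centralizer_iff.mpr fun q hq =>
      Subtype.ext (Subgroup.mem_centralizer_iff.mp hzC (q : G) ⟨q, hq, rfl⟩)⟩)

end CfsgLib.ConjFunctor
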