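import Cfsg.Agent.ConjFunctor.Fus

/-!
Basic API of conjugacy functors and of the functor induced by an isomorphism-invariant
`p`-group functor; the Prelude's notions of control in terms of `IsSylowIn` and `FusControls`.
-/

set_option autoImplicit false

universe u

namespace CfsgLib.ConjFunctor

open Cfsg Subgroup

section
variable {G : Type*} [Group G] {p : ℕ} {W : Subgroup G → Subgroup G}

theorem functor_le (hW : IsConjugacyFunctor p W) {P : Subgroup G} (hP : IsPGroup p P) : W P ≤ P :=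
  (hW P hP).1

theorem functor_ne_bot (hW : IsConjugacyFunctor p W) {P : Subgroup G} (hP : IsPGroup p P)
    (h : P ≠ ⊥) : W P ≠ ⊥ :=
  (hW P hP).2.1 h

theorem functor_cj (hW : IsConjugacyFunctor p W) {P : Subgroup G} (hP : IsPGroup p P) (g : G) :
    W (g *• P) = g *• W P :=
  (hW P hP).2.2 g

theorem normalizer_le_normalizer_functor (hW : IsConjugacyFunctor p W) {P : Subgroup G}
    (hP : IsPGroup p P) :
    Subgroup.normalizer (P : Set G) ≤ Subgroup.normalizer (W P : Set G) := fun g hg =>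
  mem_normalizer_iff_cj.mpr (by rw [← functor_cj hW hP, cj_eq_of_mem_normalizer hg])

theorem le_normalizer_functor (hW : IsConjugacyFunctor p W) {P : Subgroup G}
    (hP : IsPGroup p P) : P ≤ Subgroup.normalizer (W P : Set G) :=
  le_normalizer.trans (normalizer_le_normalizer_functor hW hP)

/-- The family `N_H(W T)`, `W ∈ 𝓦`. -/
def famIn (𝓦 : Set (Subgroup G → Subgroup G)) (H T : Subgroup G) : Set (Subgroup G) :=
  (fun W => H ⊓ Subgroup.normalizer (W T : Set G)) '' 𝓦

theorem mem_famIn {𝓦 : Set (Subgroup G → Subgroup G)} {H T M : Subgroup G} :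
    M ∈ famIn 𝓦 H T ↔ ∃ W ∈ 𝓦, H ⊓ Subgroup.normalizer (W T : Set G) = M := Iff.rfl

theorem famIn_singleton (W : Subgroup G → Subgroup G) (H T : Subgroup G) :
    famIn {W} H T = {H ⊓ Subgroup.normalizer (W T : Set G)} := Set.image_singleton

theorem familyControlsStrongFusionIn_iff {𝓦 : Set (Subgroup G → Subgroup G)} {H : Subgroup G} :
    FamilyControlsStrongFusionIn p 𝓦 H ↔
      ∃ T, IsSylowIn p T H ∧ FusControls (famIn 𝓦 H T) T H := by
  constructor
  · rintro ⟨T, h1, h2, h3, h⟩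
    refine ⟨T, ⟨h1, h2, h3⟩, fun A g hg hA hgA => ?_⟩
    obtain ⟨n, c, h0, hst, him, hlast⟩ := h A g hg hA hgA
    refine Fus.of_fin (𝓜 := famIn 𝓦 H T) n c h0 (fun i => ?_) him hlast
    obtain ⟨W, hW, hm⟩ := hst i
    exact ⟨_, mem_famIn.mpr ⟨W, hW, rfl⟩, hm⟩
  · rintro ⟨T, ⟨h1, h2, h3⟩, h⟩
    refine ⟨T, h1, h2, h3, fun A g hg hA hgA => ?_⟩
    obtain ⟨n, c, h0, hst, him, hlast⟩ := (h A g hg hA hgA).exists_fin
    refine ⟨n, c, h0, fun i => ?_, him, hlast⟩
    obtain ⟨_, ⟨W, hW, rfl⟩, hm⟩ := hst i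
    exact ⟨W, hW, hm⟩

theorem controlsStrongFusionIn_iff_family {H : Subgroup G} (W : Subgroup G → Subgroup G) :
    ControlsStrongFusionIn p W H ↔ FamilyControlsStrongFusionIn p {W} H := by
  rw [familyControlsStrongFusionIn_iff]
  constructor
  · rintro ⟨T, h1, h2, h3, h⟩
    refine ⟨T, ⟨h1, h2, h3⟩, fun A g hg hA hgA => ?_⟩
    obtain ⟨x, hx, hxA⟩ := h A g hg hA hgA
    refine (Fus.single hA (show H ⊓ Subgroup.normalizer (W T : Set G) ∈ famIn {W} H T from ⟨W, rfl, rfl⟩) hx fun a ha => ?_).congr' hxA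
    rw [hxA a ha]
    exact hgA ⟨a, ha, rfl⟩
  · rintro ⟨T, ⟨h1, h2, h3⟩, h⟩
    refine ⟨T, h1, h2, h3, fun A g hg hA hgA => ?_⟩
    exact (famIn_singleton W H T ▸ h A g hg hA hgA).exists_mem_of_singleton

theorem controlsTransferIn_iff_family {H : Subgroup G} (W : Subgroup G → Subgroup G) :
    ControlsTransferIn p W H ↔ FamilyControlsTransferIn p {W} H := by
  simp [ControlsTransferIn, FamilyControlsTransferIn]

/-- The subgroup generated by the `T ∩ N_H(W T)'`. -/
def transferGen (𝓦 : Set (Subgroup G → Subgroup G)) (H T : Subgroup G) : Subgroup G :=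
  ⨆ W ∈ 𝓦, T ⊓ ⁅H ⊓ Subgroup.normalizer (W T : Set G), H ⊓ Subgroup.normalizer (W T : Set G)⁆

theorem familyControlsTransferIn_iff {𝓦 : Set (Subgroup G → Subgroup G)} {H : Subgroup G} :
    FamilyControlsTransferIn p 𝓦 H ↔
      ∃ T, IsSylowIn p T H ∧ T ⊓ ⁅H, H⁆ ≤ transferGen 𝓦 H T := by
  constructor
  · rintro ⟨T, h1, h2, h3, h⟩
    exact ⟨T, ⟨h1, h2, h3⟩, h.le⟩
  · rintro ⟨T, ⟨h1, h2, h3⟩, h⟩
    refine ⟨T, h1, h2, h3, le_antisymm h (iSup₂_le fun W _ => ?_)⟩
    exact inf_le_inf_left _ (commutator_mono inf_le_left inf_le_left)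

theorem transferGen_le (𝓦 : Set (Subgroup G → Subgroup G)) (H T : Subgroup G) :
    transferGen 𝓦 H T ≤ T ⊓ ⁅H, H⁆ :=
  iSup₂_le fun _ _ => inf_le_inf_left _ (commutator_mono inf_le_left inf_le_left)

variable [Finite G] [Fact p.Prime]

omit [Finite G] [Fact p.Prime] in
theorem map_famIn {𝓦 : Set (Subgroup G → Subgroup G)} (h𝓦 : ∀ W ∈ 𝓦, IsConjugacyFunctor p W)
    {H T : Subgroup G} (hT : IsPGroup p T) (a : G) :
    Subgroup.map (MulAut.conj a).toMonoidHom '' famIn 𝓦 H T = famIn 𝓦 (a *• H) (a *• T) := by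
  rw [famIn, Set.image_image]
  refine Set.image_congr fun W hW => ?_
  rw [cj_inf, functor_cj (h𝓦 W hW) hT, normalizer_cj]

omit [Finite G] [Fact p.Prime] in
theorem map_transferGen {𝓦 : Set (Subgroup G → Subgroup G)} (h𝓦 : ∀ W ∈ 𝓦, IsConjugacyFunctor p W)
    {H T : Subgroup G} (hT : IsPGroup p T) (a : G) :
    a *• transferGen 𝓦 H T = transferGen 𝓦 (a *• H) (a *• T) := by
  simp only [transferGen, Subgroup.map_iSup]
  refine iSup_congr fun W => iSup_congr fun hW => ?_
  rw [cj_inf, map_commutator, cj_inf, functor_cj (h𝓦 W hW) hT, normalizer_cj]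

/-- Control by a family holds at every Sylow subgroup if at one. -/
theorem fusControls_of_family {𝓦 : Set (Subgroup G → Subgroup G)}
    (h𝓦 : ∀ W ∈ 𝓦, IsConjugacyFunctor p W) {H T : Subgroup G}
    (h : FamilyControlsStrongFusionIn p 𝓦 H) (hT : IsSylowIn p T H) :
    FusControls (famIn 𝓦 H T) T H := by
  obtain ⟨T', hT', hc⟩ := familyControlsStrongFusionIn_iff.mp h
  obtain ⟨a, haH, ha⟩ := hT.exists_cj_eq hT'
  have := hc.map (MulAut.conj a).toMonoidHom (MulAut.conj a).injective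
  rwa [map_famIn h𝓦 hT'.2.1, cj_self_of_mem haH, ha] at this

theorem inf_commutator_le_transferGen {𝓦 : Set (Subgroup G → Subgroup G)}
    (h𝓦 : ∀ W ∈ 𝓦, IsConjugacyFunctor p W) {H T : Subgroup G}
    (h : FamilyControlsTransferIn p 𝓦 H) (hT : IsSylowIn p T H) :
    T ⊓ ⁅H, H⁆ ≤ transferGen 𝓦 H T := by
  obtain ⟨T', hT', hc⟩ := familyControlsTransferIn_iff.mp h
  obtain ⟨a, haH, ha⟩ := hT.exists_cj_eq hT'
  have := cj_mono a hc
  rwa [map_transferGen h𝓦 hT'.2.1, cj_inf, map_commutator, cj_self_of_mem haH, ha] at this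

end

section
variable {p : ℕ} {W : ∀ (Q : Type u) [Group Q], Subgroup Q}

/-- The induced functor commutes with homomorphisms injective on the `p`-group. -/
theorem inducedFunctor_map (hW : IsCharPFunctor.{u} p W) {G H : Type u} [Group G] [Group H]
    [Finite G] (f : G →* H) {P : Subgroup G} (hP : IsPGroup p P) (hf : Set.InjOn f P) :
    inducedFunctor (G := H) W (P.map f) = (inducedFunctor (G := G) W P).map f := by
  have hinj : Function.Injective (f.subgroupMap P) := by
    intro x y hxy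
    exact Subtype.ext (hf x.2 y.2 (congrArg Subtype.val hxy))
  let e : P ≃* P.map f :=
    MulEquiv.ofBijective (f.subgroupMap P) ⟨hinj, f.subgroupMap_surjective P⟩
  rw [inducedFunctor, inducedFunctor, ← hW.2 P (P.map f) hP e, map_map, map_map]
  rfl

theorem inducedFunctor_le {G : Type u} [Group G] (P : Subgroup G) :
    inducedFunctor (G := G) W P ≤ P :=
  map_subtype_le _

theorem isConjugacyFunctor_induced (hW : IsCharPFunctor.{u} p W) {G : Type u} [Group G] [Finite G] :
    IsConjugacyFunctor p (inducedFunctor (G := G) W) := fun P hP =>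
  ⟨inducedFunctor_le P, fun hne h => by
    rw [inducedFunctor, map_eq_bot_iff_of_injective _ P.subtype_injective] at h
    exact hW.1 P hP ((nontrivial_iff_ne_bot P).mpr hne) h,
   fun g => inducedFunctor_map hW _ hP (MulAut.conj g).injective.injOn⟩

theorem isConjugacyFunctor_induced_image {𝓦 : Set (∀ (Q : Type u) [Group Q], Subgroup Q)}
    (h : ∀ W ∈ 𝓦, IsCharPFunctor.{u} p W) {G : Type u} [Group G] [Finite G] :
    ∀ V ∈ (fun W => inducedFunctor (G := G) W) '' 𝓦, IsConjugacyFunctor p V := by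
  rintro _ ⟨W, hW, rfl⟩
  exact isConjugacyFunctor_induced (h W hW)

theorem normal_functor_top (hW : IsCharPFunctor.{u} p W) {Q : Type u} [Group Q] [Finite Q]
    (hQ : IsPGroup p Q) : (W Q).Characteristic :=
  characteristic_iff_map_eq.mpr fun e => hW.2 Q Q hQ e

end

end CfsgLib.ConjFunctor
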