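import Cfsg.Agent.ConjFunctor.KInf
import Cfsg.Agent.ConjFunctor.Functor
import Mathlib.GroupTheory.PGroup

/-!
The K-infinity subgroups as isomorphism-invariant `p`-group functors, and their normality when
the K-sequence stays inside a normal `p`-subgroup.
-/

set_option autoImplicit false

universe u

namespace CfsgLib.ConjFunctor

open Cfsg Subgroup

theorem map_kInf_of_injective {P H : Type u} [Group P] [Group H] [Finite P] (i : H →* P)
    (hi : Function.Injective i)
    (hrange : ∀ n, kSeqEven P n ≤ i.range ∧ kSeqOdd P (n + 1) ≤ i.range) :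
    (kInfLower H).map i = kInfLower P ∧ (kInfUpper H).map i = kInfUpper P :=
  kInf_map_eq i hi hrange

theorem map_kInf_equiv {P H : Type u} [Group P] [Group H] [Finite P] (φ : H ≃* P) :
    (kInfLower H).map φ.toMonoidHom = kInfLower P ∧ (kInfUpper H).map φ.toMonoidHom = kInfUpper P :=
  map_kInf_of_injective φ.toMonoidHom φ.injective fun n => by
    rw [MonoidHom.range_eq_top.mpr φ.surjective]
    exact ⟨le_top, le_top⟩

theorem center_le_kInf {P : Type u} [Group P] [Finite P] [Group.IsNilpotent P] :
    Subgroup.center P ≤ kInfLower P ∧ Subgroup.center P ≤ kInfUpper P :=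
  ⟨(center_le_centralizer _).trans centralizer_kInf_le.1,
    (center_le_centralizer _).trans centralizer_kInf_le.2⟩

variable {p : ℕ} [Fact p.Prime]

theorem isCharPFunctor_kInfLower : IsCharPFunctor.{u} p fun Q [Group Q] => kInfLower Q := by
  refine ⟨fun Q _ _ hQ hne h => ?_, fun Q R _ _ _ _ φ => ?_⟩
  · have := hQ.isNilpotent
    have := hQ.bot_lt_center
    exact this.not_ge (h ▸ center_le_kInf.1)
  · have : Finite R := Finite.of_equiv Q φ.toEquiv
    exact (map_kInf_equiv φ).1

theorem isCharPFunctor_kInfUpper : IsCharPFunctor.{u} p fun Q [Group Q] => kInfUpper Q := by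
  refine ⟨fun Q _ _ hQ hne h => ?_, fun Q R _ _ _ _ φ => ?_⟩
  · have := hQ.isNilpotent
    have := hQ.bot_lt_center
    exact this.not_ge (h ▸ center_le_kInf.2)
  · have : Finite R := Finite.of_equiv Q φ.toEquiv
    exact (map_kInf_equiv φ).2

/-- The centre of `P` lies in the value of the K-infinity functor. -/
theorem center_le_inducedFunctor_kInf {G : Type u} [Group G] [Finite G] {P : Subgroup G}
    (hP : IsPGroup p P) :
    P ⊓ Subgroup.centralizer (P : Set G) ≤ inducedFunctor kInfLower P ∧
      P ⊓ Subgroup.centralizer (P : Set G) ≤ inducedFunctor kInfUpper P := by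
  have := hP.isNilpotent
  have key : P ⊓ Subgroup.centralizer (P : Set G) ≤ (Subgroup.center P).map P.subtype := fun x hx =>
    ⟨⟨x, hx.1⟩, Subgroup.mem_center_iff.mpr fun g =>
      Subtype.ext (Subgroup.mem_centralizer_iff.mp hx.2 g g.2), rfl⟩
  exact ⟨key.trans (map_mono center_le_kInf.1), key.trans (map_mono center_le_kInf.2)⟩

omit [Fact p.Prime] in
/-- If the K-sequence of `S` lies in a normal subgroup `T ≤ S`, both K-infinity subgroups are
normal. -/
theorem kInf_normal_of_le {G : Type u} [Group G] [Finite G] {S T : Subgroup G} [T.Normal] (hTS : T ≤ S)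
    (h : ∀ n, (kSeqEven S n).map S.subtype ≤ T ∧ (kSeqOdd S (n + 1)).map S.subtype ≤ T) :
    (inducedFunctor kInfLower S).Normal ∧ (inducedFunctor kInfUpper S).Normal := by
  have hr : ∀ n, kSeqEven S n ≤ (Subgroup.inclusion hTS).range ∧
      kSeqOdd S (n + 1) ≤ (Subgroup.inclusion hTS).range := by
    intro n
    rw [Subgroup.inclusion_range]
    exact ⟨map_le_iff_le_comap.mp (h n).1, map_le_iff_le_comap.mp (h n).2⟩
  obtain ⟨h1, h2⟩ := map_kInf_of_injective (Subgroup.inclusion hTS) (Subgroup.inclusion_injective hTS) hr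
  have key : ∀ (K : Subgroup T), (∀ φ : T ≃* T, K.map φ.toMonoidHom = K) →
      (K.map T.subtype).Normal := fun K hK => by
    have : K.Characteristic := characteristic_iff_map_eq.mpr hK
    exact ConjAct.normal_of_characteristic_of_normal
  constructor
  · show ((kInfLower S).map S.subtype).Normal
    rw [← h1, Subgroup.map_map, Subgroup.subtype_comp_inclusion]
    exact key _ fun φ => (map_kInf_equiv φ).1
  · show ((kInfUpper S).map S.subtype).Normal
    rw [← h2, Subgroup.map_map, Subgroup.subtype_comp_inclusion]
    exact key _ fun φ => (map_kInf_equiv φ).2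

end CfsgLib.ConjFunctor
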