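import Cfsg.Agent.ConjFunctor.Semisimple
import Cfsg.Agent.ConjFunctor.KInfFunctor
import Cfsg.Agent.PLocal.Constraint
import Cfsg.Agent.ConjFunctor.Constrained

/-!
Elements acting cubically on a critical subgroup, from a non-normal K-infinity subgroup.
-/

set_option autoImplicit false

universe u

namespace CfsgLib.ConjFunctor

open Cfsg Subgroup
open scoped commutatorElement

variable {G : Type u} [Group G] [Finite G] {p : ℕ} [Fact p.Prime]

/-- The hypotheses on a critical subgroup `A` of `T = O_p(G)`, with `Z = Z(A)`. -/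
structure CriticalData (p : ℕ) (A Z : Subgroup G) : Prop where
  le : A ≤ pCore p G
  normal : A.Normal
  zle : Z ≤ A
  zcent : Z ≤ Subgroup.centralizer (A : Set G)
  mem_z : ∀ x, x ∈ A → x ∈ Subgroup.centralizer (A : Set G) → x ∈ Z
  znormal : Z.Normal
  class2 : ⁅A, A⁆ ≤ Z
  tcomm : ⁅pCore p G, A⁆ ≤ Z
  trivial : ∀ φ : MulAut ↥(pCore p G), (orderOf φ).Coprime p →
    (∀ a : ↥(pCore p G), (a : G) ∈ A → φ a = a) → φ = 1

/-- The element looked for. -/
def IsCubicElt (p : ℕ) (S A Z : Subgroup G) (g : G) : Prop :=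
  g ∈ S ∧ g ∉ pCore p G ∧ (∀ a ∈ A, ⁅g, ⁅g, ⁅g, a⁆⁆⁆ ∈ Z) ∧ (∀ z ∈ Z, ⁅g, ⁅g, z⁆⁆ = 1) ∧
    (IsConstrained p G → ∃ U V : Subgroup G, IsChiefFactor U V ∧ U ≤ A ∧
      (∀ u ∈ U, ⁅g, ⁅g, u⁆⁆ ∈ V) ∧ ∃ u ∈ U, ⁅g, u⁆ ∉ V)

variable {S A Z : Subgroup G}

theorem exists_moving_factor (hd : CriticalData p A Z) (hc : IsConstrained p G) {g : G}
    (hg : g ∉ pCore p G) :
    ∃ U V : Subgroup G, IsChiefFactor U V ∧ U ≤ A ∧ ∃ u ∈ U, ⁅g, u⁆ ∉ V := by
  by_contra h
  push Not at h
  let K := chiefKer A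
  have hK : g ∈ K := mem_chiefKer.mpr h
  have hKn : K.Normal := chiefKer_normal A
  have := hd.normal
  have hKp : IsPGroup p K := by
    intro k
    obtain ⟨a, m, hpm, hkm⟩ := Nat.exists_eq_pow_mul_and_not_dvd (orderOf_pos (k : G)).ne' p
      (Fact.out : p.Prime).ne_one
    refine ⟨a, Subtype.ext ?_⟩
    show (k : G) ^ p ^ a = 1
    let k₁ : G := (k : G) ^ p ^ a
    have hk₁ : (orderOf k₁).Coprime p := by
      rw [orderOf_pow' (k : G) (pow_ne_zero _ (Fact.out : p.Prime).ne_zero), hkm,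
        Nat.gcd_eq_right (Dvd.intro m rfl), Nat.mul_div_cancel_left m (pow_pos (Fact.out : p.Prime).pos a)]
      exact ((Nat.Prime.coprime_iff_not_dvd Fact.out).mpr hpm).symm
    have hA := mem_centralizer_of_chiefKer ((PLocal.isPGroup_pCore p G).to_le hd.le) hk₁
      (K.pow_mem k.2 _)
    let φ : MulAut ↥(pCore p G) := MulAut.conjNormal k₁
    have hφ : φ = 1 := hd.trivial φ (hk₁.coprime_dvd_left (orderOf_map_dvd MulAut.conjNormal k₁))
      fun t ht => Subtype.ext (by
        rw [MulAut.conjNormal_apply, ← Subgroup.mem_centralizer_iff.mp hA (t : G) ht,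
          mul_inv_cancel_right])
    have hT : k₁ ∈ Subgroup.centralizer (pCore p G : Set G) := Subgroup.mem_centralizer_iff.mpr fun t ht => by
      have h1 := congrArg (fun ψ : MulAut ↥(pCore p G) => (ψ ⟨t, ht⟩ : G)) hφ
      simp only [φ, MulAut.conjNormal_apply, MulAut.one_apply] at h1
      exact (mul_inv_eq_iff_eq_mul.mp h1).symm
    obtain ⟨j, hj⟩ := PLocal.isPGroup_pCore p G ⟨k₁, hc hT⟩
    exact orderOf_eq_one_iff.mp (Nat.eq_one_of_dvd_coprimes (hk₁.pow_right j) dvd_rfl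
      (orderOf_dvd_of_pow_eq_one (congrArg Subtype.val hj)))
  exact hg (PLocal.le_pCore hKp hK)

/-- An element quadratic on `A/Z` and on `Z` is what is looked for. -/
theorem isCubicElt_of_quadratic (hd : CriticalData p A Z) {g : G} (hgS : g ∈ S)
    (hg : g ∉ pCore p G) (h1 : ∀ a ∈ A, ⁅g, ⁅g, a⁆⁆ ∈ Z) (h2 : ∀ z ∈ Z, ⁅g, ⁅g, z⁆⁆ = 1) :
    IsCubicElt p S A Z g := by
  refine ⟨hgS, hg, fun a ha => ?_, h2, fun hc => ?_⟩
  · have h := hd.znormal.conj_mem _ (h1 a ha) g
    exact Z.mul_mem h (Z.inv_mem (h1 a ha))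
  obtain ⟨U, V, hUV, hUA, hmov⟩ := exists_moving_factor hd hc hg
  refine ⟨U, V, hUV, hUA, fun u hu => ?_, hmov⟩
  obtain ⟨hlt, hUn, hVn, hmin⟩ := hUV
  have := hd.znormal
  have hδ : ∀ x ∈ U, ⁅g, x⁆ ∈ U := fun x hx => U.mul_mem (hUn.conj_mem x hx g) (U.inv_mem hx)
  rcases hmin ((U ⊓ Z) ⊔ V) inferInstance le_sup_right (sup_le inf_le_left hlt.le) with h | h
  · have : ⁅g, ⁅g, u⁆⁆ ∈ (U ⊓ Z) ⊔ V :=
      Subgroup.mem_sup_left (Subgroup.mem_inf.mpr ⟨hδ _ (hδ u hu), h1 u (hUA hu)⟩)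
    rwa [h] at this
  · rw [← h] at hu
    obtain ⟨z, hz, v, hv, rfl⟩ := mem_sup_of_normal_right.mp hu
    let f := QuotientGroup.mk' V
    rw [← QuotientGroup.eq_one_iff, ← QuotientGroup.mk'_apply, map_commutatorElement,
      map_commutatorElement, map_mul, show (QuotientGroup.mk' V) v = 1 from (QuotientGroup.eq_one_iff v).mpr hv,
      mul_one, ← map_commutatorElement, ← map_commutatorElement, h2 z hz.2, map_one]

/-- The critical subgroup is in every relevant lower family unless there is such an element. -/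
theorem mem_kLower_of_noCubic (hd : CriticalData p A Z) (hno : ¬ ∃ g, IsCubicElt p S A Z g)
    {O : Subgroup G} (hOS : O ≤ S) : A ∈ kLowerStarFamily O := by
  refine ⟨hd.class2.trans hd.zcent, by rw [normalizer_eq_top (H := A) (h := hd.normal)]; exact le_top,
    fun B hB hBO hAB h3 h4 => ?_⟩
  have hZ : Z ≤ A ⊓ Subgroup.centralizer (A : Set G) := le_inf hd.zle hd.zcent
  refine le_trans ?_ hZ
  have hBT : B ≤ pCore p G := by
    intro b hb
    by_contra hbT
    refine hno ⟨b, isCubicElt_of_quadratic hd (hOS (hBO hb)) hbT (fun a ha => ?_) fun z hz => ?_⟩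
    · have hba : ⁅b, a⁆ ∈ A := A.mul_mem (hd.normal.conj_mem a ha b) (A.inv_mem ha)
      have hbaB : ⁅b, a⁆ ∈ B := by
        rw [commutatorElement_def, show b * a * b⁻¹ * a⁻¹ = b * (a * b⁻¹ * a⁻¹) by group]
        exact B.mul_mem hb ((mem_normalizer_iff.mp (hAB ha) b⁻¹).mp (B.inv_mem hb))
      refine hd.mem_z _ (A.mul_mem (hd.normal.conj_mem _ hba b) (A.inv_mem hba)) ?_
      have h5 : ⁅A, ⁅B, B⁆⁆ = ⊥ := h3
      rw [Subgroup.mem_centralizer_iff]
      intro a' ha'
      exact commutatorElement_eq_one_iff_commute.mp (mem_bot.mp (h5 ▸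
        commutator_mem_commutator ha' (commutator_mem_commutator hb hbaB)))
    · have hz' : z ∈ A ⊓ Subgroup.centralizer (A : Set G) := hZ hz
      have h5 : ⁅⁅z, b⁆, b⁆ = 1 := mem_bot.mp (h4 ▸
        commutator_mem_commutator (commutator_mem_commutator hz' hb) hb)
      have h6 : Commute b ⁅b, z⁆ := by
        rw [← commutatorElement_inv z b]
        exact (commutatorElement_eq_one_iff_commute.mp h5).symm.inv_right
      exact commutatorElement_eq_one_iff_commute.mpr h6
  rw [commutator_comm]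
  exact (commutator_mono hBT le_rfl).trans hd.tcomm

theorem mem_kUpper_of_le (hd : CriticalData p A Z) {E : Subgroup G} (hE : E ≤ pCore p G) :
    A ∈ kUpperStarFamily E := by
  refine ⟨hd.class2.trans hd.zcent, le_trans ?_ (le_inf hd.zle hd.zcent)⟩
  rw [commutator_comm]
  exact (commutator_mono hE le_rfl).trans hd.tcomm

theorem le_pCore_of_upper (hd : CriticalData p A Z) (hno : ¬ ∃ g, IsCubicElt p S A Z g)
    {E B : Subgroup G} (hAE : A ≤ E) (hBS : B ≤ S) (hB : B ∈ kUpperStarFamily E) : B ≤ pCore p G := by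
  intro b hb
  by_contra hbT
  have hq : ∀ a ∈ A, ⁅b, ⁅b, a⁆⁆ = 1 := fun a ha => by
    have h1 := hB.2 (commutator_mem_commutator hb (hAE ha))
    exact commutatorElement_eq_one_iff_commute.mpr (Subgroup.mem_centralizer_iff.mp h1.2 b hb)
  exact hno ⟨b, isCubicElt_of_quadratic hd (hBS hb) hbT (fun a ha => (hq a ha).symm ▸ Z.one_mem)
    fun z hz => hq z (hd.zle hz)⟩

theorem le_pCore_of_lower (hd : CriticalData p A Z) (hno : ¬ ∃ g, IsCubicElt p S A Z g)
    {O B : Subgroup G} (hAO : A ≤ O) (hBS : B ≤ S) (hB : B ∈ kLowerStarFamily O) :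
    B ≤ pCore p G := by
  obtain ⟨hB2, hON, htest⟩ := hB
  have hAN : A ≤ Subgroup.normalizer (B : Set G) := hAO.trans hON
  have hba : ∀ b ∈ B, ∀ a ∈ A, ⁅b, a⁆ ∈ A ⊓ B := fun b hb a ha => by
    refine Subgroup.mem_inf.mpr ⟨A.mul_mem (hd.normal.conj_mem a ha b) (A.inv_mem ha), ?_⟩
    rw [commutatorElement_def, show b * a * b⁻¹ * a⁻¹ = b * (a * b⁻¹ * a⁻¹) by group]
    exact B.mul_mem hb ((mem_normalizer_iff.mp (hAN ha) b⁻¹).mp (B.inv_mem hb))
  -- conjugation by `A` preserves the centre of `B`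
  have hconjC : ∀ a ∈ A, ∀ y ∈ B, y ∈ Subgroup.centralizer (B : Set G) → ∀ c ∈ B,
      Commute ⁅y, a⁆ c := by
    intro a ha y hy hyC c hc
    have h1 : Commute y (a⁻¹ * c * a) :=
      (Subgroup.mem_centralizer_iff.mp hyC _ ((mem_normalizer_iff''.mp (hAN ha) c).mp hc)).symm
    have h2 : Commute (a * y⁻¹ * a⁻¹) c := by
      have := h1.inv_left.map (MulAut.conj a)
      simpa [mul_assoc] using this
    rw [commutatorElement_def, show y * a * y⁻¹ * a⁻¹ = y * (a * y⁻¹ * a⁻¹) by group]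
    exact (show Commute y c from (Subgroup.mem_centralizer_iff.mp hyC c hc).symm).mul_left h2
  have hZB : B ⊓ Subgroup.centralizer (B : Set G) ≤ pCore p G := by
    rintro y ⟨hy, hyC⟩
    by_contra hyT
    have hq : ∀ a ∈ A, ⁅y, ⁅y, a⁆⁆ = 1 := fun a ha =>
      commutatorElement_eq_one_iff_commute.mpr (hconjC a ha y hy hyC y hy).symm
    exact hno ⟨y, isCubicElt_of_quadratic hd (hBS hy) hyT (fun a ha => (hq a ha).symm ▸ Z.one_mem)
      fun z hz => hq z (hd.zle hz)⟩
  have hcenC : ∀ c ∈ B ⊓ Subgroup.centralizer (B : Set G), ∀ b ∈ B, Commute c b := fun c hc b hb =>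
    (Subgroup.mem_centralizer_iff.mp hc.2 b hb).symm
  -- `Z` and `R` are test subgroups
  have htest' : ∀ R : Subgroup G, R ≤ A → B ≤ Subgroup.normalizer (R : Set G) →
      (∀ r ∈ R, ∀ x ∈ R, ∀ b ∈ B, Commute ⁅r, x⁆ b) → ∀ r ∈ R, ∀ b ∈ B,
        ⁅b, r⁆ ∈ B ⊓ Subgroup.centralizer (B : Set G) := by
    intro R hRA hBR hRR r hr b hb
    refine htest R (((commutator_mono hRA hRA).trans (hd.class2.trans hd.zcent)).trans
      (Subgroup.centralizer_le hRA)) (hRA.trans hAO) hBR ?_ ?_ (commutator_mem_commutator hb hr)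
    · rw [commutator_comm, commutator_eq_bot_iff_le_centralizer, commutator_le]
      exact fun r hr x hx => Subgroup.mem_centralizer_iff.mpr fun b hb => (hRR r hr x hx b hb).eq.symm
    · rw [commutator_eq_bot_iff_le_centralizer]
      exact ((commutator_mono hZB hRA).trans hd.tcomm).trans
        (hd.zcent.trans (Subgroup.centralizer_le hRA))
  have hZq : ∀ b ∈ B, ∀ z ∈ Z, ⁅b, ⁅b, z⁆⁆ = 1 := fun b hb z hz =>
    commutatorElement_eq_one_iff_commute.mpr ((hcenC _ (htest' Z hd.zle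
      (by rw [normalizer_eq_top (H := Z) (h := hd.znormal)]; exact le_top)
      (fun r hr x hx c _ => by
        rw [commutatorElement_eq_one_iff_commute.mpr
          (Subgroup.mem_centralizer_iff.mp (hd.zcent hr) x (hd.zle hx)).symm]
        exact Commute.one_left c) z hz b hb) b hb).symm)
  intro b hb
  by_contra hbT
  have hδ2 : ∀ a ∈ A, ⁅b, ⁅b, a⁆⁆ ∈ B ⊓ Subgroup.centralizer (B : Set G) := fun a ha =>
    Subgroup.mem_inf.mpr ⟨commutator_le_self B (commutator_mem_commutator hb (hba b hb a ha).2),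
      hB2 (commutator_mem_commutator hb (hba b hb a ha).2)⟩
  refine hno ⟨b, hBS hb, hbT, fun a ha => ?_, hZq b hb, fun hc => ?_⟩
  · rw [commutatorElement_eq_one_iff_commute.mpr (hcenC _ (hδ2 a ha) b hb).symm]
    exact Z.one_mem
  by_cases hcase : ∃ b' ∈ B, b' ∉ pCore p G ∧ b' ∉ chiefKer Z
  · obtain ⟨b', hb', hbT', hker⟩ := hcase
    rw [mem_chiefKer] at hker
    push Not at hker
    obtain ⟨U, V, hUV, hUZ, u, hu, hmov⟩ := hker
    refine absurd ⟨b', hBS hb', hbT', fun a ha => ?_, hZq b' hb', fun _ => ⟨U, V, hUV, hUZ.trans hd.zle,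
      fun x hx => by rw [hZq b' hb' x (hUZ hx)]; exact V.one_mem, u, hu, hmov⟩⟩ hno
    have h1 := commutator_mem_commutator hb' (hba b' hb' a ha).2
    rw [commutatorElement_eq_one_iff_commute.mpr
      (Subgroup.mem_centralizer_iff.mp (hB2 h1) b' hb')]
    exact Z.one_mem
  push Not at hcase
  have := hd.znormal
  have hZp : IsPGroup p Z := (PLocal.isPGroup_pCore p G).to_le (hd.zle.trans hd.le)
  let C₀ := chiefKer Z
  have hC₀n : C₀.Normal := chiefKer_normal Z
  have hBC₀ : B ≤ C₀ := by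
    intro x hx
    by_cases hxT : x ∈ pCore p G
    swap
    · exact hcase x hx hxT
    -- elements of `O_p(G)` centralise every chief factor below it
    refine mem_chiefKer.mpr fun U V hUV hU y hy => ?_
    have hVn := hUV.2.2.1
    have hUn := hUV.2.1
    have hUT : U ≤ pCore p G := hU.trans (hd.zle.trans hd.le)
    have hle : ⁅pCore p G, U⁆ ⊔ V ≤ U := sup_le (commutator_le_right _ _) hUV.1.le
    rcases hUV.2.2.2 _ inferInstance le_sup_right hle with h | h
    · exact h ▸ Subgroup.mem_sup_left (commutator_mem_commutator hxT hy)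
    · exfalso
      let f := QuotientGroup.mk' V
      have : Group.IsNilpotent ((pCore p G).map f) :=
        ((PLocal.isPGroup_pCore p G).map f).isNilpotent
      have hUb : U.map f ≤ (pCore p G).map f := map_mono hUT
      have hU0 : U.map f ≠ ⊥ := fun h0 => hUV.1.not_ge (by
        rwa [Subgroup.map_eq_bot_iff, QuotientGroup.ker_mk'] at h0)
      have hsat : U.map f ≤ ⁅(pCore p G).map f, U.map f⁆ := by
        rw [← map_commutator]
        conv_lhs => rw [← h]
        rw [Subgroup.map_sup, (Subgroup.map_eq_bot_iff V).mpr (by rw [QuotientGroup.ker_mk']), sup_bot_eq]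
      have hUfn : (U.map f).Normal := hUn.map f (QuotientGroup.mk'_surjective V)
      have hcs : ∀ i, U.map f ≤ ((pCore p G).map f).lowerCentralSeries i := by
        intro i
        induction i with
        | zero => rw [Subgroup.lowerCentralSeries_zero]; exact hUb
        | succ i ih =>
          rw [Subgroup.lowerCentralSeries_succ]
          refine hsat.trans ?_
          rw [commutator_comm]
          exact commutator_mono ih le_rfl
      obtain ⟨i, hi⟩ := (Subgroup.isNilpotent_iff_lowerCentralSeries _).mp this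
      exact hU0 (le_bot_iff.mp (hi ▸ hcs i))
  -- the subgroup `R`
  let R : Subgroup G :=
    { carrier := {a | a ∈ A ∧ ∀ x ∈ A, ∀ c ∈ B, Commute ⁅a, x⁆ c}
      one_mem' := ⟨A.one_mem, fun x _ c _ => by rw [commutatorElement_one_left]; exact Commute.one_left c⟩
      mul_mem' := fun {a a'} ha ha' => ⟨A.mul_mem ha.1 ha'.1, fun x hx c hc => by
        have hz : ⁅a', x⁆ ∈ Z := hd.class2 (commutator_mem_commutator ha'.1 hx)
        have e : ⁅a * a', x⁆ = ⁅a', x⁆ * ⁅a, x⁆ := by
          calc ⁅a * a', x⁆ = a * ⁅a', x⁆ * a⁻¹ * ⁅a, x⁆ := by simp only [commutatorElement_def]; group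
            _ = _ := by
              rw [Subgroup.mem_centralizer_iff.mp (hd.zcent hz) a ha.1, mul_inv_cancel_right]
        rw [e]; exact (ha'.2 x hx c hc).mul_left (ha.2 x hx c hc)⟩
      inv_mem' := fun {a} ha => ⟨A.inv_mem ha.1, fun x hx c hc => by
        have hz : ⁅a, x⁆ ∈ Z := hd.class2 (commutator_mem_commutator ha.1 hx)
        have e : ⁅a⁻¹, x⁆ = ⁅a, x⁆⁻¹ := by
          calc ⁅a⁻¹, x⁆ = a⁻¹ * ⁅a, x⁆⁻¹ * a := by simp only [commutatorElement_def]; group
            _ = _ := by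
              rw [mul_assoc, ← Subgroup.mem_centralizer_iff.mp (hd.zcent (Z.inv_mem hz)) a ha.1,
                inv_mul_cancel_left]
        rw [e]; exact (ha.2 x hx c hc).inv_left⟩ }
  have hRA : R ≤ A := fun a ha => ha.1
  have hRconj : ∀ g : G, (∀ z ∈ Z, (∀ c ∈ B, Commute z c) → ∀ c ∈ B, Commute (g * z * g⁻¹) c) →
      g ∈ Subgroup.normalizer (R : Set G) := by
    intro g hg
    refine mem_normalizer_of_forall_conj_mem fun a ha => ⟨hd.normal.conj_mem a ha.1 g, fun x hx c hc => ?_⟩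
    have hx' : g⁻¹ * x * g ∈ A := by simpa using hd.normal.conj_mem x hx g⁻¹
    have e : ⁅g * a * g⁻¹, x⁆ = g * ⁅a, g⁻¹ * x * g⁆ * g⁻¹ := by
      simp only [commutatorElement_def]; group
    rw [e]
    exact hg _ (hd.class2 (commutator_mem_commutator ha.1 hx')) (fun c hc => ha.2 _ hx' c hc) c hc
  let C₁ := Subgroup.centralizer (Z : Set G)
  let L : Subgroup G := C₁ ⊔ B
  have hLR : L ≤ Subgroup.normalizer (R : Set G) := by
    refine sup_le (fun g hg => hRconj g fun z hz hzc c hc => ?_) (fun g hg => hRconj g fun z _ hzc c hc => ?_)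
    · rw [← Subgroup.mem_centralizer_iff.mp hg z hz, mul_inv_cancel_right]
      exact hzc c hc
    · rw [← (hzc g hg).eq, mul_inv_cancel_right]
      exact hzc c hc
  have hC₁C₀ : C₁ ≤ C₀ := fun x hx => mem_chiefKer.mpr fun U V hUV hU y hy => by
    rw [commutatorElement_eq_one_iff_commute.mpr
      (Subgroup.mem_centralizer_iff.mp hx y (hU hy)).symm]
    exact V.one_mem
  have hRq : ∀ r ∈ R, ⁅b, ⁅b, r⁆⁆ = 1 := fun r hr =>
    commutatorElement_eq_one_iff_commute.mpr ((hcenC _ (htest' R hRA (le_trans le_sup_right hLR)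
      (fun r hr x hx c hc => hr.2 x (hRA hx) c hc) r hr b hb) b hb).symm)
  have hR2 : ∀ a ∈ A, ⁅b, ⁅b, a⁆⁆ ∈ R := fun a ha => by
    have h1 := hba b hb a ha
    refine ⟨A.mul_mem (hd.normal.conj_mem _ h1.1 b) (A.inv_mem h1.1), fun x hx c hc => ?_⟩
    exact hconjC x hx _ (hδ2 a ha).1 (hδ2 a ha).2 c hc
  obtain ⟨U, V, hUV, hUA, hmov⟩ := exists_moving_factor hd hc hbT
  refine ⟨U, V, hUV, hUA, fun u hu => ?_, hmov⟩
  obtain ⟨hlt, hUn, hVn, hmin⟩ := id hUV
  let f := QuotientGroup.mk' V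
  obtain ⟨hab, -⟩ := chiefFactor_elementary hUV ((PLocal.isPGroup_pCore p G).to_le (hUA.trans hd.le))
  let M : Subgroup (G ⧸ V) := U.map f
  have hMn : M.Normal := hUn.map f (QuotientGroup.mk'_surjective V)
  have hM0 : M ≠ ⊥ := fun h => hlt.not_ge (by
    rw [Subgroup.map_eq_bot_iff, QuotientGroup.ker_mk'] at h; exact h)
  have : IsMulCommutative M := by
    rw [← le_centralizer_iff_isMulCommutative, ← commutator_eq_bot_iff_le_centralizer,
      ← map_commutator, Subgroup.map_eq_bot_iff, QuotientGroup.ker_mk']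
    exact hab
  have hss₀ : InvSemisimple (⊤ : Subgroup (G ⧸ V)) M := by
    refine invSemisimple_top hM0 fun Y hY hYM => ?_
    rcases hmin (Y.comap f) (hY.comap f) (by
        conv_lhs => rw [← QuotientGroup.ker_mk' V]
        exact ker_le_comap f Y)
        ((comap_mono hYM).trans (by
          rw [comap_map_eq, QuotientGroup.ker_mk']; exact sup_le le_rfl hlt.le)) with h | h
    · left
      rw [← map_comap_eq_self_of_surjective (QuotientGroup.mk'_surjective V) Y, h, Subgroup.map_eq_bot_iff,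
        QuotientGroup.ker_mk']
    · right
      rw [← map_comap_eq_self_of_surjective (QuotientGroup.mk'_surjective V) Y, h]
  have hss : ∀ m, ∀ K : Subgroup G, C₁ ≤ K → K ≤ C₀ → Nat.card C₀ - Nat.card K = m →
      InvSemisimple (K.map f) M := by
    intro m
    induction m using Nat.strongRecOn with
    | ind m ih =>
    intro K hK1 hK0 hm
    rcases eq_or_lt_of_le hK0 with rfl | hlt'
    · exact hss₀.of_normal le_top (by
        have : (C₀.map f).Normal := hC₀n.map f (QuotientGroup.mk'_surjective V)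
        rw [normalizer_eq_top (H := C₀.map f)])
    let q := QuotientGroup.mk' C₁
    have hC₁n : C₁.Normal := inferInstance
    let K' := C₀ ⊓ Subgroup.normalizer (K : Set G)
    have hKK' : K < K' := by
      have hp : IsPGroup p (C₀.map q) := by
        rintro ⟨_, k, hk, rfl⟩
        obtain ⟨a, n, hpn, hkn⟩ := Nat.exists_eq_pow_mul_and_not_dvd (orderOf_pos k).ne' p
          (Fact.out : p.Prime).ne_one
        refine ⟨a, Subtype.ext ?_⟩
        show q k ^ p ^ a = 1
        rw [← map_pow]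
        refine (QuotientGroup.eq_one_iff _).mpr (mem_centralizer_of_chiefKer hZp ?_ (C₀.pow_mem hk _))
        rw [orderOf_pow' k (pow_ne_zero _ (Fact.out : p.Prime).ne_zero), hkn,
          Nat.gcd_eq_right (Dvd.intro n rfl), Nat.mul_div_cancel_left n (pow_pos (Fact.out : p.Prime).pos a)]
        exact ((Nat.Prime.coprime_iff_not_dvd Fact.out).mpr hpn).symm
      have hKq : (K.map q).comap q = K := by
        rw [comap_map_eq, QuotientGroup.ker_mk', sup_eq_left.mpr hK1]
      have h1 : K.map q < C₀.map q := lt_of_le_of_ne (map_mono hK0) fun h => hlt'.ne (by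
        rw [← hKq, h, comap_map_eq, QuotientGroup.ker_mk', sup_eq_left.mpr hC₁C₀])
      have h2 := lt_inf_normalizer hp h1
      refine lt_of_le_of_ne (le_inf hK0 le_normalizer) fun h => ?_
      obtain ⟨y, ⟨hy0, hyn⟩, hy⟩ := SetLike.exists_of_lt h2
      obtain ⟨k, hk, rfl⟩ := hy0
      refine hy ⟨k, h.symm ▸ (Subgroup.mem_inf.mpr ⟨hk, ?_⟩ : k ∈ K'), rfl⟩
      refine mem_normalizer_of_forall_conj_mem fun x hx => ?_
      have h3 : q (k * x * k⁻¹) ∈ K.map q := by
        rw [map_mul, map_mul, map_inv]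
        exact (mem_normalizer_iff.mp hyn _).mp (mem_map_of_mem q hx)
      exact hKq ▸ h3
    refine (ih _ ?_ K' (hK1.trans hKK'.le) inf_le_left rfl).of_normal (map_mono hKK'.le) ?_
    · have h1 := card_lt_of_lt hKK'
      have h2 : Nat.card K' ≤ Nat.card C₀ := Nat.le_of_dvd Nat.card_pos (card_dvd_of_le inf_le_left)
      omega
    · exact (map_mono inf_le_right).trans (le_normalizer_map f)
  have hssL := hss _ L le_sup_left (sup_le hC₁C₀ hBC₀) rfl
  obtain ⟨W, hWM, hWn, hRW, hdec⟩ := hssL.exists_complement (R := (R ⊓ U).map f) (map_mono inf_le_right) (by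
    refine le_trans (map_mono ?_) (le_normalizer_map f)
    intro g hg
    refine mem_normalizer_of_cj_le ?_
    rw [cj_inf, cj_eq_of_mem_normalizer (hLR hg), cj_eq_of_mem_normalizer (T := U) (g := g)
      (by rw [normalizer_eq_top (H := U)]; trivial)])
  have hu2 : ∀ v ∈ U, ⁅b, ⁅b, v⁆⁆ ∈ R ⊓ U := fun v hv => Subgroup.mem_inf.mpr ⟨hR2 v (hUA hv), by
    have h1 : ⁅b, v⁆ ∈ U := U.mul_mem (hUn.conj_mem v hv b) (U.inv_mem hv)
    exact U.mul_mem (hUn.conj_mem _ h1 b) (U.inv_mem h1)⟩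
  obtain ⟨_, ⟨r, hr, rfl⟩, w, hw, hrw⟩ := hdec (f u) (mem_map_of_mem f hu)
  obtain ⟨v, hv, rfl⟩ := hWM hw
  have hWb : ∀ x ∈ W, ⁅f b, x⁆ ∈ W := fun x hx => W.mul_mem
    ((mem_normalizer_iff.mp (hWn (mem_map_of_mem f (Subgroup.mem_sup_right hb))) x).mp hx) (W.inv_mem hx)
  have hv1 : ⁅f b, ⁅f b, f v⁆⁆ = 1 := by
    have : ⁅f b, ⁅f b, f v⁆⁆ ∈ (R ⊓ U).map f ⊓ W := Subgroup.mem_inf.mpr
      ⟨⟨_, hu2 v hv, by rw [map_commutatorElement, map_commutatorElement]⟩, hWb _ (hWb _ hw)⟩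
    rwa [hRW, mem_bot] at this
  have hr1 : ⁅f b, ⁅f b, f r⁆⁆ = 1 := by
    rw [← map_commutatorElement, ← map_commutatorElement, hRq r hr.1, map_one]
  have hcm : ∀ x ∈ M, ∀ y ∈ M, Commute x y := fun x hx y hy =>
    Subgroup.mem_centralizer_iff.mp (le_centralizer_iff_isMulCommutative.mpr ‹IsMulCommutative M› hy) x hx
  have hδM : ∀ x ∈ M, ⁅f b, x⁆ ∈ M := fun x hx => M.mul_mem (hMn.conj_mem x hx _) (M.inv_mem hx)
  have hlin : ∀ x ∈ M, ∀ y ∈ M, ⁅f b, x * y⁆ = ⁅f b, x⁆ * ⁅f b, y⁆ := fun x hx y hy => by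
    calc ⁅f b, x * y⁆ = ⁅f b, x⁆ * (x * ⁅f b, y⁆ * x⁻¹) := by simp only [commutatorElement_def]; group
      _ = _ := by rw [(hcm x hx _ (hδM y hy)).eq, mul_inv_cancel_right]
  rw [← QuotientGroup.eq_one_iff, ← QuotientGroup.mk'_apply, map_commutatorElement,
    map_commutatorElement, show (QuotientGroup.mk' V) u = f u from rfl, ← hrw,
    hlin _ (mem_map_of_mem f hr.2) _ (mem_map_of_mem f hv),
    hlin _ (hδM _ (mem_map_of_mem f hr.2)) _ (hδM _ (mem_map_of_mem f hv)), hr1, hv1, one_mul]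

/-- A non-normal K-infinity subgroup yields a cubic element on a critical subgroup. -/
theorem exists_cubicElt (hS : IsSylowIn p S ⊤) (hd : CriticalData p A Z)
    (hK : ¬ (inducedFunctor kInfLower S).Normal ∨ ¬ (inducedFunctor kInfUpper S).Normal) :
    ∃ g, IsCubicElt p S A Z g := by
  by_contra hno
  have hTS : pCore p G ≤ S := pCore_le_isSylowIn hS
  have hAS : A ≤ S := hd.le.trans hTS
  let i := S.subtype
  have hi : Function.Injective i := S.subtype_injective
  let A' : Subgroup S := A.subgroupOf S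
  have hA' : A'.map i = A := map_subgroupOf_eq_of_le hAS
  have hupper : ∀ n, (kSeqEven S n).map i ≤ pCore p G → A' ≤ kSeqOdd S (n + 1) := fun n h =>
    le_kSeqOdd ((map_mem_kUpperStar i hi).mp (hA' ▸ mem_kUpper_of_le hd h))
  have hA'E : ∀ n, A' ≤ kSeqEven S n := fun n =>
    le_kSeqEven ((map_mem_kLowerStar i hi).mp (hA' ▸ mem_kLower_of_noCubic hd hno (map_subtype_le _)))
  have hmain : ∀ n, A' ≤ kSeqOdd S n ∧ (kSeqEven S n).map i ≤ pCore p G := by
    intro n
    induction n with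
    | zero =>
      refine ⟨le_top, map_le_iff_le_comap.mpr (sSup_le fun B hB => map_le_iff_le_comap.mp ?_)⟩
      exact le_pCore_of_lower hd hno (hA' ▸ map_mono (le_top : A' ≤ kSeqOdd S 0)) (map_subtype_le _)
        ((map_mem_kLowerStar i hi).mpr hB)
    | succ n ih =>
      have h1 := hupper n ih.2
      refine ⟨h1, map_le_iff_le_comap.mpr (sSup_le fun B hB => map_le_iff_le_comap.mp ?_)⟩
      exact le_pCore_of_lower hd hno (hA' ▸ map_mono h1) (map_subtype_le _)
        ((map_mem_kLowerStar i hi).mpr hB)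
  obtain ⟨h1, h2⟩ := kInf_normal_of_le hTS fun n => ⟨(hmain n).2, by
    refine map_le_iff_le_comap.mpr (sSup_le fun B hB => map_le_iff_le_comap.mp ?_)
    exact le_pCore_of_upper hd hno (hA' ▸ map_mono (hA'E n)) (map_subtype_le _)
      ((map_mem_kUpperStar i hi).mpr hB)⟩
  rcases hK with h | h
  exacts [h h1, h h2]

end CfsgLib.ConjFunctor

namespace CfsgLib.ConjFunctor

open Cfsg Subgroup
open scoped commutatorElement

variable {G : Type u} [Group G] [Finite G] {p : ℕ} [Fact p.Prime]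

theorem criticalData_of {A : Subgroup G} (hAT : A ≤ pCore p G)
    (hAchar : (A.subgroupOf (pCore p G)).Characteristic)
    (hA2 : ⁅A, A⁆ ≤ Subgroup.centralizer (A : Set G))
    (hA3 : ⁅pCore p G, A⁆ ≤ A ⊓ Subgroup.centralizer (A : Set G))
    (hA5 : ∀ φ : MulAut ↥(pCore p G), (orderOf φ).Coprime p →
      (∀ a : ↥(pCore p G), (a : G) ∈ A → φ a = a) → φ = 1) :
    CriticalData p A (A ⊓ Subgroup.centralizer (A : Set G)) := by
  have hn : A.Normal := by
    have := hAchar
    rw [← map_subgroupOf_eq_of_le hAT]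
    exact ConjAct.normal_of_characteristic_of_normal
  exact
    { le := hAT
      normal := hn
      zle := inf_le_left
      zcent := inf_le_right
      mem_z := fun x hx hc => ⟨hx, hc⟩
      znormal := inferInstance
      class2 := le_inf (commutator_le_self A) hA2
      tcomm := hA3
      trivial := hA5 }

theorem iterCommutator_two_eq_bot {Z : Subgroup G} [Z.Normal] [IsMulCommutative Z] {g : G}
    (h : ∀ z ∈ Z, ⁅g, ⁅g, z⁆⁆ = 1) : ⁅⁅Z, zpowers g⁆, zpowers g⁆ = ⊥ :=
  iterCommutator_eq_bot_of_forall (n := 2) (by rw [normalizer_eq_top (H := Z)]; trivial) h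

theorem iterCommutator_three_le {A Z : Subgroup G} [A.Normal] [Z.Normal] (hab : ⁅A, A⁆ ≤ Z) {g : G}
    (h : ∀ a ∈ A, ⁅g, ⁅g, ⁅g, a⁆⁆⁆ ∈ Z) : iterCommutator A (zpowers g) 3 ≤ Z :=
  (iterCommutator_le_iff hab g 3).mpr h

end CfsgLib.ConjFunctor
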