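import Cfsg.Agent.ConjFunctor.MainCor
import Cfsg.Agent.LocalEvenBasic.SylowNormal
import Cfsg.Agent.Transfer.NormalPComplement
import Mathlib.GroupTheory.Transfer

/-!
The normal closures of `Ω₁(Z(S))` in `N(W₁ S)` and in `N(W₂ S)` agree when every constrained
section has the factorizations `C(Ω₁ Z T) N(W_i T)`.
-/

set_option autoImplicit false

universe u

namespace CfsgLib.ConjFunctor

open Cfsg Subgroup
open scoped commutatorElement

/-- The subgroup generated by the `H`-conjugates of `Z`. -/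
def conjClosure {G : Type*} [Group G] (H Z : Subgroup G) : Subgroup G :=
  Subgroup.closure {y | ∃ h ∈ H, ∃ z ∈ Z, y = h * z * h⁻¹}

theorem conjClosure_mono {G : Type*} [Group G] {H H' Z : Subgroup G} (h : H ≤ H') :
    conjClosure H Z ≤ conjClosure H' Z :=
  Subgroup.closure_mono fun _ ⟨a, ha, hz⟩ => ⟨a, h ha, hz⟩

theorem mem_conjClosure {G : Type*} [Group G] {H Z : Subgroup G} {h z : G} (hh : h ∈ H) (hz : z ∈ Z) :
    h * z * h⁻¹ ∈ conjClosure H Z :=
  Subgroup.subset_closure ⟨h, hh, z, hz, rfl⟩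

theorem le_normalizer_conjClosure {G : Type*} [Group G] [Finite G] {H Z : Subgroup G} :
    H ≤ Subgroup.normalizer (conjClosure H Z : Set G) := by
  intro g hg
  refine mem_normalizer_of_cj_le ?_
  rw [conjClosure, MonoidHom.map_closure]
  refine Subgroup.closure_mono ?_
  rintro _ ⟨_, ⟨h, hh, z, hz, rfl⟩, rfl⟩
  exact ⟨g * h, H.mul_mem hg hh, z, hz, by simp [mul_assoc]⟩

theorem map_omegaOne_le {G H : Type*} [Group G] [Group H] (f : G →* H) (p : ℕ) {X : Subgroup G}
    {Y : Subgroup H} (h : X.map f ≤ Y) : (omegaOne p X).map f ≤ omegaOne p Y := by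
  rw [omegaOne, MonoidHom.map_closure]
  refine Subgroup.closure_mono ?_
  rintro _ ⟨x, ⟨hx, hxp⟩, rfl⟩
  exact ⟨h (mem_map_of_mem f hx), by rw [← map_pow, hxp, map_one]⟩

/-- The centralizer of `O_p` is `(central Sylow) × O_{p'}` when a Sylow subgroup of it is normal in `G`. -/
theorem centralizer_le_sup_of_normal_sylow {X : Type*} [Group X] [Finite X] {p : ℕ} [Fact p.Prime]
    (P : Sylow p (Subgroup.centralizer (pCore p X : Set X)))
    (hn : ((P : Subgroup _).map (Subgroup.centralizer (pCore p X : Set X)).subtype).Normal) :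
    Subgroup.centralizer (pCore p X : Set X) ≤ pCore p X ⊔ pPrimeCore p X := by
  let C := Subgroup.centralizer (pCore p X : Set X)
  let T := (P : Subgroup C).map C.subtype
  haveI : T.Normal := hn
  have hTQ : T ≤ pCore p X := PLocal.le_pCore (P.isPGroup'.map _)
  have hcen : Subgroup.normalizer ((P : Subgroup C) : Set C) ≤
      Subgroup.centralizer ((P : Subgroup C) : Set C) :=
    fun c _ => Subgroup.mem_centralizer_iff.mpr fun z hz =>
      Subtype.ext (Subgroup.mem_centralizer_iff.mp c.2 _ (hTQ (mem_map_of_mem C.subtype hz)))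
  have hcompl := MonoidHom.ker_transferSylow_isComplement' P hcen
  have hK := Transfer.not_dvd_card_of_isComplement' hcompl
  have hker := Transfer.eq_pResidual_of_isComplement' hcompl
  haveI : (pResidual p C).Characteristic := characteristic_iff_map_eq.mpr fun e =>
    Transfer.map_pResidual_equiv e
  haveI : ((pResidual p C).map C.subtype).Normal := ConjAct.normal_of_characteristic_of_normal
  have hle : (pResidual p C).map C.subtype ≤ pPrimeCore p X := by
    refine PLocal.le_pPrimeCore ?_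
    rw [card_map_of_injective C.subtype_injective, Transfer.coprime_prime_iff, ← hker]
    exact hK
  intro c hc
  have h1 : (⟨c, hc⟩ : C) ∈ (pResidual p C) ⊔ (P : Subgroup C) := by
    rw [← hker, hcompl.sup_eq_top]; trivial
  have h2 : c ∈ ((pResidual p C) ⊔ (P : Subgroup C)).map C.subtype := ⟨_, h1, rfl⟩
  rw [Subgroup.map_sup] at h2
  exact (sup_le (hle.trans le_sup_right) (hTQ.trans le_sup_left)) h2

variable {p : ℕ} [Fact p.Prime] {W W' : ∀ (Q : Type u) [Group Q], Subgroup Q}

theorem conjClosure_le_of_normalized {G : Type u} [Group G] [Finite G] (hW' : IsCharPFunctor.{u} p W')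
    (S : Sylow p G)
    (hfac : ∀ (K R : Subgroup G) [hR : (R.subgroupOf K).Normal],
      IsConstrained p (↥K ⧸ R.subgroupOf K) → ∀ (T : Sylow p (↥K ⧸ R.subgroupOf K))
        (x : ↥K ⧸ R.subgroupOf K),
        ∃ a ∈ Subgroup.centralizer ((omegaOne p ((T : Subgroup (↥K ⧸ R.subgroupOf K)) ⊓
          Subgroup.centralizer ((T : Subgroup (↥K ⧸ R.subgroupOf K)) : Set _)) :
            Subgroup (↥K ⧸ R.subgroupOf K)) : Set (↥K ⧸ R.subgroupOf K)),
        ∃ b ∈ Subgroup.normalizer ((inducedFunctor W' (T : Subgroup (↥K ⧸ R.subgroupOf K)) :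
          Subgroup (↥K ⧸ R.subgroupOf K)) : Set (↥K ⧸ R.subgroupOf K)), x = a * b)
    {H : Subgroup G} (hSH : (S : Subgroup G) ≤ H)
    (hHW : H ≤ Subgroup.normalizer ((inducedFunctor W (S : Subgroup G) : Subgroup G) : Set G))
    (hZW : omegaOne p ((S : Subgroup G) ⊓ Subgroup.centralizer ((S : Subgroup G) : Set G)) ≤
      inducedFunctor W (S : Subgroup G))
    (ih : ∀ R : Subgroup G, R < H → (S : Subgroup G) ≤ R →
      conjClosure R (omegaOne p ((S : Subgroup G) ⊓ Subgroup.centralizer ((S : Subgroup G) : Set G))) ≤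
        conjClosure (R ⊓ Subgroup.normalizer ((inducedFunctor W' (S : Subgroup G) : Subgroup G) : Set G))
          (omegaOne p ((S : Subgroup G) ⊓ Subgroup.centralizer ((S : Subgroup G) : Set G)))) :
    conjClosure H (omegaOne p ((S : Subgroup G) ⊓ Subgroup.centralizer ((S : Subgroup G) : Set G))) ≤
      conjClosure (H ⊓ Subgroup.normalizer ((inducedFunctor W' (S : Subgroup G) : Subgroup G) : Set G))
        (omegaOne p ((S : Subgroup G) ⊓ Subgroup.centralizer ((S : Subgroup G) : Set G))) := by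
  set Z0 := omegaOne p ((S : Subgroup G) ⊓ Subgroup.centralizer ((S : Subgroup G) : Set G))
  set A' := conjClosure (H ⊓ Subgroup.normalizer ((inducedFunctor W' (S : Subgroup G) : Subgroup G) : Set G)) Z0
  let SX : Sylow p H := S.subtype hSH
  set U := inducedFunctor W (S : Subgroup G)
  have hUS : U ≤ (S : Subgroup G) := inducedFunctor_le _
  have hUn : (U.subgroupOf H).Normal := normal_subgroupOf_of_le_normalizer hHW
  have hZQ : ∀ z ∈ Z0, ∀ hz : z ∈ H, (⟨z, hz⟩ : H) ∈ pCore p H := fun z hz _ =>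
    PLocal.le_pCore (hN := hUn) ((S.2.to_le hUS).comap_subtype) (mem_subgroupOf.mpr (hZW hz))
  have hZH : Z0 ≤ H := hZW.trans (hUS.trans hSH)
  set C := Subgroup.centralizer (pCore p H : Set H) with hC
  obtain ⟨P, hP⟩ := LocalEvenBasic.exists_sylow_map_eq_inf SX C
  set R0 := Subgroup.normalizer ((((P : Subgroup C).map C.subtype : Subgroup H)) : Set H) with hR0
  have hSR : (SX : Subgroup H) ≤ R0 := by
    intro s hs
    refine mem_normalizer_of_forall_conj_mem fun x hx => ?_
    rw [hP] at hx ⊢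
    exact mem_inf.mpr ⟨mul_mem (mul_mem hs hx.1) (inv_mem hs), (inferInstance : C.Normal).conj_mem x hx.2 s⟩
  unfold conjClosure
  rw [Subgroup.closure_le]
  rintro _ ⟨h, hh, z, hz, rfl⟩
  by_cases hR : R0 = ⊤
  · -- constrained modulo the `p'`-core
    have hCle := centralizer_le_sup_of_normal_sylow P (normalizer_eq_top_iff.mp hR)
    set K := pPrimeCore p H with hK
    let Rg : Subgroup G := K.map H.subtype
    have hRK : Rg.subgroupOf H = K := comap_map_eq_self_of_injective H.subtype_injective K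
    have hRn : (Rg.subgroupOf H).Normal := by rw [hRK]; infer_instance
    let f := QuotientGroup.mk' (Rg.subgroupOf H)
    have hker : ∀ x, f x = 1 ↔ x ∈ K := fun x => by rw [← hRK]; exact QuotientGroup.eq_one_iff x
    have hKc := PLocal.coprime_card_pPrimeCore p H
    have hQK : pCore p H ⊓ K = ⊥ := by
      rw [inf_comm]
      exact Transfer.inf_eq_bot_of_not_dvd_card (Transfer.coprime_prime_iff.mp hKc)
        (PLocal.isPGroup_pCore p H)
    have hcomm : ∀ q ∈ pCore p H, ∀ x, f x * f q = f q * f x → x * q = q * x := by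
      intro q hq x hx
      have h1 : ⁅x, q⁆ ∈ pCore p H ⊓ K :=
        mem_inf.mpr ⟨mul_mem ((inferInstance : (pCore p H).Normal).conj_mem q hq x) (inv_mem hq),
          (hker _).mp (by rw [map_commutatorElement]; exact commutatorElement_eq_one_iff_mul_comm.mpr hx)⟩
      rw [hQK, mem_bot] at h1
      exact commutatorElement_eq_one_iff_mul_comm.mp h1
    have hcon : IsConstrained p (↥H ⧸ Rg.subgroupOf H) := by
      intro x hx
      obtain ⟨x, rfl⟩ := QuotientGroup.mk'_surjective _ x
      have hQn : ((pCore p H).map f).Normal :=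
        (inferInstance : (pCore p H).Normal).map f (QuotientGroup.mk'_surjective _)
      have hQf := PLocal.le_pCore (hN := hQn) ((PLocal.isPGroup_pCore p H).map f)
      have hxC : x ∈ C := Subgroup.mem_centralizer_iff.mpr fun q hq =>
        (hcomm q hq x (Subgroup.mem_centralizer_iff.mp hx _ (hQf ⟨q, hq, rfl⟩)).symm).symm
      obtain ⟨q, hq, k, hk, rfl⟩ := mem_sup_of_normal_right.mp (hCle hxC)
      show f (q * k) ∈ _
      rw [map_mul, (hker k).mpr hk, mul_one]
      exact hQf ⟨q, hq, rfl⟩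
    have hinj : Set.InjOn f (SX : Subgroup H) := by
      intro a ha b hb hab
      have h1 : b⁻¹ * a ∈ (SX : Subgroup H) ⊓ K :=
        mem_inf.mpr ⟨mul_mem (inv_mem hb) ha, (hker _).mp (by rw [map_mul, map_inv, hab, inv_mul_cancel])⟩
      rw [inf_comm, Transfer.inf_eq_bot_of_not_dvd_card (Transfer.coprime_prime_iff.mp hKc) SX.2,
        mem_bot, inv_mul_eq_one] at h1
      exact h1.symm
    let T := SX.mapSurjective (QuotientGroup.mk'_surjective (Rg.subgroupOf H))
    have hT : (T : Subgroup (↥H ⧸ Rg.subgroupOf H)) = (SX : Subgroup H).map f := rfl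
    obtain ⟨a, ha, b, hb, hab⟩ := hfac H Rg hcon T (f ⟨h, hh⟩⁻¹)
    rw [hT, inducedFunctor_map hW' f SX.2 hinj] at hb
    have hKc' : (Nat.card (Rg.subgroupOf H)).Coprime p := by rw [hRK]; exact hKc
    rw [PLocal.normalizer_map_mk'_eq _ hKc' (SX.2.to_le (inducedFunctor_le _))] at hb
    obtain ⟨n, hn, rfl⟩ := hb
    have hnG : (n : G) ∈ Subgroup.normalizer ((inducedFunctor W' (S : Subgroup G) : Subgroup G) : Set G) := by
      have e := inducedFunctor_map hW' H.subtype SX.2 H.subtype_injective.injOn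
      rw [Sylow.coe_subtype, map_subgroupOf_eq_of_le hSH] at e
      rw [e]
      exact le_normalizer_map H.subtype ⟨n, hn, rfl⟩
    -- `h z h⁻¹` is an `N(W' S)`-conjugate of `z`
    have hzf : f ⟨z, hZH hz⟩ ∈ omegaOne p ((T : Subgroup (↥H ⧸ Rg.subgroupOf H)) ⊓
        Subgroup.centralizer ((T : Subgroup (↥H ⧸ Rg.subgroupOf H)) : Set _)) := by
      have hX : omegaOne p ((SX : Subgroup H) ⊓ Subgroup.centralizer ((SX : Subgroup H) : Set H)) ≥
          Z0.subgroupOf H := by
        intro w hw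
        obtain ⟨v, hv, hvw⟩ : (w : G) ∈ (omegaOne p ((SX : Subgroup H) ⊓
            Subgroup.centralizer ((SX : Subgroup H) : Set H))).map H.subtype := by
          refine (?_ : Z0 ≤ _) (mem_subgroupOf.mp hw)
          rw [omegaOne, MonoidHom.map_closure]
          refine Subgroup.closure_mono ?_
          rintro v ⟨hv, hvp⟩
          refine ⟨⟨v, hSH hv.1⟩, ⟨⟨hv.1, ?_⟩, Subtype.ext hvp⟩, rfl⟩
          exact Subgroup.mem_centralizer_iff.mpr fun s hs =>
            Subtype.ext (Subgroup.mem_centralizer_iff.mp hv.2 _ hs)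
        exact (Subtype.ext hvw : v = w) ▸ hv
      refine map_omegaOne_le f p (Y := _) ?_ (mem_map_of_mem f (hX (mem_subgroupOf.mpr hz)))
      rw [hT]
      refine le_inf (map_mono inf_le_left) ?_
      rintro _ ⟨v, hv, rfl⟩
      refine Subgroup.mem_centralizer_iff.mpr ?_
      rintro _ ⟨s, hs, rfl⟩
      rw [← map_mul, ← map_mul, Subgroup.mem_centralizer_iff.mp hv.2 s hs]
    obtain ⟨x, hx⟩ := QuotientGroup.mk'_surjective _ a
    have hxz : x * (⟨z, hZH hz⟩ : H) = ⟨z, hZH hz⟩ * x := hcomm _ (hZQ z hz (hZH hz)) x (by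
      show QuotientGroup.mk' _ x * f _ = f _ * QuotientGroup.mk' _ x
      rw [hx]
      exact (Subgroup.mem_centralizer_iff.mp ha _ hzf).symm)
    have hk : n⁻¹ * (x⁻¹ * (⟨h, hh⟩ : H)⁻¹) ∈ K := (hker _).mp (by
      rw [map_mul, map_mul, map_inv, map_inv, hab, show f x = a from hx]
      show (f n)⁻¹ * (a⁻¹ * (a * f n)) = 1
      group)
    set k := n⁻¹ * (x⁻¹ * (⟨h, hh⟩ : H)⁻¹)
    have hkz : k * (n⁻¹ * ⟨z, hZH hz⟩ * n) = n⁻¹ * ⟨z, hZH hz⟩ * n * k := hcomm _
      (by simpa using (inferInstance : (pCore p H).Normal).conj_mem _ (hZQ z hz (hZH hz)) n⁻¹) k (by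
        rw [(hker k).mpr hk, one_mul, mul_one])
    have hfin : (⟨h, hh⟩ : H) * ⟨z, hZH hz⟩ * (⟨h, hh⟩ : H)⁻¹ = n⁻¹ * ⟨z, hZH hz⟩ * n := by
      have e : (⟨h, hh⟩ : H) = k⁻¹ * n⁻¹ * x⁻¹ := by simp only [k]; group
      rw [e]
      calc k⁻¹ * n⁻¹ * x⁻¹ * ⟨z, hZH hz⟩ * (k⁻¹ * n⁻¹ * x⁻¹)⁻¹
          = k⁻¹ * n⁻¹ * (x⁻¹ * (⟨z, hZH hz⟩ * x)) * n * k := by group
        _ = k⁻¹ * (n⁻¹ * ⟨z, hZH hz⟩ * n * k) := by rw [← hxz]; group
        _ = _ := by rw [← hkz]; group
    have hfin' := congrArg Subtype.val hfin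
    simp only [coe_mul, coe_inv] at hfin'
    show h * z * h⁻¹ ∈ A'
    rw [hfin']
    have := mem_conjClosure (Z := Z0) (H := H ⊓ Subgroup.normalizer ((inducedFunctor W' (S : Subgroup G) : Subgroup G) : Set G))
      (h := (n : G)⁻¹) (mem_inf.mpr ⟨inv_mem n.2, inv_mem hnG⟩) hz
    rw [inv_inv] at this
    exact this
  · -- Frattini
    have hlt : R0.map H.subtype < H := by
      refine lt_of_le_of_ne (map_subtype_le _) fun e => hR ?_
      refine Subgroup.map_injective H.subtype_injective ?_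
      rw [e, ← MonoidHom.range_eq_map, range_subtype]
    have hSle : (S : Subgroup G) ≤ R0.map H.subtype := fun s hs =>
      ⟨⟨s, hSH hs⟩, hSR (show (⟨s, hSH hs⟩ : H) ∈ (SX : Subgroup H) from mem_subgroupOf.mpr hs), rfl⟩
    have hh' : (⟨h, hh⟩ : H) ∈ R0 ⊔ C := by
      rw [hR0, Sylow.normalizer_sup_eq_top P]; trivial
    obtain ⟨r, hr, c, hc, hrc⟩ := mem_sup_of_normal_right.mp hh'
    have hcz : (c : G) * z * (c : G)⁻¹ = z := by
      rw [mul_inv_eq_iff_eq_mul]
      exact congrArg Subtype.val (Subgroup.mem_centralizer_iff.mp hc _ (hZQ z hz (hZH hz))).symm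
    have e : h * z * h⁻¹ = (r : G) * z * (r : G)⁻¹ := by
      rw [show h = (r : G) * c from (congrArg Subtype.val hrc).symm]
      conv_rhs => rw [← hcz]
      group
    show h * z * h⁻¹ ∈ A'
    rw [e]
    exact conjClosure_mono (inf_le_inf_right _ hlt.le)
      (ih _ hlt hSle (mem_conjClosure (mem_map_of_mem H.subtype hr) hz))

end CfsgLib.ConjFunctor
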