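import Cfsg.Agent.ConjFunctor.Semisimple

/-!
Engel conditions on the chief factors below a `p`-subgroup from those below a critical subgroup,
through the commutator pairing.
-/

set_option autoImplicit false

namespace CfsgLib.ConjFunctor

open Cfsg Subgroup
open scoped commutatorElement

variable {G : Type*} [Group G] {p : ℕ}

theorem map_iterate_commutator {H : Type*} [Group H] (f : G →* H) (g u : G) :
    ∀ n, f ((fun y => ⁅g, y⁆)^[n] u) = (fun y => ⁅f g, y⁆)^[n] (f u)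
  | 0 => rfl
  | n + 1 => by
    rw [Function.iterate_succ_apply', Function.iterate_succ_apply', map_commutatorElement,
      map_iterate_commutator f g u n]

theorem iterate_commutator_one (g : G) : ∀ n, (fun y => ⁅g, y⁆)^[n] (1 : G) = 1
  | 0 => rfl
  | n + 1 => by rw [Function.iterate_succ_apply', iterate_commutator_one g n, commutatorElement_one_right]

theorem iterate_commutator_mem {U : Subgroup G} [U.Normal] (g : G) {u : G} (hu : u ∈ U) :
    ∀ n, (fun y => ⁅g, y⁆)^[n] u ∈ U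
  | 0 => hu
  | n + 1 => by
    rw [Function.iterate_succ_apply']
    have h := iterate_commutator_mem (U := U) g hu n
    exact U.mul_mem (Subgroup.Normal.conj_mem ‹_› _ h g) (U.inv_mem h)

/-- A normal `p`-subgroup acts trivially on the chief factors below it. -/
theorem commutator_mem_of_chiefFactor [Finite G] [Fact p.Prime] {P : Subgroup G} [P.Normal]
    (hP : IsPGroup p P) {U V : Subgroup G} (hUV : IsChiefFactor U V) (hUP : U ≤ P) {x u : G}
    (hx : x ∈ P) (hu : u ∈ U) : ⁅x, u⁆ ∈ V := by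
  have hVn := hUV.2.2.1
  have hUn := hUV.2.1
  have hle : ⁅P, U⁆ ⊔ V ≤ U := sup_le (commutator_le_right _ _) hUV.1.le
  rcases hUV.2.2.2 _ inferInstance le_sup_right hle with h | h
  · exact h ▸ Subgroup.mem_sup_left (commutator_mem_commutator hx hu)
  · exfalso
    let f := QuotientGroup.mk' V
    have : Group.IsNilpotent (P.map f) := (hP.map f).isNilpotent
    have hU0 : U.map f ≠ ⊥ := fun h0 => hUV.1.not_ge (by
      rwa [Subgroup.map_eq_bot_iff, QuotientGroup.ker_mk'] at h0)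
    have hsat : U.map f ≤ ⁅P.map f, U.map f⁆ := by
      rw [← map_commutator]
      conv_lhs => rw [← h]
      rw [Subgroup.map_sup, (Subgroup.map_eq_bot_iff V).mpr (by rw [QuotientGroup.ker_mk']), sup_bot_eq]
    have hcs : ∀ i, U.map f ≤ (P.map f).lowerCentralSeries i := by
      intro i
      induction i with
      | zero => rw [Subgroup.lowerCentralSeries_zero]; exact map_mono hUP
      | succ i ih =>
        rw [Subgroup.lowerCentralSeries_succ]
        refine hsat.trans ?_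
        rw [commutator_comm]
        exact commutator_mono ih le_rfl
    obtain ⟨i, hi⟩ := (Subgroup.isNilpotent_iff_lowerCentralSeries _).mp this
    exact hU0 (le_bot_iff.mp (hi ▸ hcs i))

variable [Finite G] [Fact p.Prime]

/-- The pairing argument. -/
theorem engel_of_pairing {P Q Z : Subgroup G} [P.Normal] [Q.Normal] (hP : IsPGroup p P) (hQP : Q ≤ P)
    (hZQ : Z ≤ Q) (hPQ : ⁅P, Q⁆ ≤ Z) (hZc : Z ≤ Subgroup.centralizer (Q : Set G))
    (hcen : ∀ x ∈ P, x ∈ Subgroup.centralizer (Q : Set G) → x ∈ Q) (g : G) {i j : ℕ} (hi : 1 ≤ i)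
    (hj : 1 ≤ j)
    (hQi : ∀ U V : Subgroup G, IsChiefFactor U V → U ≤ Q → ∀ u ∈ U, (fun y => ⁅g, y⁆)^[i] u ∈ V)
    (hZj : ∀ U V : Subgroup G, IsChiefFactor U V → U ≤ Z → ∀ u ∈ U, (fun y => ⁅g, y⁆)^[j] u ∈ V)
    {U V : Subgroup G} (hUV : IsChiefFactor U V) (hUP : U ≤ P) {u : G} (hu : u ∈ U) :
    (fun y => ⁅g, y⁆)^[i + j - 1] u ∈ V := by
  have hUn := hUV.2.1
  have hVn := hUV.2.2.1
  obtain ⟨U₀, -, hU₀min⟩ := Finite.exists_le_minimal (p := fun W : Subgroup G =>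
    W.Normal ∧ W ≤ U ∧ ¬ W ≤ V) (a := U) ⟨hUn, le_rfl, hUV.1.not_ge⟩
  obtain ⟨hU₀n, hU₀U, hU₀V⟩ := hU₀min.prop
  have hsup : U₀ ⊔ V = U := by
    rcases hUV.2.2.2 _ inferInstance le_sup_right (sup_le hU₀U hUV.1.le) with h | h
    · exact absurd (h ▸ le_sup_left : U₀ ≤ V) hU₀V
    · exact h
  suffices key : ∀ u₀ ∈ U₀, (fun y => ⁅g, y⁆)^[i + j - 1] u₀ ∈ V by
    obtain ⟨u₀, hu₀, v, hv, rfl⟩ := mem_sup_of_normal_right.mp (hsup.symm ▸ hu : u ∈ U₀ ⊔ V)
    rw [← QuotientGroup.eq_one_iff, ← QuotientGroup.mk'_apply, map_iterate_commutator, map_mul,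
      show (QuotientGroup.mk' V) v = 1 from (QuotientGroup.eq_one_iff v).mpr hv, mul_one,
      ← map_iterate_commutator]
    exact (QuotientGroup.eq_one_iff _).mpr (key u₀ hu₀)
  by_cases hUQ : U₀ ≤ Q
  · intro u₀ hu₀
    have hchief : IsChiefFactor U₀ (U₀ ⊓ V) := by
      refine ⟨lt_of_le_of_ne inf_le_left fun h => hU₀V (h ▸ inf_le_right), hU₀n, inferInstance,
        fun N hN hVN hNU => ?_⟩
      by_cases hNV : N ≤ V
      · exact Or.inl (le_antisymm (le_inf hNU hNV) hVN)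
      · exact Or.inr (le_antisymm hNU (hU₀min.le_of_le ⟨hN, hNU.trans hU₀U, hNV⟩ hNU))
    have h1 := (hQi _ _ hchief hUQ u₀ hu₀).2
    obtain ⟨d, hd⟩ := Nat.exists_eq_add_of_le (show i ≤ i + j - 1 by omega)
    rw [hd, add_comm, Function.iterate_add_apply]
    exact iterate_commutator_mem g h1 d
  have hne : ⁅U₀, Q⁆ ≠ ⊥ := fun h => hUQ fun x hx => hcen x (hUP (hU₀U hx))
    ((commutator_eq_bot_iff_le_centralizer.mp h) hx)
  obtain ⟨X₀, -, hX₀min⟩ := Finite.exists_le_minimal (p := fun W : Subgroup G =>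
    W.Normal ∧ W ≤ Q ∧ ⁅U₀, W⁆ ≠ ⊥) (a := Q) ⟨inferInstance, le_rfl, hne⟩
  obtain ⟨hX₀n, hX₀Q, hX₀ne⟩ := hX₀min.prop
  obtain ⟨X₁, hX⟩ := exists_maximal_normal_lt (U := X₀) fun h => hX₀ne (by rw [h, commutator_bot_right])
  have hX₁ : ⁅U₀, X₁⁆ = ⊥ := by
    by_contra h
    exact hX.1.not_ge (hX₀min.le_of_le ⟨hX.2.2.1, hX.1.le.trans hX₀Q, h⟩ hX.1.le)
  let R : Subgroup G := ⁅U₀, X₀⁆
  have hRn : R.Normal := inferInstance
  have hRZ : R ≤ Z := (commutator_mono (hU₀U.trans hUP) hX₀Q).trans hPQ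
  obtain ⟨Sx, hR⟩ := exists_maximal_normal_lt (U := R) hX₀ne
  have hSxn := hR.2.2.1
  let f := QuotientGroup.mk' Sx
  let e := f g
  let D : G ⧸ Sx → G ⧸ Sx := fun y => ⁅e, y⁆
  have hfix : ∀ x ∈ P, ∀ y ∈ R.map f, Commute (f x) y := by
    rintro x hx _ ⟨r, hr, rfl⟩
    refine commutatorElement_eq_one_iff_commute.mp ?_
    rw [← map_commutatorElement]
    exact (QuotientGroup.eq_one_iff _).mpr
      (commutator_mem_of_chiefFactor hP hR ((hRZ.trans hZQ).trans hQP) hx hr)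
  have hRfn : (R.map f).Normal := hRn.map f (QuotientGroup.mk'_surjective Sx)
  have hab : ∀ x ∈ R.map f, ∀ y ∈ R.map f, Commute x y := by
    rintro _ ⟨r, hr, rfl⟩ y hy
    exact hfix r (hQP (hZQ (hRZ hr))) y hy
  have hDR : ∀ b, ∀ y ∈ R.map f, D^[b] y ∈ R.map f := fun b y hy => iterate_commutator_mem e hy b
  have hDlin : ∀ b, ∀ x ∈ R.map f, ∀ y ∈ R.map f, D^[b] (x * y⁻¹) = D^[b] x * (D^[b] y)⁻¹ := by
    intro b x hx y hy
    induction b with
    | zero => rfl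
    | succ b ih =>
      rw [Function.iterate_succ_apply', Function.iterate_succ_apply', Function.iterate_succ_apply', ih]
      have hX := hDR b x hx
      have hY := hDR b y hy
      have hDY : ⁅e, D^[b] y⁆⁻¹ ∈ R.map f := by
        refine (R.map f).inv_mem ?_
        have := hDR (b + 1) y hy
        rwa [Function.iterate_succ_apply'] at this
      show ⁅e, D^[b] x * (D^[b] y)⁻¹⁆ = ⁅e, D^[b] x⁆ * ⁅e, D^[b] y⁆⁻¹
      have hc := hab _ (Subgroup.mul_mem _ hX ((R.map f).inv_mem hY)) _ hDY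
      calc ⁅e, D^[b] x * (D^[b] y)⁻¹⁆
          = ⁅e, D^[b] x⁆ * ((D^[b] x * (D^[b] y)⁻¹) * ⁅e, D^[b] y⁆⁻¹ * (D^[b] x * (D^[b] y)⁻¹)⁻¹) := by
            simp only [commutatorElement_def]; group
        _ = _ := by rw [hc.eq, mul_inv_cancel_right]
  let β : G → G → G ⧸ Sx := fun u q => f ⁅u, q⁆
  have hβR : ∀ u ∈ U₀, ∀ q ∈ X₀, β u q ∈ R.map f := fun u hu q hq =>
    mem_map_of_mem f (commutator_mem_commutator hu hq)
  have hmul1 : ∀ u ∈ U₀, ∀ v ∈ U₀, ∀ q ∈ X₀, β (u * v) q = β u q * β v q := by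
    intro u hu v hv q hq
    have h1 := hfix u (hUP (hU₀U hu)) _ (hβR v hv q hq)
    calc β (u * v) q = f u * β v q * (f u)⁻¹ * β u q := by
          simp only [β, ← map_inv, ← map_mul]; congr 1; simp only [commutatorElement_def]; group
      _ = β v q * β u q := by rw [h1.eq, mul_inv_cancel_right]
      _ = _ := (hab _ (hβR v hv q hq) _ (hβR u hu q hq)).eq
  have hmul2 : ∀ u ∈ U₀, ∀ q ∈ X₀, ∀ r ∈ X₀, β u (q * r) = β u q * β u r := by
    intro u hu q hq r hr
    have h1 := hfix q (hQP (hX₀Q hq)) _ (hβR u hu r hr)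
    calc β u (q * r) = β u q * (f q * β u r * (f q)⁻¹) := by
          simp only [β, ← map_inv, ← map_mul]; congr 1; simp only [commutatorElement_def]; group
      _ = _ := by rw [h1.eq, mul_inv_cancel_right]
  let δ : G → G := fun y => ⁅g, y⁆
  have hδU : ∀ n, ∀ u ∈ U₀, δ^[n] u ∈ U₀ := fun n u hu => iterate_commutator_mem g hu n
  have hδX : ∀ n, ∀ q ∈ X₀, δ^[n] q ∈ X₀ := fun n q hq => iterate_commutator_mem g hq n
  have hconj : ∀ n : ℕ, ∀ q ∈ X₀, g ^ n * q * (g ^ n)⁻¹ ∈ X₀ := fun n q hq => hX₀n.conj_mem q hq _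
  have main : ∀ n, ∀ u ∈ U₀, ∀ q ∈ X₀, ∀ a b, i + j - 1 ≤ n + a + b →
      D^[b] (β (δ^[n] u) (g ^ n * δ^[a] q * (g ^ n)⁻¹)) = 1 := by
    intro n
    induction n with
    | zero =>
      intro u hu q hq a b hab'
      rw [Function.iterate_zero_apply, pow_zero, one_mul, inv_one, mul_one]
      rcases (show i ≤ a ∨ j ≤ b by omega) with h | h
      · obtain ⟨d, rfl⟩ := Nat.exists_eq_add_of_le h
        have h1 : δ^[i + d] q ∈ X₁ := by
          rw [add_comm, Function.iterate_add_apply]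
          exact @iterate_commutator_mem G _ X₁ hX.2.2.1 g _ (hQi _ _ hX hX₀Q q hq) d
        have h2 : ⁅u, δ^[i + d] q⁆ = 1 := mem_bot.mp (hX₁ ▸ commutator_mem_commutator hu h1)
        show D^[b] (f ⁅u, δ^[i + d] q⁆) = 1
        rw [h2, map_one]
        exact iterate_commutator_one e b
      · obtain ⟨d, rfl⟩ := Nat.exists_eq_add_of_le h
        obtain ⟨r, hr, hrf⟩ := hβR u hu _ (hδX a q hq)
        rw [add_comm, Function.iterate_add_apply, ← hrf, ← map_iterate_commutator f g r j,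
          show f (δ^[j] r) = 1 from (QuotientGroup.eq_one_iff _).mpr (hZj _ _ hR hRZ r hr)]
        exact iterate_commutator_one e d
    | succ n ih =>
      intro u hu q hq a b hab'
      have hu' := hδU n u hu
      set u' := δ^[n] u with hu'def
      set q' := g ^ n * δ^[a] q * (g ^ n)⁻¹ with hq'
      have hq'X : q' ∈ X₀ := hconj n _ (hδX a q hq)
      have hq''X : g ^ n * δ^[a + 1] q * (g ^ n)⁻¹ ∈ X₀ := hconj n _ (hδX _ q hq)
      have e1 : g ^ n * δ^[a + 1] q * (g ^ n)⁻¹ = ⁅g, q'⁆ := by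
        rw [Function.iterate_succ_apply']
        show g ^ n * ⁅g, δ^[a] q⁆ * (g ^ n)⁻¹ = _
        have h2 := map_commutatorElement (MulAut.conj (g ^ n)).toMonoidHom g (δ^[a] q)
        simp only [MulEquiv.coe_toMonoidHom, MulAut.conj_apply] at h2
        rw [h2, (Commute.pow_self g n).eq, mul_inv_cancel_right]
      have e2 : g ^ (n + 1) * δ^[a] q * (g ^ (n + 1))⁻¹ = g * q' * g⁻¹ := by
        rw [hq', pow_succ']; group
      have hgq : g * q' * g⁻¹ = ⁅g, q'⁆ * q' := by rw [commutatorElement_def]; group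
      have hgu : g * u' * g⁻¹ ∈ U₀ := hU₀n.conj_mem _ hu' g
      have hgqX : g * q' * g⁻¹ ∈ X₀ := hX₀n.conj_mem _ hq'X g
      have hkey : β (δ^[n + 1] u) (g ^ (n + 1) * δ^[a] q * (g ^ (n + 1))⁻¹) =
          D (β u' q') * (β u' (g ^ n * δ^[a + 1] q * (g ^ n)⁻¹))⁻¹ := by
        rw [e2, Function.iterate_succ_apply', e1]
        have h1 := hmul1 _ hgu _ (U₀.inv_mem hu') _ hgqX
        rw [show δ u' = g * u' * g⁻¹ * u'⁻¹ from rfl, h1]
        have h3 : β (g * u' * g⁻¹) (g * q' * g⁻¹) = D (β u' q') * β u' q' := by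
          show f ⁅g * u' * g⁻¹, g * q' * g⁻¹⁆ = ⁅f g, f ⁅u', q'⁆⁆ * f ⁅u', q'⁆
          rw [← map_commutatorElement f g ⁅u', q'⁆, ← map_mul]
          congr 1
          simp only [commutatorElement_def]; group
        have h4 : β u'⁻¹ (g * q' * g⁻¹) = (β u' (g * q' * g⁻¹))⁻¹ := by
          refine eq_inv_of_mul_eq_one_left ?_
          rw [← hmul1 _ (U₀.inv_mem hu') _ hu' _ hgqX, inv_mul_cancel]
          simp [β]
        rw [h3, h4, hgq, hmul2 _ hu' _ (e1 ▸ hq''X) _ hq'X, mul_inv_rev, ← mul_assoc,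
          mul_inv_cancel_right]
      rw [hkey, hDlin b (D (β u' q')) (hDR 1 _ (hβR _ hu' _ hq'X)) _ (hβR _ hu' _ hq''X),
        ← Function.iterate_succ_apply, ih u hu q hq a (b + 1) (by omega),
        ih u hu q hq (a + 1) b (by omega), inv_one, mul_one]
  let K : Subgroup G :=
    { carrier := {x | x ∈ U₀ ∧ ∀ q ∈ X₀, β x q = 1}
      one_mem' := ⟨U₀.one_mem, fun q _ => by simp [β]⟩
      mul_mem' := fun {a b} ha hb => ⟨U₀.mul_mem ha.1 hb.1, fun q hq => by
        rw [hmul1 a ha.1 b hb.1 q hq, ha.2 q hq, hb.2 q hq, one_mul]⟩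
      inv_mem' := fun {a} ha => ⟨U₀.inv_mem ha.1, fun q hq => by
        have := hmul1 _ (U₀.inv_mem ha.1) a ha.1 q hq
        rw [ha.2 q hq, mul_one, inv_mul_cancel] at this
        rw [← this]; simp [β]⟩ }
  have hKn : K.Normal := ⟨fun x hx y => ⟨hU₀n.conj_mem x hx.1 y, fun q hq => by
    have h1 := hx.2 (y⁻¹ * q * y) (by simpa using hX₀n.conj_mem q hq y⁻¹)
    show f ⁅y * x * y⁻¹, q⁆ = 1
    rw [show ⁅y * x * y⁻¹, q⁆ = y * ⁅x, y⁻¹ * q * y⁆ * y⁻¹ by simp only [commutatorElement_def]; group,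
      map_mul, map_mul, show f ⁅x, y⁻¹ * q * y⁆ = 1 from h1, mul_one, ← map_mul, mul_inv_cancel,
      map_one]⟩⟩
  have hKV : K ≤ V := by
    by_contra h
    have hK : U₀ ≤ K := hU₀min.le_of_le ⟨hKn, fun x hx => hU₀U hx.1, h⟩ fun x hx => hx.1
    refine hR.1.not_ge ?_
    show R ≤ Sx
    rw [commutator_le]
    exact fun x hx q hq => (QuotientGroup.eq_one_iff _).mp ((hK hx).2 q hq)
  intro u₀ hu₀
  refine hKV ⟨hδU _ u₀ hu₀, fun q hq => ?_⟩
  have hq0 : (g ^ (i + j - 1))⁻¹ * q * g ^ (i + j - 1) ∈ X₀ := by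
    simpa using hX₀n.conj_mem q hq (g ^ (i + j - 1))⁻¹
  have := main (i + j - 1) u₀ hu₀ _ hq0 0 0 (by omega)
  simpa [mul_assoc] using this

end CfsgLib.ConjFunctor
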