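import Cfsg.Agent.ConjFunctor.Cubic
import Cfsg.Agent.ConjFunctor.Pairing
import Cfsg.Agent.Transfer.Critical

/-!
An element of Engel length four on the chief factors below `O_p(G)` from a non-normal K-infinity
subgroup, and the failure of `p`-stability in a quotient.
-/

set_option autoImplicit false

universe u

namespace CfsgLib.ConjFunctor

open Cfsg Subgroup
open scoped commutatorElement

variable {G : Type u} [Group G] [Finite G] {p : ℕ} [Fact p.Prime]

/-- A critical subgroup of `O_p(G)`. -/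
theorem exists_criticalData : ∃ A : Subgroup G,
    CriticalData p A (A ⊓ Subgroup.centralizer (A : Set G)) ∧
      (∀ x ∈ pCore p G, x ∈ Subgroup.centralizer (A : Set G) → x ∈ A) := by
  let T := pCore p G
  have hT : IsPGroup p T := PLocal.isPGroup_pCore p G
  obtain ⟨H, hH, -, hHT, hCH⟩ := Transfer.exists_critical hT
  let A := H.map T.subtype
  have hAT : A ≤ T := map_subtype_le H
  have hAH : A.subgroupOf T = H := comap_map_eq_self_of_injective T.subtype_injective H
  have hcen : ∀ x : T, x ∈ Subgroup.centralizer (H : Set T) ↔ (x : G) ∈ Subgroup.centralizer (A : Set G) := by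
    intro x
    rw [Subgroup.mem_centralizer_iff, Subgroup.mem_centralizer_iff]
    constructor
    · rintro h _ ⟨y, hy, rfl⟩; exact congrArg Subtype.val (h y hy)
    · intro h y hy; exact Subtype.ext (h y ⟨y, hy, rfl⟩)
  have h3 : ⁅T, A⁆ ≤ A ⊓ Subgroup.centralizer (A : Set G) := by
    rw [commutator_comm, commutator_le]
    rintro _ ⟨y, hy, rfl⟩ t ht
    have := hHT (commutator_mem_commutator hy (Subgroup.mem_top (⟨t, ht⟩ : T)))
    exact Subgroup.mem_inf.mpr ⟨⟨_, this.1, rfl⟩, (hcen _).mp this.2⟩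
  refine ⟨A, criticalData_of hAT (hAH.symm ▸ hH)
    (((commutator_mono hAT le_rfl).trans h3).trans inf_le_right) h3 ?_,
    fun x hx hc => ⟨⟨x, hx⟩, hCH ((hcen ⟨x, hx⟩).mpr hc), rfl⟩⟩
  intro φ hφ hfix
  refine MulEquiv.ext fun x => ?_
  show φ x = x
  have hfix' : ∀ y ∈ H, φ y = y := fun y hy => hfix y ⟨y, hy, rfl⟩
  have hHn : H.Normal := normal_of_characteristic H
  have hd : x⁻¹ * φ x ∈ H := by
    refine hCH (Subgroup.mem_centralizer_iff.mpr fun y hy => ?_)
    have h5 : φ (x * y * x⁻¹) = x * y * x⁻¹ := hfix' _ (hHn.conj_mem y hy x)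
    rw [map_mul, map_mul, map_inv, hfix' y hy] at h5
    calc y * (x⁻¹ * φ x) = x⁻¹ * (x * y * x⁻¹) * φ x := by group
      _ = x⁻¹ * (φ x * y * (φ x)⁻¹) * φ x := by rw [h5]
      _ = x⁻¹ * φ x * y := by group
  have hiter : ∀ m : ℕ, (φ ^ m) x = x * (x⁻¹ * φ x) ^ m := by
    intro m
    induction m with
    | zero => simp
    | succ k ih =>
      rw [pow_succ', MulAut.mul_apply, ih, map_mul, map_pow, hfix' _ hd, pow_succ', ← mul_assoc x,
        ← mul_assoc x, mul_inv_cancel, one_mul]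
  have h1 := hiter (orderOf φ)
  rw [pow_orderOf_eq_one, MulAut.one_apply] at h1
  have h2 : (x⁻¹ * φ x) ^ orderOf φ = 1 := mul_eq_left.mp h1.symm
  obtain ⟨a, ha⟩ := hT (x⁻¹ * φ x)
  have := orderOf_eq_one_iff.mp (Nat.eq_one_of_dvd_coprimes (hφ.pow_right a)
    (orderOf_dvd_of_pow_eq_one h2) (orderOf_dvd_of_pow_eq_one ha))
  rw [inv_mul_eq_one] at this
  exact this.symm

/-- A moving quadratic element on a chief factor refutes `p`-stability of a quotient. -/
theorem not_pStable_of_factor {U V : Subgroup G} [V.Normal] (hUV : IsChiefFactor U V)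
    (hUp : IsPGroup p U) {g : G} (hq : ∀ u ∈ U, ⁅g, ⁅g, u⁆⁆ ∈ V) {u : G} (hu : u ∈ U)
    (hmov : ⁅g, u⁆ ∉ V) : ¬ IsNormalizerPStable p (G ⧸ V) := by
  intro hst
  have hUn := hUV.2.1
  let f := QuotientGroup.mk' V
  let P := U.map f
  have hPn : P.Normal := hUn.map f (QuotientGroup.mk'_surjective V)
  have hPp : IsPGroup p P := hUp.map f
  have hab : IsMulCommutative P := by
    rw [← le_centralizer_iff_isMulCommutative, ← commutator_eq_bot_iff_le_centralizer,
      ← map_commutator, Subgroup.map_eq_bot_iff, QuotientGroup.ker_mk']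
    exact (chiefFactor_elementary hUV hUp).1
  have htop : Subgroup.normalizer (P : Set (G ⧸ V)) = ⊤ := by rw [normalizer_eq_top (H := P)]
  have hg : f g ∈ Subgroup.normalizer (P : Set (G ⧸ V)) := htop ▸ Subgroup.mem_top _
  have hmem := hst P hPp (f g) hg (iterCommutator_two_eq_bot (by
    rintro _ ⟨w, hw, rfl⟩
    rw [← map_commutatorElement, ← map_commutatorElement]
    exact (QuotientGroup.eq_one_iff _).mpr (hq w hw)))
  let N := Subgroup.normalizer (P : Set (G ⧸ V))
  let C := (Subgroup.centralizer (P : Set (G ⧸ V))).subgroupOf N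
  let K : Subgroup (G ⧸ V) := ((pCore p (↥N ⧸ C)).comap (QuotientGroup.mk' C)).map N.subtype
  have hgK : f g ∈ K := ⟨⟨f g, hg⟩, hmem, rfl⟩
  let Cc := Subgroup.centralizer (P : Set (G ⧸ V))
  have hN : ∀ y : G ⧸ V, y ∈ N := fun y => by
    show y ∈ Subgroup.normalizer (P : Set (G ⧸ V))
    rw [htop]; trivial
  have hCK : Cc ≤ K := fun c hc => ⟨⟨c, hN _⟩, by
    show QuotientGroup.mk' C _ ∈ pCore p (↥N ⧸ C)
    rw [show QuotientGroup.mk' C (⟨c, hN _⟩ : N) = 1 from
      (QuotientGroup.eq_one_iff _).mpr (mem_subgroupOf.mpr hc)]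
    exact Subgroup.one_mem _, rfl⟩
  have hKn : K.Normal := by
    refine ⟨fun x hx y => ?_⟩
    obtain ⟨x', hx', rfl⟩ := hx
    let y' : N := ⟨y, hN _⟩
    exact ⟨y' * x' * y'⁻¹, ((inferInstance : (pCore p (↥N ⧸ C)).Normal).comap _).conj_mem x' hx' y', rfl⟩
  obtain ⟨Kp, -, hKp⟩ := exists_isSylowIn_ge (A := (⊥ : Subgroup (G ⧸ V))) (H := K) (p := p) bot_le
    IsPGroup.of_bot
  -- `K = C K_p`
  have hKeq : K ≤ Cc ⊔ Kp := by
    obtain ⟨j, hj⟩ := IsPGroup.iff_card.mp (PLocal.isPGroup_pCore p (↥N ⧸ C))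
    have h1 : Cc.relIndex K = p ^ j := by
      have h0 : Cc = C.map N.subtype :=
        (map_subgroupOf_eq_of_le (fun y _ => hN y : Cc ≤ N)).symm
      rw [← hj, show K = ((pCore p (↥N ⧸ C)).comap (QuotientGroup.mk' C)).map N.subtype from rfl, h0,
        relIndex_map_map_of_injective _ _ N.subtype_injective]
      have h2 := relIndex_ker ((pCore p (↥N ⧸ C)).comap (QuotientGroup.mk' C)) (QuotientGroup.mk' C)
      rw [QuotientGroup.ker_mk', map_comap_eq_self_of_surjective (QuotientGroup.mk'_surjective C)] at h2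
      exact h2
    have h3 : (Cc ⊔ Kp).relIndex K ∣ p ^ j := h1 ▸ relIndex_dvd_of_le_left K le_sup_left
    obtain ⟨i, hi, hi'⟩ := (Nat.dvd_prime_pow Fact.out).mp h3
    rcases i with _ | i
    · exact relIndex_eq_one.mp (by simpa using hi')
    · exact absurd ((hi' ▸ dvd_pow_self p (Nat.succ_ne_zero i)).trans
        (relIndex_dvd_of_le_left K le_sup_right)) hKp.2.2
  -- a fixed point
  let E : Subgroup (G ⧸ V) := P ⊔ Kp
  have hEp : IsPGroup p E :=
    IsPGroup.to_sup_of_normal_left hPp hKp.2.1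
  have : Group.IsNilpotent E := hEp.isNilpotent
  have hP0 : P.subgroupOf E ≠ ⊥ := by
    rw [Ne, subgroupOf_eq_bot, disjoint_iff, inf_of_le_left (le_sup_left : P ≤ E)]
    intro h
    rw [Subgroup.map_eq_bot_iff, QuotientGroup.ker_mk'] at h
    exact hUV.1.not_ge h
  have hfixP : P ≤ Subgroup.centralizer (K : Set (G ⧸ V)) := by
    have hne : P ⊓ Subgroup.centralizer (K : Set (G ⧸ V)) ≠ ⊥ := by
      intro h
      refine Solvable.inf_center_ne_bot hP0 (eq_bot_iff.mpr fun z hz => ?_)
      have hz' : (z : G ⧸ V) ∈ P ⊓ Subgroup.centralizer (K : Set (G ⧸ V)) := by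
        refine Subgroup.mem_inf.mpr ⟨hz.1, ?_⟩
        refine Subgroup.centralizer_le (show (K : Set (G ⧸ V)) ⊆ (Cc ⊔ Kp : Subgroup (G ⧸ V)) from hKeq) ?_
        rw [← zpowers_le, le_centralizer_iff, sup_le_iff]
        constructor
        · intro c hc
          rw [Subgroup.mem_centralizer_iff]
          rintro _ ⟨i, rfl⟩
          exact Subgroup.mem_centralizer_iff.mp hc _ (P.zpow_mem hz.1 i)
        · intro k hk
          have := congrArg Subtype.val
            (Subgroup.mem_center_iff.mp hz.2 ⟨k, Subgroup.mem_sup_right hk⟩)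
          rw [Subgroup.mem_centralizer_iff]
          rintro _ ⟨i, rfl⟩
          exact ((show Commute (k : G ⧸ V) (z : G ⧸ V) from this).zpow_right i).eq.symm
      rw [h, mem_bot] at hz'
      exact Subtype.ext hz'
    have hn : (P ⊓ Subgroup.centralizer (K : Set (G ⧸ V))).Normal := inferInstance
    have hmin := hUV.2.2.2 ((P ⊓ Subgroup.centralizer (K : Set (G ⧸ V))).comap f) (hn.comap f) (by
        conv_lhs => rw [← QuotientGroup.ker_mk' V]
        exact ker_le_comap f _)
      ((comap_mono inf_le_left).trans (by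
        rw [comap_map_eq, QuotientGroup.ker_mk']; exact sup_le le_rfl hUV.1.le))
    rcases hmin with h | h
    · refine absurd ?_ hne
      rw [← map_comap_eq_self_of_surjective (QuotientGroup.mk'_surjective V)
        (P ⊓ Subgroup.centralizer (K : Set (G ⧸ V))), h, Subgroup.map_eq_bot_iff, QuotientGroup.ker_mk']
    · intro x hx
      obtain ⟨w, hw, rfl⟩ := hx
      exact (h ▸ hw : w ∈ (P ⊓ Subgroup.centralizer (K : Set (G ⧸ V))).comap f).2
  refine hmov ((QuotientGroup.eq_one_iff _).mp ?_)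
  show f ⁅g, u⁆ = 1
  rw [map_commutatorElement, commutatorElement_eq_one_iff_commute]
  exact Subgroup.mem_centralizer_iff.mp (hfixP (mem_map_of_mem f hu)) _ hgK

/-- The main consequence of a non-normal K-infinity subgroup. -/
theorem exists_fourEngelElt {S : Subgroup G} (hS : IsSylowIn p S ⊤)
    (hK : ¬ (inducedFunctor kInfLower S).Normal ∨ ¬ (inducedFunctor kInfUpper S).Normal) :
    ∃ g : G, g ∈ S ∧ g ∉ pCore p G ∧
      (∀ U V : Subgroup G, IsChiefFactor U V → U ≤ pCore p G →
        iterCommutator U (zpowers g) 4 ≤ V) ∧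
      (∀ z ∈ pCore p G ⊓ Subgroup.centralizer (pCore p G : Set G), ⁅g, ⁅g, z⁆⁆ = 1) ∧
      (IsConstrained p G → ∃ (N : Subgroup G) (_ : N.Normal), ¬ IsNormalizerPStable p (G ⧸ N)) := by
  obtain ⟨A, hd, hcen⟩ := exists_criticalData (G := G) (p := p)
  obtain ⟨g, hgS, hgT, h3, h2, hfac⟩ := exists_cubicElt hS hd hK
  have hT := PLocal.isPGroup_pCore p G
  have := hd.normal
  have := hd.znormal
  refine ⟨g, hgS, hgT, fun U V hUV hU => ?_, fun z hz => ?_, fun hc => ?_⟩
  · have hUn := hUV.2.1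
    have hVn := hUV.2.2.1
    refine (iterCommutator_le_iff (chiefFactor_elementary hUV (hT.to_le hU)).1 g 4).mpr fun u hu => ?_
    refine engel_of_pairing (i := 3) (j := 2) hT hd.le hd.zle hd.tcomm hd.zcent hcen g (by omega)
      (by omega) ?_ ?_ hUV hU hu
    · intro U V hUV hUA u hu
      obtain ⟨hlt, hUn, hVn, hmin⟩ := hUV
      rcases hmin ((U ⊓ (A ⊓ Subgroup.centralizer (A : Set G))) ⊔ V) inferInstance le_sup_right
        (sup_le inf_le_left hlt.le) with h | h
      · exact h ▸ Subgroup.mem_sup_left (Subgroup.mem_inf.mpr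
          ⟨iterate_commutator_mem g hu 3, h3 u (hUA hu)⟩)
      · rw [← h] at hu
        obtain ⟨z, hz, v, hv, rfl⟩ := mem_sup_of_normal_right.mp hu
        rw [← QuotientGroup.eq_one_iff, ← QuotientGroup.mk'_apply, map_iterate_commutator, map_mul,
          show (QuotientGroup.mk' V) v = 1 from (QuotientGroup.eq_one_iff v).mpr hv, mul_one,
          ← map_iterate_commutator]
        refine (QuotientGroup.eq_one_iff _).mpr ?_
        show ⁅g, ⁅g, ⁅g, z⁆⁆⁆ ∈ V
        rw [h2 z hz.2, commutatorElement_one_right]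
        exact V.one_mem
    · intro U V hUV hUZ u hu
      show ⁅g, ⁅g, u⁆⁆ ∈ V
      rw [h2 u (hUZ hu)]
      exact V.one_mem
  · refine h2 z (hd.mem_z z ?_ (Subgroup.centralizer_le hd.le hz.2))
    exact hcen z hz.1 (Subgroup.centralizer_le hd.le hz.2)
  · obtain ⟨U, V, hUV, hUA, hq, u, hu, hmov⟩ := hfac hc
    have := hUV.2.2.1
    exact ⟨V, inferInstance, not_pStable_of_factor hUV (hT.to_le (hUA.trans hd.le)) hq hu hmov⟩

end CfsgLib.ConjFunctor
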