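import Cfsg.Agent.ConjFunctor.Basic

/-!
Fusion chains: `Fus 𝓜 S A g` says that the map `a ↦ g a g⁻¹` on `A ⊆ S` is a composite of
conjugations by elements of members of `𝓜`, all intermediate images staying in `S`.
-/

set_option autoImplicit false

namespace CfsgLib.ConjFunctor

open Cfsg Subgroup

/-- The image of `A` under conjugation by `g` on the left. -/
abbrev cjSet {G : Type*} [Group G] (g : G) (A : Set G) : Set G := (fun a => g * a * g⁻¹) '' A

/-- Fusion chains inside `S` through the members of `𝓜`. -/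
inductive Fus {G : Type*} [Group G] (𝓜 : Set (Subgroup G)) (S : Subgroup G) : Set G → G → Prop
  | nil {A : Set G} {g : G} : A ⊆ S → (∀ a ∈ A, g * a * g⁻¹ = a) → Fus 𝓜 S A g
  | step {A : Set G} {g x : G} {M : Subgroup G} : A ⊆ S → M ∈ 𝓜 → x ∈ M →
      (∀ a ∈ A, x * a * x⁻¹ ∈ S) → Fus 𝓜 S (cjSet x A) (g * x⁻¹) → Fus 𝓜 S A g

variable {G : Type*} [Group G] {𝓜 : Set (Subgroup G)} {S : Subgroup G} {A : Set G} {g h : G}

theorem cjSet_cjSet (g h : G) (A : Set G) : cjSet g (cjSet h A) = cjSet (g * h) A := by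
  simp only [cjSet, Set.image_image]
  exact Set.image_congr' fun a => by simp [mul_assoc]

theorem cjSet_congr (h : ∀ a ∈ A, g * a * g⁻¹ = a) : cjSet g A = A := by
  simp [cjSet, Set.image_congr h]

theorem cjSet_mono {B : Set G} (g : G) (h : B ⊆ A) : cjSet g B ⊆ cjSet g A := Set.image_mono h

theorem cjSet_subset_iff {B : Set G} : cjSet g A ⊆ B ↔ ∀ a ∈ A, g * a * g⁻¹ ∈ B :=
  Set.image_subset_iff

theorem cjSet_coe (g : G) (T : Subgroup G) : cjSet g (T : Set G) = ((g *• T : Subgroup G) : Set G) :=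
  rfl

namespace Fus

theorem subset (h : Fus 𝓜 S A g) : A ⊆ S := by
  cases h <;> assumption

theorem image_mem (h : Fus 𝓜 S A g) : ∀ a ∈ A, g * a * g⁻¹ ∈ S := by
  induction h with
  | nil hA hg => exact fun a ha => (hg a ha).symm ▸ hA ha
  | step hA hM hx hxA _ ih =>
    rename_i A g x M _
    intro a ha
    have := ih _ ⟨a, ha, rfl⟩
    simpa [mul_assoc] using this

theorem congr' (h : Fus 𝓜 S A g) {g' : G} (hg : ∀ a ∈ A, g * a * g⁻¹ = g' * a * g'⁻¹) :
    Fus 𝓜 S A g' := by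
  induction h generalizing g' with
  | nil hA hg' => exact .nil hA fun a ha => (hg a ha).symm.trans (hg' a ha)
  | step hA hM hx hxA _ ih =>
    refine .step hA hM hx hxA (ih ?_)
    rintro _ ⟨a, ha, rfl⟩
    simpa [mul_assoc] using hg a ha

theorem mono_set (h : Fus 𝓜 S A g) {B : Set G} (hB : B ⊆ A) : Fus 𝓜 S B g := by
  induction h generalizing B with
  | nil hA hg => exact .nil (hB.trans hA) fun a ha => hg a (hB ha)
  | step hA hM hx hxA _ ih =>
    exact .step (hB.trans hA) hM hx (fun a ha => hxA a (hB ha)) (ih (cjSet_mono _ hB))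

theorem single {M : Subgroup G} {x : G} (hA : A ⊆ S) (hM : M ∈ 𝓜) (hx : x ∈ M)
    (hxA : ∀ a ∈ A, x * a * x⁻¹ ∈ S) : Fus 𝓜 S A x :=
  .step hA hM hx hxA (.nil (cjSet_subset_iff.mpr hxA) fun a _ => by simp)

theorem trans (h₁ : Fus 𝓜 S A g) (h₂ : Fus 𝓜 S (cjSet g A) h) : Fus 𝓜 S A (h * g) := by
  induction h₁ with
  | nil hA hg =>
    rw [cjSet_congr hg] at h₂
    refine h₂.congr' fun a ha => ?_
    conv_lhs => rw [← hg a ha]
    simp [mul_assoc]
  | step hA hM hx hxA _ ih =>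
    rename_i A g x M _
    refine .step hA hM hx hxA ?_
    rw [mul_assoc]
    exact ih (by rwa [cjSet_cjSet, inv_mul_cancel_right])

theorem trans' {T : Set G} (h₁ : Fus 𝓜 S A g) (h₂ : Fus 𝓜 S T h) (hT : ∀ a ∈ A, g * a * g⁻¹ ∈ T) :
    Fus 𝓜 S A (h * g) :=
  h₁.trans (h₂.mono_set (cjSet_subset_iff.mpr hT))

theorem symm (h : Fus 𝓜 S A g) : Fus 𝓜 S (cjSet g A) g⁻¹ := by
  induction h with
  | nil hA hg =>
    rename_i A g
    refine .nil ((cjSet_congr hg).le.trans hA) ?_
    rintro _ ⟨a, ha, rfl⟩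
    simp only [inv_inv]
    rw [hg a ha]
    conv_lhs => rw [← hg a ha]
    simp [mul_assoc]
  | step hA hM hx hxA _ ih =>
    rename_i A g x M hrest
    rw [cjSet_cjSet, inv_mul_cancel_right, mul_inv_rev, inv_inv] at ih
    have hback : cjSet (x * g⁻¹) (cjSet g A) = cjSet x A := by
      rw [cjSet_cjSet, inv_mul_cancel_right]
    have h2 : Fus 𝓜 S (cjSet x A) x⁻¹ := by
      refine single (cjSet_subset_iff.mpr hxA) hM (inv_mem hx) ?_
      rintro _ ⟨a, ha, rfl⟩
      simpa [mul_assoc] using hA ha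
    have := ih.trans (h := x⁻¹) (by rwa [hback])
    rwa [inv_mul_cancel_left] at this

theorem bind {𝓜' : Set (Subgroup G)} {S' : Subgroup G} (h : Fus 𝓜 S A g) (hS : S ≤ S')
    (hstep : ∀ M ∈ 𝓜, ∀ z ∈ M, ∀ B : Set G, B ⊆ S → (∀ b ∈ B, z * b * z⁻¹ ∈ S) →
      Fus 𝓜' S' B z) : Fus 𝓜' S' A g := by
  induction h with
  | nil hA hg => exact .nil (hA.trans hS) hg
  | step hA hM hx hxA _ ih =>
    rename_i A g x M _
    have := (hstep M hM x hx A hA hxA).trans ih
    rwa [inv_mul_cancel_right] at this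

theorem mono {𝓜' : Set (Subgroup G)} {S' : Subgroup G} (h : Fus 𝓜 S A g) (hS : S ≤ S')
    (hM : ∀ M ∈ 𝓜, ∃ M' ∈ 𝓜', M ≤ M') : Fus 𝓜' S' A g :=
  h.bind hS fun M hMm z hz B hB hzB => by
    obtain ⟨M', hM', hle⟩ := hM M hMm
    exact single (hB.trans hS) hM' (hle hz) fun b hb => hS (hzB b hb)

theorem exists_mem_of_singleton {M : Subgroup G} (h : Fus {M} S A g) :
    ∃ x ∈ M, ∀ a ∈ A, x * a * x⁻¹ = g * a * g⁻¹ := by
  induction h with
  | nil hA hg => exact ⟨1, one_mem _, fun a ha => by simp [hg a ha]⟩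
  | step hA hM hx hxA _ ih =>
    rename_i A g x M' _
    obtain ⟨y, hy, hyA⟩ := ih
    rw [Set.mem_singleton_iff] at hM
    subst hM
    refine ⟨y * x, mul_mem hy hx, fun a ha => ?_⟩
    simpa [mul_assoc] using hyA _ ⟨a, ha, rfl⟩

theorem closure (h : Fus 𝓜 S A g) : Fus 𝓜 S (Subgroup.closure A : Set G) g := by
  induction h with
  | nil hA hg =>
    rename_i A g
    refine .nil ((Subgroup.closure_le _).mpr hA) fun a ha => ?_
    induction ha using Subgroup.closure_induction with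
    | mem z hz => exact hg z hz
    | one => simp
    | mul x y _ _ hx hy => rw [← conj_mul, hx, hy]
    | inv x _ hx => rw [← conj_inv, hx]
  | step hA hM hx hxA _ ih =>
    rename_i A g x M _
    have heq : cjSet x (Subgroup.closure A : Set G) = (Subgroup.closure (cjSet x A) : Set G) := by
      rw [cjSet_coe, MonoidHom.map_closure]
      rfl
    refine .step ((Subgroup.closure_le _).mpr hA) hM hx (fun a ha => ?_) (heq ▸ ih)
    have hmem : x * a * x⁻¹ ∈ (Subgroup.closure (cjSet x A) : Set G) := heq ▸ (Set.mem_image_of_mem _ ha)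
    exact (Subgroup.closure_le _).mpr (cjSet_subset_iff.mpr hxA) hmem

theorem map {H : Type*} [Group H] (f : G →* H) (h : Fus 𝓜 S A g) :
    Fus (Subgroup.map f '' 𝓜) (S.map f) (f '' A) (f g) := by
  induction h with
  | nil hA hg =>
    refine .nil (Set.image_mono hA) ?_
    rintro _ ⟨a, ha, rfl⟩
    rw [← map_inv, ← map_mul, ← map_mul, hg a ha]
  | step hA hM hx hxA _ ih =>
    rename_i A g x M _
    refine .step (M := M.map f) (x := f x) (Set.image_mono hA) ⟨M, hM, rfl⟩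
      (Subgroup.mem_map_of_mem f hx) ?_ ?_
    · rintro _ ⟨a, ha, rfl⟩
      exact ⟨_, hxA a ha, by simp⟩
    · have : f '' cjSet x A = cjSet (f x) (f '' A) := by
        simp [cjSet, Set.image_image]
      rw [this, map_mul, map_inv] at ih
      exact ih

theorem inv_mul_mem {R : Subgroup G}
    (hR : ∀ M ∈ 𝓜, ∀ x ∈ M, ∀ a ∈ S, x * a * x⁻¹ ∈ S → a⁻¹ * (x * a * x⁻¹) ∈ R)
    (h : Fus 𝓜 S A g) : ∀ a ∈ A, a⁻¹ * (g * a * g⁻¹) ∈ R := by
  induction h with
  | nil hA hg => exact fun a ha => by simp [hg a ha]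
  | step hA hM hx hxA _ ih =>
    rename_i A g x M _
    intro a ha
    have h1 := hR M hM x hx a (hA ha) (hxA a ha)
    have h2 := mul_mem h1 (ih _ ⟨a, ha, rfl⟩)
    simpa [mul_assoc] using h2

/-- Chains as functions on `Fin`. -/
theorem exists_fin (h : Fus 𝓜 S A g) :
    ∃ (n : ℕ) (c : Fin (n + 1) → G), c 0 = 1 ∧
      (∀ i : Fin n, ∃ M ∈ 𝓜, c i.succ * (c i.castSucc)⁻¹ ∈ M) ∧
      (∀ i : Fin (n + 1), cjSet (c i) A ⊆ S) ∧
      ∀ a ∈ A, c (Fin.last n) * a * (c (Fin.last n))⁻¹ = g * a * g⁻¹ := by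
  induction h with
  | nil hA hg =>
    refine ⟨0, fun _ => 1, rfl, fun i => i.elim0, fun _ => ?_, fun a ha => by simp [hg a ha]⟩
    simpa [cjSet] using hA
  | step hA hM hx hxA _ ih =>
    rename_i A g x M _
    obtain ⟨n, c, h0, hst, him, hlast⟩ := ih
    refine ⟨n + 1, Fin.cons 1 (fun i => c i * x), rfl, ?_, ?_, ?_⟩
    · intro i
      induction i using Fin.cases with
      | zero => exact ⟨M, hM, by simpa [h0] using hx⟩
      | succ j =>
        obtain ⟨M', hM', hmem⟩ := hst j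
        exact ⟨M', hM', by simpa [mul_assoc, ← Fin.succ_castSucc] using hmem⟩
    · intro i
      induction i using Fin.cases with
      | zero => simpa [cjSet] using hA
      | succ j => simpa [← cjSet_cjSet] using him j
    · intro a ha
      simpa [← Fin.succ_last, mul_assoc] using hlast _ ⟨a, ha, rfl⟩

theorem of_fin : ∀ (n : ℕ) {A : Set G} {g : G} (c : Fin (n + 1) → G), c 0 = 1 →
    (∀ i : Fin n, ∃ M ∈ 𝓜, c i.succ * (c i.castSucc)⁻¹ ∈ M) →
    (∀ i : Fin (n + 1), cjSet (c i) A ⊆ S) →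
    (∀ a ∈ A, c (Fin.last n) * a * (c (Fin.last n))⁻¹ = g * a * g⁻¹) → Fus 𝓜 S A g := by
  intro n
  induction n with
  | zero =>
    intro A g c h0 _ him hlast
    have hA : A ⊆ S := by simpa [cjSet, h0] using him 0
    refine .nil hA fun a ha => ?_
    have := hlast a ha
    simp [h0] at this
    exact this.symm
  | succ n ih =>
    intro A g c h0 hst him hlast
    have hA : A ⊆ S := by simpa [cjSet, h0] using him 0
    obtain ⟨M, hM, hmem⟩ := hst 0
    have hx : c (Fin.succ 0) ∈ M := by simpa [h0] using hmem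
    refine .step hA hM hx (cjSet_subset_iff.mp (him _)) ?_
    refine ih (fun i => c i.succ * (c (Fin.succ 0))⁻¹) (by simp) ?_ ?_ ?_
    · intro i
      obtain ⟨M', hM', hmem'⟩ := hst i.succ
      exact ⟨M', hM', by simpa [mul_assoc, ← Fin.succ_castSucc] using hmem'⟩
    · intro i
      simpa [cjSet_cjSet] using him i.succ
    · rintro _ ⟨a, ha, rfl⟩
      simpa [Fin.succ_last, mul_assoc] using hlast a ha

end Fus

/-- Every fusion inside `S` by elements of `H` is a chain through members of `𝓜`. -/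
def FusControls (𝓜 : Set (Subgroup G)) (S H : Subgroup G) : Prop :=
  ∀ (A : Set G) (g : G), g ∈ H → A ⊆ S → cjSet g A ⊆ S → Fus 𝓜 S A g

theorem FusControls.mono {𝓜' : Set (Subgroup G)} {H : Subgroup G} (h : FusControls 𝓜 S H)
    (hM : ∀ M ∈ 𝓜, ∃ M' ∈ 𝓜', M ≤ M') : FusControls 𝓜' S H :=
  fun A g hg hA hgA => (h A g hg hA hgA).mono le_rfl hM

/-- It is enough to treat subgroups in place of subsets. -/
theorem fusControls_of_subgroups {H : Subgroup G}
    (h : ∀ (T : Subgroup G) (g : G), g ∈ H → T ≤ S → g *• T ≤ S → Fus 𝓜 S (T : Set G) g) :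
    FusControls 𝓜 S H := fun A g hg hA hgA =>
  (h (Subgroup.closure A) g hg ((Subgroup.closure_le _).mpr hA)
    (by rw [MonoidHom.map_closure, Subgroup.closure_le]; exact hgA)).mono_set Subgroup.subset_closure

theorem FusControls.map {H : Subgroup G} {K : Type*} [Group K] (f : G →* K)
    (hf : Function.Injective f) (h : FusControls 𝓜 S H) :
    FusControls (Subgroup.map f '' 𝓜) (S.map f) (H.map f) := by
  rintro A g' ⟨g, hg, rfl⟩ hA hgA
  have e : f '' (f ⁻¹' A) = A :=
    Set.image_preimage_eq_of_subset (hA.trans (Set.image_subset_range _ _))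
  have hpre : ∀ a ∈ f ⁻¹' A, a ∈ S := fun a ha => (mem_map_iff_mem hf).mp (hA ha)
  have hgpre : cjSet g (f ⁻¹' A) ⊆ S := by
    rintro _ ⟨a, ha, rfl⟩
    have := hgA ⟨f a, ha, rfl⟩
    simp only [SetLike.mem_coe, ← map_mul, ← map_inv, mem_map_iff_mem hf] at this
    exact this
  rw [← e]
  exact (h _ g hg hpre hgpre).map f

end CfsgLib.ConjFunctor
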