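import Cfsg.Agent.ConjFunctor.FourEngel
import Cfsg.Agent.ConjFunctor.Transfer
import Cfsg.Agent.PLocal.Thompson
import Cfsg.Agent.PLocal.CommutatorFacts
import Cfsg.Agent.LocalEvenBasic.Replacement

/-!
An element of Engel length six on the chief factors below `O_p` from a non-normal `J(S)`
(abelian subgroups of largest order).

`A` is a critical subgroup of `Q = O_p`, `Z = Z(A)` and `B ≰ Q` is abelian of largest order in `S`,
with `|B ∩ A|` as large as possible. Thompson's replacement gives: on `Z` the action of `B` is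
cubic on chief factors, and on `A/Z` it has length four; if `B` is quadratic on `Z`, five.
-/

set_option autoImplicit false
set_option linter.unusedSectionVars false

universe u

namespace CfsgLib.ConjFunctor.JEngel

open Cfsg Subgroup CfsgLib.LocalEvenBasic
open scoped commutatorElement

section
variable {G : Type*} [Group G]

theorem comm_mul_right (b t s : G) : ⁅b, t * s⁆ = ⁅b, t⁆ * (t * ⁅b, s⁆ * t⁻¹) := by
  simp only [commutatorElement_def]; group

theorem comm_mul_left (b c t : G) : ⁅b * c, t⁆ = b * ⁅c, t⁆ * b⁻¹ * ⁅b, t⁆ := by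
  simp only [commutatorElement_def]; group

theorem comm_inv_right (b t : G) : ⁅b, t⁻¹⁆ = t⁻¹ * ⁅b, t⁆⁻¹ * t := by
  simp only [commutatorElement_def]; group

theorem conj_eq_comm_mul (b t : G) : b * t * b⁻¹ = ⁅b, t⁆ * t := by
  simp only [commutatorElement_def]; group

/-- Two commuting operators commute, given one commutation between their values. -/
theorem comm_swap {a b t : G} (hab : Commute a b) (hw : Commute ⁅a, t⁆ ⁅b, t⁆) :
    ⁅a, ⁅b, t⁆⁆ = ⁅b, ⁅a, t⁆⁆ := by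
  have h1 : a * ⁅b, t⁆ * a⁻¹ = ⁅b, a * t * a⁻¹⁆ := by
    have h := map_commutatorElement (MulAut.conj a).toMonoidHom b t
    simp only [MulEquiv.coe_toMonoidHom, MulAut.conj_apply] at h
    rw [h, hab.eq, mul_inv_cancel_right]
  calc ⁅a, ⁅b, t⁆⁆ = a * ⁅b, t⁆ * a⁻¹ * ⁅b, t⁆⁻¹ := rfl
    _ = ⁅b, ⁅a, t⁆ * t⁆ * ⁅b, t⁆⁻¹ := by rw [h1, conj_eq_comm_mul]
    _ = ⁅b, ⁅a, t⁆⁆ * (⁅a, t⁆ * ⁅b, t⁆ * ⁅a, t⁆⁻¹) * ⁅b, t⁆⁻¹ := by rw [comm_mul_right]
    _ = _ := by rw [hw.eq, mul_inv_cancel_right, mul_inv_cancel_right]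

theorem exists_conj_comm {V C B : Subgroup G} (hBab : IsMulCommutative B) (hC : C ≤ B)
    (hn : C ≤ Subgroup.centralizer (V : Set G)) {y : G} (hy : y ∈ V ⊔ C) :
    ∃ c ∈ C, ∃ m ∈ V, y = c * m ∧ ∀ b ∈ B, ⁅b, y⁆ = c * ⁅b, m⁆ * c⁻¹ := by
  rw [sup_comm, ← SetLike.mem_coe, Subgroup.coe_mul_of_left_le_normalizer_right C V
    (hn.trans (centralizer_le_normalizer _))] at hy
  obtain ⟨c, hc, m, hm, rfl⟩ := hy
  refine ⟨c, hc, m, hm, rfl, fun b hb => ?_⟩
  rw [comm_mul_right, show ⁅b, c⁆ = 1 from commutatorElement_eq_one_iff_commute.mpr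
    (commute_of_mem_isMulCommutative hBab hb (hC hc)), one_mul]

/-- The iterated commutators with `B`, above `Z`. -/
def lay (A Z B : Subgroup G) : ℕ → Subgroup G
  | 0 => A
  | k + 1 => ⁅B, lay A Z B k⁆ ⊔ Z

variable {p : ℕ}

theorem eq_bot_of_le_comm [Finite G] [Fact p.Prime] {S B M : Subgroup G} (hS : IsPGroup p S)
    (hB : B ≤ S) (hM : M ≤ S) (h : M ≤ ⁅B, M⁆) : M = ⊥ := by
  have : Group.IsNilpotent S := hS.isNilpotent
  have hcs : ∀ i, M ≤ S.lowerCentralSeries i := by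
    intro i
    induction i with
    | zero => simpa using hM
    | succ i ih =>
      rw [Subgroup.lowerCentralSeries_succ]
      refine h.trans ?_
      rw [commutator_comm]
      exact commutator_mono ih hB
  obtain ⟨i, hi⟩ := (Subgroup.isNilpotent_iff_lowerCentralSeries _).mp this
  exact le_bot_iff.mp (hi ▸ hcs i)

end

variable {G : Type u} [Group G] [Finite G] {p : ℕ} [Fact p.Prime]

/-- The data: a critical subgroup and a chosen abelian subgroup of largest order. -/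
structure JData (p : ℕ) (S A Z B : Subgroup G) : Prop where
  hd : CriticalData p A Z
  pS : IsPGroup p S
  QS : pCore p G ≤ S
  BS : B ≤ S
  Bab : IsMulCommutative B
  Bmax : ∀ X : Subgroup G, X ≤ S → IsMulCommutative X → Nat.card X ≤ Nat.card B
  BQ : ¬ B ≤ pCore p G
  choice : ∀ X : Subgroup G, X ≤ S → IsMulCommutative X → Nat.card B ≤ Nat.card X →
    ¬ X ≤ pCore p G → Nat.card ↥(X ⊓ A) ≤ Nat.card ↥(B ⊓ A)

variable {S A Z B : Subgroup G}

omit [Fact p.Prime] in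
theorem JData.AS (h : JData p S A Z B) : A ≤ S := h.hd.le.trans h.QS

omit [Fact p.Prime] in
theorem JData.ZS (h : JData p S A Z B) : Z ≤ S := h.hd.zle.trans h.AS

omit [Fact p.Prime] in
theorem JData.bc (h : JData p S A Z B) {a b : G} (ha : a ∈ B) (hb : b ∈ B) : Commute a b :=
  commute_of_mem_isMulCommutative h.Bab ha hb

omit [Fact p.Prime] in
theorem JData.zc (h : JData p S A Z B) {z t : G} (hz : z ∈ Z) (ht : t ∈ A) : Commute z t :=
  (Subgroup.mem_centralizer_iff.mp (h.hd.zcent hz) t ht).symm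

omit [Fact p.Prime] in
theorem JData.zab (h : JData p S A Z B) : IsMulCommutative Z :=
  ⟨⟨fun a b => Subtype.ext (h.zc a.2 (h.hd.zle b.2))⟩⟩

omit [Fact p.Prime] in
theorem JData.dA (h : JData p S A Z B) (b : G) {t : G} (ht : t ∈ A) : ⁅b, t⁆ ∈ A :=
  A.mul_mem (h.hd.normal.conj_mem t ht b) (A.inv_mem ht)

omit [Fact p.Prime] in
theorem JData.dZ (h : JData p S A Z B) (b : G) {t : G} (ht : t ∈ Z) : ⁅b, t⁆ ∈ Z :=
  Z.mul_mem (h.hd.znormal.conj_mem t ht b) (Z.inv_mem ht)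

omit [Fact p.Prime] in
theorem JData.aa (h : JData p S A Z B) {t s : G} (ht : t ∈ A) (hs : s ∈ A) : ⁅t, s⁆ ∈ Z :=
  h.hd.class2 (commutator_mem_commutator ht hs)

omit [Fact p.Prime] in
theorem JData.qA (h : JData p S A Z B) {q t : G} (hq : q ∈ pCore p G) (ht : t ∈ A) : ⁅q, t⁆ ∈ Z :=
  h.hd.tcomm (commutator_mem_commutator hq ht)

omit [Fact p.Prime] in
theorem JData.hom (h : JData p S A Z B) (b : G) {t s : G} (ht : t ∈ Z) (hs : s ∈ Z) :
    ⁅b, t * s⁆ = ⁅b, t⁆ * ⁅b, s⁆ := by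
  rw [comm_mul_right, (h.zc ht (h.hd.zle (h.dZ b hs))).eq, mul_inv_cancel_right]

omit [Fact p.Prime] in
theorem JData.swapQ (h : JData p S A Z B) {q b t : G} (hqB : q ∈ B) (hq : q ∈ pCore p G)
    (hb : b ∈ B) (ht : t ∈ A) : ⁅q, ⁅b, t⁆⁆ = ⁅b, ⁅q, t⁆⁆ :=
  comm_swap (h.bc hqB hb) (h.zc (h.qA hq ht) (h.dA b ht))

omit [Fact p.Prime] in
theorem JData.swapZ (h : JData p S A Z B) {a b z : G} (ha : a ∈ B) (hb : b ∈ B) (hz : z ∈ Z) :
    ⁅a, ⁅b, z⁆⁆ = ⁅b, ⁅a, z⁆⁆ :=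
  comm_swap (h.bc ha hb) (h.zc (h.dZ a hz) (h.hd.zle (h.dZ b hz)))

omit [Fact p.Prime] in
/-- `O_p` centralises `[A, A]`. -/
theorem JData.comm_fixed (h : JData p S A Z B) {q t s : G} (hq : q ∈ pCore p G) (ht : t ∈ A)
    (hs : s ∈ A) : Commute q ⁅t, s⁆ := by
  have hc : ∀ z ∈ Z, ∀ x ∈ A, ⁅z, x⁆ = 1 := fun z hz x hx =>
    commutatorElement_eq_one_iff_commute.mpr (h.zc hz hx)
  have hz1 := h.qA hq ht
  have hz2 := h.qA hq hs
  have e : q * ⁅t, s⁆ * q⁻¹ = ⁅⁅q, t⁆ * t, ⁅q, s⁆ * s⁆ := by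
    have h1 := map_commutatorElement (MulAut.conj q).toMonoidHom t s
    simp only [MulEquiv.coe_toMonoidHom, MulAut.conj_apply] at h1
    rw [h1, conj_eq_comm_mul, conj_eq_comm_mul]
  rw [comm_mul_left, hc _ hz1 _ (A.mul_mem (h.hd.zle hz2) hs), mul_one, comm_mul_right,
    show ⁅t, ⁅q, s⁆⁆ = 1 from commutatorElement_eq_one_iff_commute.mpr (h.zc hz2 ht).symm, one_mul,
    (h.zc hz2 (h.hd.zle (h.aa ht hs))).eq, mul_inv_cancel_right,
    (h.zc hz1 (h.hd.zle (h.aa ht hs))).eq, mul_inv_cancel_right] at e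
  exact mul_inv_eq_iff_eq_mul.mp e

/-! ### The subgroup `[x, B]` -/

omit [Finite G] in
theorem comm_mem_commWith {b x : G} (hb : b ∈ B) : ⁅b, x⁆ ∈ commWith B x := mem_commWith x hb

theorem le_normalizer_commWith (x : G) : B ≤ Subgroup.normalizer (commWith B x : Set G) := by
  intro c hc
  refine mem_normalizer_of_forall_conj_mem fun m hm => ?_
  induction hm using Subgroup.closure_induction with
  | mem m hm =>
    obtain ⟨b, hb, rfl⟩ := hm
    have e : c * (b * x * b⁻¹ * x⁻¹) * c⁻¹ = ⁅c * b, x⁆ * ⁅c, x⁆⁻¹ := by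
      simp only [commutatorElement_def]; group
    rw [e]
    exact mul_mem (comm_mem_commWith (B.mul_mem hc hb)) (inv_mem (comm_mem_commWith hc))
  | one => simp
  | mul a b _ _ ha hb =>
    rw [← conj_mul]
    exact mul_mem ha hb
  | inv a _ ha =>
    rw [← conj_inv]
    exact inv_mem ha

theorem comm_commWith_mem {x b m : G} (hb : b ∈ B) (hm : m ∈ commWith B x) :
    ⁅b, m⁆ ∈ commWith B x :=
  mul_mem ((mem_normalizer_iff.mp (le_normalizer_commWith x hb) m).mp hm) (inv_mem hm)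

theorem JData.cw_le_A (h : JData p S A Z B) {x : G} (hx : x ∈ A) : commWith B x ≤ A :=
  commWith_le fun b _ => h.dA b hx

theorem JData.cw_le_Z (h : JData p S A Z B) {x : G} (hx : x ∈ Z) : commWith B x ≤ Z :=
  commWith_le fun b _ => h.dZ b hx

theorem JData.cw_ab_Z (h : JData p S A Z B) {x : G} (hx : x ∈ Z) :
    IsMulCommutative (commWith B x) :=
  PLocal.isMulCommutative_of_le h.zab (h.cw_le_Z hx)

theorem JData.card_rep (h : JData p S A Z B) {x : G} (hx : x ∈ A)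
    (hM : IsMulCommutative (commWith B x)) :
    IsMulCommutative ↥(replaceAt B x) ∧ replaceAt B x ≤ S ∧
      Nat.card ↥(replaceAt B x) = Nat.card B := by
  have h1 := replaceAt_isMulCommutative h.Bab hM (fun b hb => mem_commWith x hb)
  have h2 : replaceAt B x ≤ S := sup_le ((h.cw_le_A hx).trans h.AS) (inf_le_left.trans h.BS)
  exact ⟨h1, h2, le_antisymm (h.Bmax _ h2 h1)
    (card_le_replaceAt h.Bab hM (le_normalizer_commWith x) fun b hb => mem_commWith x hb)⟩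

/-- The dichotomy. -/
theorem JData.dichotomy (h : JData p S A Z B) {x : G} (hx : x ∈ A)
    (hM : IsMulCommutative (commWith B x))
    (hC : ¬ B ⊓ Subgroup.centralizer (commWith B x : Set G) ≤ pCore p G) :
    ∀ m ∈ commWith B x, ∀ b ∈ B, ∃ a ∈ A, ⁅b, m⁆ = ⁅a, m⁆ := by
  obtain ⟨hRab, hRS, hRc⟩ := h.card_rep hx hM
  have hRQ : ¬ replaceAt B x ≤ pCore p G := fun hle => hC (le_sup_right.trans hle)
  have hch := h.choice _ hRS hRab hRc.ge hRQ
  set C := B ⊓ Subgroup.centralizer (commWith B x : Set G) with hCdef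
  set R := replaceAt B x with hR
  have := h.hd.normal
  have hB : Nat.card ↥(B ⊓ A) * A.relIndex B = Nat.card B := by
    rw [← inf_relIndex_right A B, inf_comm]
    exact card_mul_relIndex_of_le _ _ inf_le_right
  have hRr : Nat.card ↥(R ⊓ A) * A.relIndex R = Nat.card B := by
    rw [← inf_relIndex_right A R, inf_comm, ← hRc]
    exact card_mul_relIndex_of_le _ _ inf_le_right
  have h0 : Nat.card ↥(R ⊓ A) * A.relIndex B ≤ Nat.card ↥(R ⊓ A) * A.relIndex R :=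
    (Nat.mul_le_mul_right _ hch).trans_eq (hB.trans hRr.symm)
  have h1 : A.relIndex B ≤ A.relIndex R := Nat.le_of_mul_le_mul_left h0 Nat.card_pos
  have h2 : A.relIndex R ≤ A.relIndex (A ⊔ C) :=
    relIndex_le_of_le_right (sup_le ((h.cw_le_A hx).trans le_sup_left) le_sup_right)
      index_ne_zero_of_finite
  have h3 : A ⊔ C = A ⊔ B := by
    refine eq_of_le_of_card_ge (sup_le_sup_left inf_le_left A) ?_
    rw [← card_mul_relIndex_of_le A (A ⊔ B) le_sup_left,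
      ← card_mul_relIndex_of_le A (A ⊔ C) le_sup_left, relIndex_sup_left (K := A) (H := B)]
    exact Nat.mul_le_mul_left _ (h1.trans h2)
  intro m hm b hb
  obtain ⟨a, ha, c, hc, rfl⟩ := mem_sup_of_normal_left.mp (h3.symm ▸ mem_sup_right hb : b ∈ A ⊔ C)
  refine ⟨a, ha, ?_⟩
  rw [comm_mul_left, show ⁅c, m⁆ = 1 from commutatorElement_eq_one_iff_commute.mpr
    (Subgroup.mem_centralizer_iff.mp (Subgroup.mem_inf.mp hc).2 m hm).symm, mul_one,
    mul_inv_cancel, one_mul]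

theorem JData.comm_mem_Z_of_notQ (h : JData p S A Z B) {x : G} (hx : x ∈ A)
    (hM : IsMulCommutative (commWith B x))
    (hC : ¬ B ⊓ Subgroup.centralizer (commWith B x : Set G) ≤ pCore p G) :
    ∀ b ∈ B, ∀ c ∈ B, ⁅c, ⁅b, x⁆⁆ ∈ Z := by
  intro b hb c hc
  obtain ⟨a, ha, e⟩ := h.dichotomy hx hM hC _ (comm_mem_commWith hb) c hc
  rw [e]
  exact h.aa ha (h.dA b hx)

theorem JData.quad_of_notQ (h : JData p S A Z B) {x : G} (hx : x ∈ Z)
    (hC : ¬ B ⊓ Subgroup.centralizer (commWith B x : Set G) ≤ pCore p G) :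
    ∀ b ∈ B, ∀ c ∈ B, ⁅c, ⁅b, x⁆⁆ = 1 := by
  intro b hb c hc
  obtain ⟨a, ha, e⟩ :=
    h.dichotomy (h.hd.zle hx) (h.cw_ab_Z hx) hC _ (comm_mem_commWith hb) c hc
  rw [e]
  exact commutatorElement_eq_one_iff_commute.mpr (h.zc (h.dZ b hx) ha).symm

/-- An abelian group containing `x`, `[x, B]`, centralised by the centraliser of `[x, B]`, forces
that centraliser out of `O_p`. -/
theorem JData.notQ_of_squeeze (h : JData p S A Z B) {x : G} (hx : x ∈ A)
    (hM : IsMulCommutative (commWith B x)) {V : Subgroup G} (hVS : V ≤ S)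
    (hV : IsMulCommutative V) (hxV : x ∈ V) (hMV : commWith B x ≤ V)
    (hcen : B ⊓ Subgroup.centralizer (commWith B x : Set G) ≤ pCore p G →
      B ⊓ Subgroup.centralizer (commWith B x : Set G) ≤ Subgroup.centralizer (V : Set G)) :
    ¬ B ⊓ Subgroup.centralizer (commWith B x : Set G) ≤ pCore p G := by
  intro hQ
  set M := commWith B x with hMdef
  set C := B ⊓ Subgroup.centralizer (M : Set G) with hCdef
  have hX : IsMulCommutative ↥(V ⊔ C) := LocalEvenBasic.isMulCommutative_sup hV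
    (PLocal.isMulCommutative_of_le h.Bab inf_le_left) (le_centralizer_iff.mp (hcen hQ))
  have heq : replaceAt B x = V ⊔ C := eq_of_le_of_card_ge (sup_le_sup_right hMV C)
    ((h.Bmax _ (sup_le hVS (inf_le_left.trans h.BS)) hX).trans_eq (h.card_rep hx hM).2.2.symm)
  have hxR : x ∈ M ⊔ C := by
    have : x ∈ replaceAt B x := heq ▸ mem_sup_left hxV
    exact this
  obtain ⟨c, hc, m, hm, -, he⟩ := exists_conj_comm h.Bab inf_le_left inf_le_right hxR
  have hMB : M ≤ ⁅B, M⁆ := commWith_le fun b hb => by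
    show ⁅b, x⁆ ∈ ⁅B, M⁆
    rw [he b hb, ← Subgroup.mem_centralizer_iff.mp (Subgroup.mem_inf.mp hc).2 _
      (comm_commWith_mem hb hm), mul_inv_cancel_right]
    exact commutator_mem_commutator hb hm
  have hbot : M = ⊥ := eq_bot_of_le_comm h.pS h.BS ((h.cw_le_A hx).trans h.AS) hMB
  exact h.BQ fun b hb => hQ (Subgroup.mem_inf.mpr ⟨hb, Subgroup.mem_centralizer_iff.mpr fun m hm => by
    rw [SetLike.mem_coe, hbot, mem_bot] at hm
    simp [hm]⟩)

/-- `B` is quadratic on `[A, A]`. -/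
theorem JData.dquad (h : JData p S A Z B) {t s : G} (ht : t ∈ A) (hs : s ∈ A) :
    ∀ b ∈ B, ∀ c ∈ B, ⁅c, ⁅b, ⁅t, s⁆⁆⁆ = 1 := by
  have := h.hd.normal
  refine h.quad_of_notQ (h.aa ht hs) (h.notQ_of_squeeze (h.hd.zle (h.aa ht hs)) (h.cw_ab_Z (h.aa ht hs))
    (V := ⁅A, A⁆) ((h.hd.class2).trans h.ZS) (PLocal.isMulCommutative_of_le h.zab h.hd.class2)
    (commutator_mem_commutator ht hs) (commWith_le fun b _ => ?_) fun hQ => ?_)
  · exact mul_mem ((inferInstance : (⁅A, A⁆).Normal).conj_mem _ (commutator_mem_commutator ht hs) b)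
      (inv_mem (commutator_mem_commutator ht hs))
  · refine hQ.trans (le_centralizer_iff.mp (commutator_le.mpr fun t ht s hs => ?_))
    exact Subgroup.mem_centralizer_iff.mpr fun q hq => h.comm_fixed hq ht hs

/-! ### The action on `Z` -/

theorem JData.tight_sup (h : JData p S A Z B) {V₁ V₂ : Subgroup G} (h₁ : V₁ ≤ Z) (h₂ : V₂ ≤ Z)
    (hF₁ : B ⊓ Z ≤ V₁) (hF₂ : B ⊓ Z ≤ V₂)
    (t₁ : Nat.card B ≤ Nat.card ↥(V₁ ⊔ B ⊓ Subgroup.centralizer (V₁ : Set G)))
    (t₂ : Nat.card B ≤ Nat.card ↥(V₂ ⊔ B ⊓ Subgroup.centralizer (V₂ : Set G))) :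
    Nat.card B ≤
      Nat.card ↥((V₁ ⊔ V₂) ⊔ B ⊓ Subgroup.centralizer ((V₁ ⊔ V₂ : Subgroup G) : Set G)) := by
  set C₁ := B ⊓ Subgroup.centralizer (V₁ : Set G) with hC₁
  set C₂ := B ⊓ Subgroup.centralizer (V₂ : Set G) with hC₂
  have hFC : ∀ V : Subgroup G, V ≤ Z → B ⊓ Z ≤ B ⊓ Subgroup.centralizer (V : Set G) :=
    fun V hV x hx => Subgroup.mem_inf.mpr ⟨hx.1, Subgroup.mem_centralizer_iff.mpr fun y hy =>
      (h.zc hx.2 (h.hd.zle (hV hy))).symm⟩
  have key : ∀ V : Subgroup G, V ≤ Z → B ⊓ Z ≤ V →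
      Nat.card B ≤ Nat.card ↥(V ⊔ B ⊓ Subgroup.centralizer (V : Set G)) →
      Nat.card B * Nat.card ↥(B ⊓ Z) ≤
        Nat.card V * Nat.card ↥(B ⊓ Subgroup.centralizer (V : Set G)) := by
    intro V hV hF t
    have := PLocal.card_sup_mul_card_inf (A := B ⊓ Subgroup.centralizer (V : Set G)) (B := V)
      (inf_le_right.trans (centralizer_le_normalizer _))
    rw [mul_comm (Nat.card V), ← this, sup_comm]
    exact Nat.mul_le_mul t (card_le_of_le (le_inf (hFC V hV) hF))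
  have hY : Nat.card ↥(V₁ ⊓ V₂) * Nat.card ↥(C₁ ⊔ C₂) ≤ Nat.card B * Nat.card ↥(B ⊓ Z) := by
    refine (card_mul_le_inf_mul_sup _ _).trans ?_
    rw [mul_comm (Nat.card B)]
    refine Nat.mul_le_mul (card_le_of_le fun x hx => ⟨(sup_le inf_le_left inf_le_left : C₁ ⊔ C₂ ≤ B) hx.2,
      h₁ hx.1.1⟩) (h.Bmax _ (sup_le (inf_le_left.trans (h₁.trans h.ZS))
        (sup_le (inf_le_left.trans h.BS) (inf_le_left.trans h.BS))) ?_)
    refine LocalEvenBasic.isMulCommutative_sup (PLocal.isMulCommutative_of_le h.zab (inf_le_left.trans h₁))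
      (PLocal.isMulCommutative_of_le h.Bab (sup_le inf_le_left inf_le_left)) ?_
    rw [le_centralizer_iff]
    exact sup_le (inf_le_right.trans (centralizer_le inf_le_left))
      (inf_le_right.trans (centralizer_le inf_le_right))
  have hC : C₁ ⊓ C₂ ≤ B ⊓ Subgroup.centralizer ((V₁ ⊔ V₂ : Subgroup G) : Set G) := by
    rw [PLocal.centralizer_sup]
    exact le_inf (inf_le_left.trans inf_le_left) (inf_le_inf inf_le_right inf_le_right)
  have hX : Nat.card ↥(V₁ ⊔ V₂) * Nat.card ↥(C₁ ⊓ C₂) ≤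
      Nat.card ↥(B ⊓ Z) * Nat.card ↥((V₁ ⊔ V₂) ⊔ B ⊓ Subgroup.centralizer ((V₁ ⊔ V₂ : Subgroup G) : Set G)) := by
    refine (card_mul_le_inf_mul_sup _ _).trans (Nat.mul_le_mul (card_le_of_le fun x hx => ?_)
      (card_le_of_le (sup_le_sup_left hC _)))
    exact ⟨hx.2.1.1, sup_le h₁ h₂ hx.1⟩
  set F := Nat.card ↥(B ⊓ Z) with hF
  set N := Nat.card B with hN
  have hNF : 0 < N * F := Nat.mul_pos Nat.card_pos Nat.card_pos
  have h5 : N * F ≤ Nat.card ↥(V₁ ⊔ V₂) * Nat.card ↥(C₁ ⊓ C₂) := by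
    refine Nat.le_of_mul_le_mul_left ?_ hNF
    calc N * F * (N * F) ≤ (Nat.card V₁ * Nat.card C₁) * (Nat.card V₂ * Nat.card C₂) :=
          Nat.mul_le_mul (key V₁ h₁ hF₁ t₁) (key V₂ h₂ hF₂ t₂)
      _ = (Nat.card V₁ * Nat.card V₂) * (Nat.card C₁ * Nat.card C₂) := by ring
      _ ≤ (Nat.card ↥(V₁ ⊓ V₂) * Nat.card ↥(V₁ ⊔ V₂)) * (Nat.card ↥(C₁ ⊓ C₂) * Nat.card ↥(C₁ ⊔ C₂)) :=
          Nat.mul_le_mul (card_mul_le_inf_mul_sup _ _) (card_mul_le_inf_mul_sup _ _)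
      _ = (Nat.card ↥(V₁ ⊓ V₂) * Nat.card ↥(C₁ ⊔ C₂)) * (Nat.card ↥(V₁ ⊔ V₂) * Nat.card ↥(C₁ ⊓ C₂)) := by
          ring
      _ ≤ N * F * (Nat.card ↥(V₁ ⊔ V₂) * Nat.card ↥(C₁ ⊓ C₂)) := Nat.mul_le_mul_right _ hY
  exact Nat.le_of_mul_le_mul_left (by rw [mul_comm F]; exact h5.trans hX) Nat.card_pos

/-- A subgroup of `Z` containing `[Z, B]` which with its centraliser in `B` is as large as `B`. -/
theorem JData.exists_tight (h : JData p S A Z B) : ∃ V : Subgroup G, V ≤ Z ∧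
    (∀ z ∈ Z, ∀ b ∈ B, ⁅b, z⁆ ∈ V) ∧
    Nat.card B ≤ Nat.card ↥(V ⊔ B ⊓ Subgroup.centralizer (V : Set G)) := by
  obtain ⟨V, -, hV⟩ := Finite.exists_le_maximal (p := fun V : Subgroup G => V ≤ Z ∧ B ⊓ Z ≤ V ∧
      Nat.card B ≤ Nat.card ↥(V ⊔ B ⊓ Subgroup.centralizer (V : Set G))) (a := B ⊓ Z)
    ⟨inf_le_right, le_rfl, card_le_of_le fun b hb => mem_sup_right (Subgroup.mem_inf.mpr ⟨hb,
      Subgroup.mem_centralizer_iff.mpr fun y hy => (h.bc hb hy.1).symm⟩)⟩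
  obtain ⟨hVZ, hFV, hVt⟩ := hV.prop
  refine ⟨V, hVZ, fun z hz b hb => ?_, hVt⟩
  have hV' : Nat.card B ≤ Nat.card ↥((commWith B z ⊔ B ⊓ Z) ⊔
      B ⊓ Subgroup.centralizer ((commWith B z ⊔ B ⊓ Z : Subgroup G) : Set G)) := by
    refine (h.card_rep (h.hd.zle hz) (h.cw_ab_Z hz)).2.2.ge.trans (card_le_of_le ?_)
    refine sup_le (le_sup_left.trans le_sup_left) (le_trans ?_ le_sup_right)
    rw [PLocal.centralizer_sup]
    exact fun c hc => ⟨hc.1, hc.2, Subgroup.mem_centralizer_iff.mpr fun y hy => (h.bc hc.1 hy.1).symm⟩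
  have h1 : commWith B z ⊔ B ⊓ Z ≤ Z := sup_le (h.cw_le_Z hz) inf_le_right
  exact (le_sup_right.trans (hV.le_of_ge ⟨sup_le hVZ h1, hFV.trans le_sup_left,
    h.tight_sup hVZ h1 hFV le_sup_right hVt hV'⟩ le_sup_left))
    (mem_sup_left (comm_mem_commWith hb) : ⁅b, z⁆ ∈ commWith B z ⊔ B ⊓ Z)

/-- Modulo `B ∩ Z` every element of `[z, B]` is a single commutator. -/
theorem JData.exists_comm_congr (h : JData p S A Z B) {z m : G} (hz : z ∈ Z)
    (hm : m ∈ commWith B z) : ∃ d ∈ B, ∀ b ∈ B, ⁅b, m⁆ = ⁅b, ⁅d, z⁆⁆ := by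
  classical
  set M := commWith B z with hM
  set C := B ⊓ Subgroup.centralizer (M : Set G) with hC
  have hfix : ∀ t ∈ Z, ∀ β ∈ B, β ∈ Z → ∀ c ∈ B, ⁅c, t * β⁆ = ⁅c, t⁆ := by
    intro t ht β hβ hβZ c hc
    rw [h.hom c ht hβZ, show ⁅c, β⁆ = 1 from commutatorElement_eq_one_iff_commute.mpr (h.bc hc hβ),
      mul_one]
  let g : ↥B ⧸ C.subgroupOf B → ↥M ⧸ B.subgroupOf M := fun q =>
    QuotientGroup.mk ⟨⁅(q.out : G), z⁆, comm_mem_commWith q.out.2⟩
  have hinj : Function.Injective g := by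
    intro q q' hqq'
    have hβ : (⁅(q.out : G), z⁆)⁻¹ * ⁅(q'.out : G), z⁆ ∈ B := by
      simpa [g, QuotientGroup.eq, mem_subgroupOf] using hqq'
    rw [← q.out_eq, ← q'.out_eq, QuotientGroup.eq, mem_subgroupOf]
    generalize hb : (q.out : G) = b at hβ
    generalize hb' : (q'.out : G) = b' at hβ
    have hbB : b ∈ B := hb ▸ q.out.2
    have hb'B : b' ∈ B := hb' ▸ q'.out.2
    show (q.out : G)⁻¹ * (q'.out : G) ∈ C
    rw [hb, hb']
    refine Subgroup.mem_inf.mpr ⟨B.mul_mem (B.inv_mem hbB) hb'B, ?_⟩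
    have hsub : M ≤ Subgroup.centralizer {b⁻¹ * b'} := commWith_le fun c hc => by
      show ⁅c, z⁆ ∈ _
      refine mem_centralizer_singleton_iff.mpr ?_
      have e1 : ⁅c, ⁅b', z⁆⁆ = ⁅c, ⁅b, z⁆⁆ := by
        conv_lhs => rw [show ⁅b', z⁆ = ⁅b, z⁆ * (⁅b, z⁆⁻¹ * ⁅b', z⁆) by group]
        exact hfix _ (h.dZ b hz) _ hβ (Z.mul_mem (Z.inv_mem (h.dZ b hz)) (h.dZ b' hz)) c hc
      rw [h.swapZ hc hb'B hz, h.swapZ hc hbB hz] at e1
      generalize ⁅c, z⁆ = w at e1 ⊢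
      have e2 : b' * w * b'⁻¹ = b * w * b⁻¹ := mul_right_cancel e1
      calc w * (b⁻¹ * b') = b⁻¹ * (b * w * b⁻¹) * b' := by group
        _ = b⁻¹ * (b' * w * b'⁻¹) * b' := by rw [e2]
        _ = b⁻¹ * b' * w := by group
    exact Subgroup.mem_centralizer_iff.mpr fun x hx =>
      mem_centralizer_singleton_iff.mp (hsub hx)
  have hcard : B.relIndex M ≤ C.relIndex B := by
    have h1 : Nat.card C * C.relIndex B = Nat.card B := card_mul_relIndex_of_le _ _ inf_le_left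
    have h2 : Nat.card C * C.relIndex (M ⊔ C) = Nat.card ↥(M ⊔ C) :=
      card_mul_relIndex_of_le _ _ le_sup_right
    have h3 : Nat.card ↥(M ⊔ C) = Nat.card B := (h.card_rep (h.hd.zle hz) (h.cw_ab_Z hz)).2.2
    calc B.relIndex M ≤ C.relIndex M :=
          Nat.le_of_dvd (Nat.pos_of_ne_zero index_ne_zero_of_finite)
            (relIndex_dvd_of_le_left M inf_le_left)
      _ ≤ C.relIndex (M ⊔ C) := relIndex_le_of_le_right le_sup_left index_ne_zero_of_finite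
      _ = C.relIndex B := Nat.eq_of_mul_eq_mul_left Nat.card_pos (h2.trans (h3.trans h1.symm))
  obtain ⟨q, hq⟩ := ((Nat.bijective_iff_injective_and_card g).mpr
    ⟨hinj, le_antisymm (Nat.card_le_card_of_injective g hinj) hcard⟩).2 (QuotientGroup.mk ⟨m, hm⟩)
  refine ⟨q.out, q.out.2, fun b hb => ?_⟩
  have hβ : (⁅(q.out : G), z⁆)⁻¹ * m ∈ B := by
    simpa [g, QuotientGroup.eq, mem_subgroupOf] using hq
  conv_lhs => rw [show m = ⁅(q.out : G), z⁆ * (⁅(q.out : G), z⁆⁻¹ * m) by group]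
  exact hfix _ (h.dZ _ hz) _ hβ (Z.mul_mem (Z.inv_mem (h.dZ _ hz)) (h.cw_le_Z hz hm)) b hb

/-- `B` is cubic on `z`, or two commutators are one commutator with an element of `O_p`. -/
theorem JData.cubic_or (h : JData p S A Z B) {z a e : G} (hz : z ∈ Z) (ha : a ∈ B) (he : e ∈ B) :
    (∀ b ∈ B, ⁅b, ⁅a, ⁅e, z⁆⁆⁆ = 1) ∨
      ∃ d ∈ B, d ∈ pCore p G ∧ ∀ b ∈ B, ⁅b, ⁅a, ⁅e, z⁆⁆⁆ = ⁅b, ⁅d, z⁆⁆ := by
  classical
  let T : Set G := {v | v ∈ commWith B z ∧ ∃ x ∈ B, ∃ y ∈ B, ⁅x, ⁅y, v⁆⁆ ≠ 1}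
  rcases T.eq_empty_or_nonempty with hT | hT
  · refine Or.inl fun b hb => ?_
    by_contra hne
    exact hT.subset (show ⁅e, z⁆ ∈ T from ⟨comm_mem_commWith he, b, hb, a, ha, hne⟩)
  obtain ⟨v, ⟨hvM, x, hx, y, hy, hv⟩, hvmin⟩ :=
    Set.exists_min_image T (fun v => Nat.card (commWith B v)) (Set.toFinite _) hT
  have hvZ : v ∈ Z := h.cw_le_Z hz hvM
  have hkill : ∀ m ∈ commWith B v, ∀ x ∈ B, ∀ y ∈ B, ⁅x, ⁅y, m⁆⁆ = 1 := by
    intro m hm x' hx' y' hy'
    by_contra hne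
    have hmM : m ∈ commWith B z := (commWith_le fun c hc => comm_commWith_mem hc hvM :
      commWith B v ≤ commWith B z) hm
    have hle : commWith B m ≤ commWith B v := commWith_le fun c hc => comm_commWith_mem hc hm
    have heq : commWith B m = commWith B v :=
      eq_of_le_of_card_ge hle (hvmin m ⟨hmM, x', hx', y', hy', hne⟩)
    have hbot : commWith B v = ⊥ := eq_bot_of_le_comm h.pS h.BS ((h.cw_le_Z hvZ).trans h.ZS) (by
      conv_lhs => rw [← heq]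
      exact commWith_le fun c hc => commutator_mem_commutator hc hm)
    have h1 : ⁅y, v⁆ = 1 := mem_bot.mp (hbot ▸ comm_mem_commWith hy)
    exact hv (by rw [h1, commutatorElement_one_right])
  have hCv : B ⊓ Subgroup.centralizer (commWith B v : Set G) ≤ pCore p G := by
    by_contra hC
    exact hv (h.quad_of_notQ hvZ hC y hy x hx)
  obtain ⟨d, hd, hde⟩ := h.exists_comm_congr hz (comm_commWith_mem ha (comm_mem_commWith he))
  refine Or.inr ⟨d, hd, hCv (Subgroup.mem_inf.mpr ⟨hd, Subgroup.mem_centralizer_iff.mpr fun m hm => ?_⟩),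
    hde⟩
  have hact : ∀ m ∈ commWith B z, ⁅d, m⁆ = ⁅a, ⁅e, m⁆⁆ := by
    intro m hm
    induction hm using Subgroup.closure_induction with
    | mem m hm =>
      obtain ⟨c, hc, rfl⟩ := hm
      show ⁅d, ⁅c, z⁆⁆ = ⁅a, ⁅e, ⁅c, z⁆⁆⁆
      rw [h.swapZ hd hc hz, ← hde c hc, h.swapZ he hc hz, h.swapZ ha hc (h.dZ e hz)]
    | one => simp
    | mul s t hs ht ihs iht =>
      have hsZ := h.cw_le_Z hz hs
      have htZ := h.cw_le_Z hz ht
      rw [h.hom d hsZ htZ, h.hom e hsZ htZ, h.hom a (h.dZ e hsZ) (h.dZ e htZ), ihs, iht]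
    | inv s hs ihs =>
      have hsZ := h.cw_le_Z hz hs
      have hinv : ∀ c : G, ∀ t ∈ Z, ⁅c, t⁻¹⁆ = ⁅c, t⁆⁻¹ := fun c t ht => by
        rw [comm_inv_right, ((h.zc (Z.inv_mem ht) (h.hd.zle (Z.inv_mem (h.dZ c ht))))).eq,
          mul_assoc, inv_mul_cancel, mul_one]
      rw [hinv d s hsZ, hinv e s hsZ, hinv a _ (h.dZ e hsZ), ihs]
  have hmz : m ∈ commWith B z := (commWith_le fun c hc => comm_commWith_mem hc hvM :
    commWith B v ≤ commWith B z) hm
  exact (commutatorElement_eq_one_iff_commute.mp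
    ((hact m hmz).trans (hkill m hm a ha e he))).symm

/-! ### The layers of `A / Z` -/

/-- The elements of `A` sent into `H` by `B`. -/
def pull (h : JData p S A Z B) (H : Subgroup G) (hA : H ≤ A)
    (hD : ∀ t ∈ A, ∀ s ∈ A, ⁅t, s⁆ ∈ H) : Subgroup G where
  carrier := {t | t ∈ A ∧ ∀ y ∈ B, ⁅y, t⁆ ∈ H}
  one_mem' := ⟨A.one_mem, fun y _ => by rw [commutatorElement_one_right]; exact H.one_mem⟩
  mul_mem' := fun {a b} ha hb => ⟨A.mul_mem ha.1 hb.1, fun y hy => by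
    rw [comm_mul_right, conj_eq_comm_mul a]
    exact H.mul_mem (ha.2 y hy) (H.mul_mem (hD a ha.1 _ (hA (hb.2 y hy))) (hb.2 y hy))⟩
  inv_mem' := fun {a} ha => ⟨A.inv_mem ha.1, fun y hy => by
    have h1 := conj_eq_comm_mul a⁻¹ ⁅y, a⁆⁻¹
    rw [inv_inv] at h1
    rw [comm_inv_right, h1]
    exact H.mul_mem (hD _ (A.inv_mem ha.1) _ (A.inv_mem (h.dA y ha.1))) (H.inv_mem (ha.2 y hy))⟩

theorem lay_le (h : JData p S A Z B) : ∀ k, lay A Z B k ≤ A
  | 0 => le_rfl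
  | k + 1 => sup_le (commutator_le.mpr fun b _ t ht => h.dA b (lay_le h k ht)) h.hd.zle

omit [Fact p.Prime] [Finite G] in
theorem comm_mem_lay {k : ℕ} {y t : G} (hy : y ∈ B) (ht : t ∈ lay A Z B k) :
    ⁅y, t⁆ ∈ lay A Z B (k + 1) :=
  mem_sup_left (commutator_mem_commutator hy ht)

theorem lay_antitone (h : JData p S A Z B) : Antitone (lay A Z B) := by
  refine antitone_nat_of_succ_le fun k => ?_
  induction k with
  | zero => exact lay_le h 1
  | succ k ih => exact sup_le_sup_right (commutator_mono le_rfl ih) Z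

omit [Fact p.Prime] [Finite G] in
theorem lay_succ_le {H : Subgroup G} {k : ℕ} (hZ : Z ≤ H)
    (hk : ∀ t ∈ lay A Z B k, ∀ y ∈ B, ⁅y, t⁆ ∈ H) : lay A Z B (k + 1) ≤ H :=
  sup_le (commutator_le.mpr fun y hy t ht => hk t ht y hy) hZ

theorem lay_two_le (h : JData p S A Z B) {H : Subgroup G} {k : ℕ} (hZ : Z ≤ H) (hA : H ≤ A)
    (hk : ∀ u ∈ lay A Z B k, ∀ x ∈ B, ∀ y ∈ B, ⁅y, ⁅x, u⁆⁆ ∈ H) : lay A Z B (k + 2) ≤ H := by
  refine lay_succ_le hZ fun t ht => ?_
  have hle : lay A Z B (k + 1) ≤ pull h H hA (fun t ht s hs => hZ (h.aa ht hs)) :=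
    lay_succ_le (fun z hz => ⟨h.hd.zle hz, fun y _ => hZ (h.dZ y hz)⟩)
      fun u hu x hx => ⟨h.dA x (lay_le h k hu), hk u hu x hx⟩
  exact (hle ht).2

theorem exists_lay_le (h : JData p S A Z B) : ∃ N, lay A Z B N ≤ Z := by
  have := h.hd.znormal
  have : Group.IsNilpotent S := h.pS.isNilpotent
  obtain ⟨N, hN⟩ := (Subgroup.isNilpotent_iff_lowerCentralSeries _).mp this
  have hle : ∀ k, lay A Z B k ≤ S.lowerCentralSeries k ⊔ Z := by
    intro k
    induction k with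
    | zero => exact le_sup_of_le_left (by simpa [lay] using h.AS)
    | succ k ih =>
      refine lay_succ_le le_sup_right fun t ht y hy => ?_
      obtain ⟨x, hx, z, hz, rfl⟩ := mem_sup_of_normal_right.mp (ih ht)
      rw [comm_mul_right]
      refine mul_mem (mem_sup_left ?_) (mem_sup_right (h.hd.znormal.conj_mem _ (h.dZ y hz) x))
      rw [Subgroup.lowerCentralSeries_succ, commutator_comm]
      exact commutator_mem_commutator (h.BS hy) hx
  exact ⟨N, (hle N).trans (by rw [hN, bot_sup_eq])⟩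

theorem iterate_mem_lay {g : G} (hg : g ∈ B) {a : G} (ha : a ∈ A) :
    ∀ n, (fun y => ⁅g, y⁆)^[n] a ∈ lay A Z B n
  | 0 => ha
  | n + 1 => by
    rw [Function.iterate_succ_apply']
    exact comm_mem_lay hg (iterate_mem_lay hg ha n)

/-- The deep layers commute. -/
theorem lay_commute (h : JData p S A Z B) {N : ℕ} (hN : lay A Z B N ≤ Z) :
    ∀ a b, N + 1 ≤ a + b → ∀ u ∈ lay A Z B a, ∀ v ∈ lay A Z B b, ⁅u, v⁆ = 1 := by
  have hone : ∀ z ∈ Z, ∀ t ∈ A, ⁅z, t⁆ = 1 ∧ ⁅t, z⁆ = 1 := fun z hz t ht =>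
    ⟨commutatorElement_eq_one_iff_commute.mpr (h.zc hz ht),
      commutatorElement_eq_one_iff_commute.mpr (h.zc hz ht).symm⟩
  suffices key : ∀ d a b, N + 1 ≤ a + b → 2 * N ≤ a + b + d →
      ∀ u ∈ lay A Z B a, ∀ v ∈ lay A Z B b, ⁅u, v⁆ = 1 from
    fun a b hab => key (2 * N) a b hab (by omega)
  intro d
  induction d using Nat.strong_induction_on with
  | h d ihd =>
  intro a
  induction a using Nat.strong_induction_on with
  | h a iha =>
  intro b hab hd u hu v hv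
  by_cases hb : N ≤ b
  · exact (hone v (hN (lay_antitone h hb hv)) u (lay_le h a hu)).2
  by_cases haN : N ≤ a
  · exact (hone u (hN (lay_antitone h haN hu)) v (lay_le h b hv)).1
  have hd0 : 1 ≤ d := by omega
  obtain ⟨a₀, rfl⟩ : ∃ a₀, a = a₀ + 2 := ⟨a - 2, by omega⟩
  have K : ∀ a' b', (a₀ + 2 + b < a' + b' ∨ (a₀ + 2 + b = a' + b' ∧ a' < a₀ + 2)) →
      ∀ u ∈ lay A Z B a', ∀ v ∈ lay A Z B b', ⁅u, v⁆ = 1 := by
    rintro a' b' (hlt | ⟨heq, hlt⟩)
    · exact ihd (d - 1) (by omega) a' b' (by omega) (by omega)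
    · exact iha a' hlt b' (by omega) (by omega)
  have hH : lay A Z B (a₀ + 2) ≤ A ⊓ Subgroup.centralizer (lay A Z B b : Set G) := by
    refine lay_two_le h (le_inf h.hd.zle fun z hz => Subgroup.mem_centralizer_iff.mpr fun t ht =>
      (h.zc hz (lay_le h b ht)).symm) inf_le_left fun u hu x hx y hy => ?_
    have huA := lay_le h a₀ hu
    refine Subgroup.mem_inf.mpr ⟨h.dA y (h.dA x huA), Subgroup.mem_centralizer_iff.mpr fun v hv => ?_⟩
    refine (commutatorElement_eq_one_iff_commute.mp ?_).symm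
    have hvA := lay_le h b hv
    have expand : ∀ x : G, ∀ s ∈ A, ∀ t ∈ A,
        ⁅x, ⁅s, t⁆⁆ = ⁅⁅x, s⁆, ⁅x, t⁆⁆ * ⁅⁅x, s⁆, t⁆ * ⁅s, ⁅x, t⁆⁆ := by
      intro x s hs t ht
      have hxs := h.dA x hs
      have hxt := h.dA x ht
      have hr : ∀ r ∈ A, ⁅r, ⁅x, t⁆ * t⁆ = ⁅r, ⁅x, t⁆⁆ * ⁅r, t⁆ := fun r hr => by
        rw [comm_mul_right, (h.zc (h.aa hr ht) hxt).symm.eq, mul_inv_cancel_right]
      have e : x * ⁅s, t⁆ * x⁻¹ = ⁅⁅x, s⁆ * s, ⁅x, t⁆ * t⁆ := by
        have h1 := map_commutatorElement (MulAut.conj x).toMonoidHom s t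
        simp only [MulEquiv.coe_toMonoidHom, MulAut.conj_apply] at h1
        rw [h1, conj_eq_comm_mul, conj_eq_comm_mul]
      rw [comm_mul_left, (h.zc (h.aa hs (A.mul_mem hxt ht)) hxs).symm.eq, mul_inv_cancel_right,
        (h.zc (h.aa hs (A.mul_mem hxt ht)) (h.hd.zle (h.aa hxs (A.mul_mem hxt ht)))).eq,
        hr _ hxs, hr _ hs, ← mul_assoc] at e
      show x * ⁅s, t⁆ * x⁻¹ * ⁅s, t⁆⁻¹ = _
      rw [e, mul_inv_cancel_right]
    have e1 := expand x u huA v hvA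
    have hZ1 := h.aa (h.dA x huA) (h.dA x hvA)
    have hZ2 := h.aa (h.dA x huA) hvA
    have hZ3 := h.aa huA (h.dA x hvA)
    have e2 := h.dquad huA hvA x hx y hy
    rw [e1, h.hom y (Z.mul_mem hZ1 hZ2) hZ3, h.hom y hZ1 hZ2, expand y _ (h.dA x huA) _ (h.dA x hvA),
      expand y _ (h.dA x huA) _ hvA, expand y _ huA _ (h.dA x hvA)] at e2
    have mu := comm_mem_lay (k := a₀) hx hu
    have mv := comm_mem_lay (k := b) hx hv
    have nu := comm_mem_lay (k := a₀) hy hu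
    have nv := comm_mem_lay (k := b) hy hv
    have mmu := comm_mem_lay hy mu
    have mmv := comm_mem_lay hy mv
    rw [K (a₀ + 1 + 1) (b + 1 + 1) (by omega) _ mmu _ mmv, K (a₀ + 1 + 1) (b + 1) (by omega) _ mmu _ mv,
      K (a₀ + 1) (b + 1 + 1) (by omega) _ mu _ mmv, K (a₀ + 1 + 1) (b + 1) (by omega) _ mmu _ nv,
      K (a₀ + 1) (b + 1) (by omega) _ mu _ nv, K (a₀ + 1) (b + 1 + 1) (by omega) _ nu _ mmv,
      K (a₀ + 1) (b + 1) (by omega) _ nu _ mv, K a₀ (b + 1 + 1) (by omega) _ hu _ mmv] at e2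
    simpa using e2
  exact commutatorElement_eq_one_iff_commute.mpr
    (Subgroup.mem_centralizer_iff.mp (Subgroup.mem_inf.mp (hH hu)).2 v hv).symm

theorem cw_abelian_of_lay (h : JData p S A Z B) {N k : ℕ} (hN : lay A Z B N ≤ Z)
    (hk : N + 1 ≤ (k + 1) + (k + 1)) {u : G} (hu : u ∈ lay A Z B k) :
    IsMulCommutative (commWith B u) :=
  PLocal.isMulCommutative_of_le
    (⟨⟨fun a b => Subtype.ext (commutatorElement_eq_one_iff_commute.mp
      (lay_commute h hN _ _ hk _ a.2 _ b.2))⟩⟩ : IsMulCommutative (lay A Z B (k + 1)))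
    (commWith_le fun _ hb => comm_mem_lay hb hu)

/-- If `B` is not quadratic on `Z` then `A / Z` has length four. -/
theorem lay_four_le (h : JData p S A Z B)
    (hnq : ∃ z ∈ Z, ∃ b ∈ B, ∃ c ∈ B, ⁅c, ⁅b, z⁆⁆ ≠ 1) : lay A Z B 4 ≤ Z := by
  obtain ⟨z₀, hz₀, b₀, hb₀, c₀, hc₀, hne⟩ := hnq
  obtain ⟨V, hVZ, hVmem, hVt⟩ := h.exists_tight
  set C := B ⊓ Subgroup.centralizer (V : Set G) with hC
  have hCQ : C ≤ pCore p G := by
    have h1 : B ⊓ Subgroup.centralizer (commWith B z₀ : Set G) ≤ pCore p G := by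
      by_contra h1
      exact hne (h.quad_of_notQ hz₀ h1 b₀ hb₀ c₀ hc₀)
    exact (inf_le_inf_left B (centralizer_le (commWith_le fun b hb => hVmem z₀ hz₀ b hb))).trans h1
  let H : Subgroup G := A ⊓ Subgroup.centralizer (C : Set G)
  have hHD : ∀ t ∈ A, ∀ s ∈ A, ⁅t, s⁆ ∈ H := fun t ht s hs => Subgroup.mem_inf.mpr
    ⟨h.hd.zle (h.aa ht hs), Subgroup.mem_centralizer_iff.mpr fun q hq => h.comm_fixed (hCQ hq) ht hs⟩
  have hVH : ∀ z ∈ Z, ∀ y ∈ B, ⁅y, z⁆ ∈ H := fun z hz y hy => Subgroup.mem_inf.mpr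
    ⟨h.dA y (h.hd.zle hz), Subgroup.mem_centralizer_iff.mpr fun q hq =>
      (Subgroup.mem_centralizer_iff.mp (Subgroup.mem_inf.mp hq).2 _ (hVmem z hz y hy)).symm⟩
  let P := pull h H inf_le_left hHD
  have hZP : Z ≤ P := fun z hz => ⟨h.hd.zle hz, hVH z hz⟩
  let PP := pull h P (fun t ht => ht.1) (fun t ht s hs => hZP (h.aa ht hs))
  have h2 : lay A Z B 2 ≤ P := by
    have h1 : lay A Z B 1 ≤ PP := by
      refine lay_succ_le (fun z hz => ⟨h.hd.zle hz, fun y _ => hZP (h.dZ y hz)⟩) fun w hw e he => ?_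
      have hew := h.dA e hw
      refine ⟨hew, fun a ha => ⟨h.dA a hew, fun b hb => Subgroup.mem_inf.mpr
        ⟨h.dA b (h.dA a hew), Subgroup.mem_centralizer_iff.mpr fun q hq => ?_⟩⟩⟩
      obtain ⟨hqB, hqV⟩ := Subgroup.mem_inf.mp hq
      have hqQ := hCQ hq
      refine commutatorElement_eq_one_iff_commute.mp ?_
      have hz := h.qA hqQ hw
      rw [h.swapQ hqB hqQ hb (h.dA a hew), h.swapQ hqB hqQ ha hew, h.swapQ hqB hqQ he hw]
      rcases h.cubic_or hz ha he with h3 | ⟨d, hd, hdQ, h3⟩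
      · exact h3 b hb
      · have hdw := h.qA hdQ hw
        rw [h3 b hb, h.swapQ hd hdQ hqB hw, ← h.swapQ hqB hqQ hb (h.hd.zle hdw),
          commutatorElement_eq_one_iff_commute]
        exact (Subgroup.mem_centralizer_iff.mp hqV _ (hVmem _ hdw b hb)).symm
    exact lay_succ_le hZP fun t ht y hy => (h1 ht).2 y hy
  suffices key : ∀ N, lay A Z B N ≤ Z → lay A Z B 4 ≤ Z by
    obtain ⟨N, hN⟩ := exists_lay_le h
    exact key N hN
  intro N
  induction N using Nat.strong_induction_on with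
  | h N ih =>
  intro hN
  by_cases hN4 : N ≤ 4
  · exact (lay_antitone h hN4).trans hN
  refine ih (N / 2 + 2) (by omega) (lay_two_le h le_rfl h.hd.zle fun u hu x hx y hy => ?_)
  have huA := lay_le h _ hu
  have hab := cw_abelian_of_lay h hN (by omega) hu
  have hu2 := h2 (lay_antitone h (show 2 ≤ N / 2 by omega) hu)
  have hcw : C ≤ Subgroup.centralizer (commWith B u : Set G) :=
    le_centralizer_iff.mp (commWith_le fun b hb => (Subgroup.mem_inf.mp (hu2.2 b hb)).2)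
  have hVW : IsMulCommutative ↥(V ⊔ commWith B u) := LocalEvenBasic.isMulCommutative_sup
    (PLocal.isMulCommutative_of_le h.zab hVZ) hab fun v hv => Subgroup.mem_centralizer_iff.mpr
      fun t ht => (h.zc (hVZ hv) (h.cw_le_A huA ht)).symm
  have hX : IsMulCommutative ↥((V ⊔ commWith B u) ⊔ C) := LocalEvenBasic.isMulCommutative_sup hVW
    (PLocal.isMulCommutative_of_le h.Bab inf_le_left)
    (le_centralizer_iff.mp (by rw [PLocal.centralizer_sup]; exact le_inf inf_le_right hcw))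
  have heq : V ⊔ C = (V ⊔ commWith B u) ⊔ C := eq_of_le_of_card_ge (sup_le_sup_right le_sup_left C)
    ((h.Bmax _ (sup_le (sup_le (hVZ.trans h.ZS) ((h.cw_le_A huA).trans h.AS))
      (inf_le_left.trans h.BS)) hX).trans hVt)
  obtain ⟨c, -, m, hm, -, he⟩ := exists_conj_comm h.Bab inf_le_left inf_le_right
    (heq ▸ mem_sup_left (mem_sup_right (comm_mem_commWith hx)) : ⁅x, u⁆ ∈ V ⊔ C)
  rw [he y hy]
  exact h.hd.znormal.conj_mem _ (h.dZ y (hVZ hm)) c

/-- If `B` is quadratic on `Z` then `A / Z` has length five. -/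
theorem lay_five_le (h : JData p S A Z B)
    (hq : ∀ z ∈ Z, ∀ b ∈ B, ∀ c ∈ B, ⁅c, ⁅b, z⁆⁆ = 1) : lay A Z B 5 ≤ Z := by
  let H : Subgroup G := A ⊓ Subgroup.centralizer ((B ⊓ pCore p G : Subgroup G) : Set G)
  have hHD : ∀ t ∈ A, ∀ s ∈ A, ⁅t, s⁆ ∈ H := fun t ht s hs => Subgroup.mem_inf.mpr
    ⟨h.hd.zle (h.aa ht hs), Subgroup.mem_centralizer_iff.mpr fun q hq => h.comm_fixed hq.2 ht hs⟩
  let P := pull h H inf_le_left hHD
  have hZP : Z ≤ P := fun z hz => ⟨h.hd.zle hz, fun y hy => Subgroup.mem_inf.mpr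
    ⟨h.dA y (h.hd.zle hz), Subgroup.mem_centralizer_iff.mpr fun q hq' =>
      commutatorElement_eq_one_iff_commute.mp (hq z hz y hy q hq'.1)⟩⟩
  have h1 : lay A Z B 1 ≤ P := by
    refine lay_succ_le hZP fun w hw e he => ⟨h.dA e hw, fun a ha => Subgroup.mem_inf.mpr
      ⟨h.dA a (h.dA e hw), Subgroup.mem_centralizer_iff.mpr fun q hq' => ?_⟩⟩
    refine commutatorElement_eq_one_iff_commute.mp ?_
    rw [h.swapQ hq'.1 hq'.2 ha (h.dA e hw), h.swapQ hq'.1 hq'.2 he hw]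
    exact hq _ (h.qA hq'.2 hw) e he a ha
  suffices key : ∀ N, lay A Z B N ≤ Z → lay A Z B 5 ≤ Z by
    obtain ⟨N, hN⟩ := exists_lay_le h
    exact key N hN
  intro N
  induction N using Nat.strong_induction_on with
  | h N ih =>
  intro hN
  by_cases hN5 : N ≤ 5
  · exact (lay_antitone h hN5).trans hN
  obtain ⟨k, hk⟩ : ∃ k, k + 1 = (N + 1) / 2 := ⟨(N + 1) / 2 - 1, by omega⟩
  let P₀ := pull h Z h.hd.zle (fun t ht s hs => h.aa ht hs)
  have hZP₀ : Z ≤ P₀ := fun z hz => ⟨h.hd.zle hz, fun y _ => h.dZ y hz⟩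
  let P₁ := pull h P₀ (fun t ht => ht.1) (fun t ht s hs => hZP₀ (h.aa ht hs))
  have hlay : lay A Z B (k + 1) ≤ P₁ := by
    refine lay_succ_le (fun z hz => ⟨h.hd.zle hz, fun y _ => hZP₀ (h.dZ y hz)⟩) fun u hu a ha => ?_
    have huA := lay_le h k hu
    have hyA := h.dA a huA
    have hyL := comm_mem_lay ha hu
    suffices hgoal : ∀ b ∈ B, ∀ c ∈ B, ⁅c, ⁅b, ⁅a, u⁆⁆⁆ ∈ Z from
      ⟨hyA, fun b hb => ⟨h.dA b hyA, fun c hc => hgoal b hb c hc⟩⟩
    have hab := cw_abelian_of_lay h hN (by omega) hyL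
    have hu1 := h1 (lay_antitone h (show 1 ≤ k by omega) hu)
    have hyc := (Subgroup.mem_inf.mp (hu1.2 a ha)).2
    have hcomm : zpowers ⁅a, u⁆ ≤ Subgroup.centralizer (commWith B ⁅a, u⁆ : Set G) := by
      refine zpowers_le.mpr (Subgroup.mem_centralizer_iff.mpr fun m hm => ?_)
      exact (commutatorElement_eq_one_iff_commute.mp (lay_commute h hN (k + 1) (k + 2) (by omega) _
        hyL m ((commWith_le fun b hb => comm_mem_lay hb hyL : commWith B ⁅a, u⁆ ≤ lay A Z B (k + 2))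
          hm))).symm
    refine h.comm_mem_Z_of_notQ hyA hab (h.notQ_of_squeeze hyA hab
      (V := zpowers ⁅a, u⁆ ⊔ commWith B ⁅a, u⁆)
      (sup_le (zpowers_le.mpr (h.AS hyA)) ((h.cw_le_A hyA).trans h.AS))
      (LocalEvenBasic.isMulCommutative_sup (PLocal.isMulCommutative_zpowers _) hab hcomm)
      (mem_sup_left (mem_zpowers _)) le_sup_right fun hQ => ?_)
    rw [PLocal.centralizer_sup]
    refine le_inf (fun q hq' => ?_) inf_le_right
    refine Subgroup.mem_centralizer_iff.mpr ?_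
    rintro _ ⟨i, rfl⟩
    have h3 : Commute q ⁅a, u⁆ :=
      Subgroup.mem_centralizer_iff.mp hyc q (Subgroup.mem_inf.mpr ⟨hq'.1, hQ hq'⟩)
    exact (h3.zpow_right i).eq.symm
  refine ih (k + 1 + 2) (by omega) (lay_two_le h le_rfl h.hd.zle fun u hu x hx y hy => ?_)
  exact ((hlay hu).2 x hx).2 y hy

/-- The Engel element. -/
theorem exists_sixEngelElt {S : Subgroup G} (hS : IsSylowIn p S ⊤)
    (hJ : ¬ (thompsonSubgroupAOf S).Normal) :
    ∃ g : G, g ∈ S ∧ g ∉ pCore p G ∧ ∀ U V : Subgroup G, IsChiefFactor U V → U ≤ pCore p G →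
      ∀ u ∈ U, (fun y => ⁅g, y⁆)^[6] u ∈ V := by
  classical
  obtain ⟨A, hd, hcen⟩ := exists_criticalData (G := G) (p := p)
  have hQS := pCore_le_isSylowIn hS
  obtain ⟨X₀, hX₀, hX₀Q⟩ : ∃ X ∈ PLocal.maxAbIn S, ¬ X ≤ pCore p G := by
    by_contra hcon
    push Not at hcon
    refine hJ ?_
    have hle : thompsonSubgroupAOf S ≤ pCore p G := by
      rw [PLocal.thompsonSubgroupAOf_eq]; exact sSup_le hcon
    rw [← PLocal.thompsonSubgroupAOf_eq_of_le hQS hle]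
    exact normalizer_eq_top_iff.mp (eq_top_iff.mpr ((normalizer_eq_top_iff.mpr
      (inferInstance : (pCore p G).Normal)).ge.trans
        (PLocal.normalizer_le_normalizer_thompsonSubgroupAOf _)))
  obtain ⟨B, ⟨hBm, hBQ⟩, hchoice⟩ := Set.exists_max_image
    {X : Subgroup G | X ∈ PLocal.maxAbIn S ∧ ¬ X ≤ pCore p G}
    (fun X => Nat.card ↥(X ⊓ A)) (Set.toFinite _) ⟨X₀, hX₀, hX₀Q⟩
  set Z := A ⊓ Subgroup.centralizer (A : Set G) with hZdef
  have h : JData p S A Z B := ⟨hd, hS.2.1, hQS, hBm.1, hBm.2.1, hBm.2.2, hBQ,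
    fun X hX hXa hcard hXQ => hchoice X ⟨⟨hX, hXa, fun Y hY hYa => (hBm.2.2 Y hY hYa).trans hcard⟩, hXQ⟩⟩
  obtain ⟨g, hgB, hgQ⟩ := SetLike.not_le_iff_exists.mp hBQ
  refine ⟨g, h.BS hgB, hgQ, ?_⟩
  have hAn := hd.normal
  have hZn := hd.znormal
  have hQp := PLocal.isPGroup_pCore p G
  -- lifting to the chief factors
  have lift : ∀ i j : ℕ, 1 ≤ j → j ≤ i → i + j - 1 = 6 → lay A Z B i ≤ Z →
      (∀ U V : Subgroup G, IsChiefFactor U V → U ≤ pCore p G → ∀ u ∈ U, u ∈ Z →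
        (fun y => ⁅g, y⁆)^[j] u ∈ V) →
      ∀ U V : Subgroup G, IsChiefFactor U V → U ≤ pCore p G →
        ∀ u ∈ U, (fun y => ⁅g, y⁆)^[6] u ∈ V := by
    intro i j hj hji hsum hlay hz U V hUV hU u hu
    rw [← hsum]
    refine engel_of_pairing hQp hd.le hd.zle hd.tcomm hd.zcent hcen g (hj.trans hji) hj ?_
      (fun U V hUV hUZ u hu => hz U V hUV (hUZ.trans (hd.zle.trans hd.le)) u hu (hUZ hu)) hUV hU hu
    intro U V hUV hUA u hu
    obtain ⟨hlt, hUn, hVn, hmin⟩ := hUV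
    rcases hmin ((U ⊓ Z) ⊔ V) inferInstance le_sup_right (sup_le inf_le_left hlt.le) with h' | h'
    · exact h' ▸ Subgroup.mem_sup_left (Subgroup.mem_inf.mpr
        ⟨iterate_commutator_mem g hu i, hlay (iterate_mem_lay hgB (hUA hu) i)⟩)
    · rw [← h'] at hu
      obtain ⟨z, hz', v, hv, rfl⟩ := mem_sup_of_normal_right.mp hu
      rw [← QuotientGroup.eq_one_iff, ← QuotientGroup.mk'_apply, map_iterate_commutator, map_mul,
        show (QuotientGroup.mk' V) v = 1 from (QuotientGroup.eq_one_iff v).mpr hv, mul_one,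
        ← map_iterate_commutator]
      refine (QuotientGroup.eq_one_iff _).mpr ?_
      obtain ⟨k, rfl⟩ := Nat.exists_eq_add_of_le hji
      rw [add_comm, Function.iterate_add_apply]
      exact iterate_commutator_mem g
        (hz U V ⟨hlt, hUn, hVn, hmin⟩ (hUA.trans hd.le) z hz'.1 hz'.2) k
  by_cases hq : ∀ z ∈ Z, ∀ b ∈ B, ∀ c ∈ B, ⁅c, ⁅b, z⁆⁆ = 1
  · refine lift 5 2 (by omega) (by omega) (by omega) (lay_five_le h hq) fun U V hUV _ u _ huZ => ?_
    show ⁅g, ⁅g, u⁆⁆ ∈ V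
    rw [hq u huZ g hgB g hgB]
    exact V.one_mem
  · push Not at hq
    refine lift 4 3 (by omega) (by omega) (by omega) (lay_four_le h hq) fun U V hUV hU u hu huZ => ?_
    show ⁅g, ⁅g, ⁅g, u⁆⁆⁆ ∈ V
    rcases h.cubic_or huZ hgB hgB with h3 | ⟨d, -, hdQ, h3⟩
    · rw [h3 g hgB]; exact V.one_mem
    · rw [h3 g hgB]
      have hVn := hUV.2.2.1
      have h4 := commutator_mem_of_chiefFactor hQp hUV hU hdQ hu
      exact V.mul_mem (hVn.conj_mem _ h4 g) (V.inv_mem h4)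

/-- `J` satisfies the good element condition for `p ≥ 7`. -/
theorem goodElement_thompsonA (hp : 7 ≤ p) (Y : Type u) [Group Y] [Finite Y] :
    GoodElement p (fun Q [Group Q] => thompsonSubgroupA Q) Y := by
  intro S hS hn
  obtain ⟨g, hg, hgQ, h6⟩ := exists_sixEngelElt hS hn
  refine ⟨g, hg, hgQ, fun U V hUV hU => ?_⟩
  have := hUV.2.1
  have := hUV.2.2.1
  have hab := (chiefFactor_elementary hUV ((PLocal.isPGroup_pCore p Y).to_le hU)).1
  exact (iterCommutator_le_iff hab g _).mpr fun u hu =>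
    iterate_commutator_mem_of_le' (by omega) (h6 U V hUV hU u hu)
where
  iterate_commutator_mem_of_le' {Y : Type u} [Group Y] {V : Subgroup Y} [V.Normal] {g u : Y}
      {m n : ℕ} (hmn : m ≤ n) (h : (fun y => ⁅g, y⁆)^[m] u ∈ V) :
      (fun y => ⁅g, y⁆)^[n] u ∈ V := by
    obtain ⟨d, rfl⟩ := Nat.exists_eq_add_of_le hmn
    rw [add_comm, Function.iterate_add_apply]
    exact iterate_commutator_mem g h d

theorem isCharPFunctor_thompsonA :
    IsCharPFunctor.{u} p fun Q [Group Q] => thompsonSubgroupA Q := by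
  refine ⟨fun Q _ _ _ hne hbot => ?_, fun Q R _ _ _ _ φ => ?_⟩
  · obtain ⟨x, hx⟩ := exists_ne (1 : Q)
    obtain ⟨X, hX⟩ := PLocal.maxAbIn_nonempty (⊤ : Subgroup Q)
    have h1 : X ≤ thompsonSubgroupA Q := by
      rw [← PLocal.thompsonSubgroupAOf_top]; exact PLocal.le_thompsonSubgroupAOf hX
    have h1' : X ≤ ⊥ := hbot ▸ h1
    rw [le_bot_iff] at h1'
    have h2 := hX.2.2 (zpowers x) le_top (PLocal.isMulCommutative_zpowers x)
    rw [h1', Subgroup.card_bot, Nat.card_zpowers] at h2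
    have := orderOf_pos x
    exact hx (orderOf_eq_one_iff.mp (by omega))
  · show (thompsonSubgroupA Q).map φ.toMonoidHom = thompsonSubgroupA R
    rw [← PLocal.thompsonSubgroupAOf_top, ← PLocal.thompsonSubgroupAOf_top,
      PLocal.map_thompsonSubgroupAOf (f := φ.toMonoidHom) φ.injective,
      Subgroup.map_top_of_surjective _ φ.surjective]

end CfsgLib.ConjFunctor.JEngel
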