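import Cfsg.Agent.ConjFunctor.Basic
import Cfsg.Agent.Solvable.Nilpotent
import Cfsg.Prelude.Def_ConjugacyFunctors

/-!
The K-sequence and the K-infinity subgroups: monotonicity, maximal members, normal abelian
subgroups, and invariance under passing to a subgroup containing the sequence.
-/

set_option autoImplicit false

namespace CfsgLib.ConjFunctor

open Cfsg Subgroup
open scoped commutatorElement

variable {P : Type*} [Group P]

theorem kUpperStar_anti {Q R : Subgroup P} (h : Q ≤ R) : kUpperStarFamily R ⊆ kUpperStarFamily Q :=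
  fun _ hB => ⟨hB.1, (commutator_mono le_rfl h).trans hB.2⟩

theorem kLowerStar_anti {Q R : Subgroup P} (h : Q ≤ R) : kLowerStarFamily R ⊆ kLowerStarFamily Q :=
  fun _ hB => ⟨hB.1, h.trans hB.2.1, fun A hA hAQ => hB.2.2 A hA (hAQ.trans h)⟩

theorem kSeqOdd_succ (n : ℕ) : kSeqOdd P (n + 1) = sSup (kUpperStarFamily (kSeqEven P n)) := rfl

theorem kSeqOdd_succ_le : ∀ n, kSeqOdd P (n + 1) ≤ kSeqOdd P n
  | 0 => le_top
  | n + 1 => by
    rw [kSeqOdd_succ, kSeqOdd_succ]
    exact sSup_le_sSup (kUpperStar_anti (sSup_le_sSup (kLowerStar_anti (kSeqOdd_succ_le n))))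

theorem kSeqOdd_antitone : Antitone (kSeqOdd P) := antitone_nat_of_succ_le kSeqOdd_succ_le

theorem kSeqEven_monotone : Monotone (kSeqEven P) := fun _ _ h =>
  sSup_le_sSup (kLowerStar_anti (kSeqOdd_antitone h))

theorem le_kSeqEven {B : Subgroup P} {n : ℕ} (h : B ∈ kLowerStarFamily (kSeqOdd P n)) :
    B ≤ kSeqEven P n :=
  le_sSup h

theorem le_kSeqOdd {B : Subgroup P} {n : ℕ} (h : B ∈ kUpperStarFamily (kSeqEven P n)) :
    B ≤ kSeqOdd P (n + 1) :=
  le_sSup h

theorem exists_kSeq_stable [Finite P] : ∃ n : ℕ, ∀ m : ℕ, n ≤ m →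
    kSeqEven P m = kInfLower P ∧ kSeqOdd P m = kInfUpper P := by
  obtain ⟨a, ha⟩ := WellFoundedGT.monotone_chain_condition
    (⟨kSeqEven P, kSeqEven_monotone⟩ : ℕ →o Subgroup P)
  obtain ⟨b, hb⟩ := WellFoundedGT.monotone_chain_condition
    (⟨fun n => OrderDual.toDual (kSeqOdd P n), kSeqOdd_antitone⟩ : ℕ →o (Subgroup P)ᵒᵈ)
  refine ⟨max a b, fun m hm => ⟨le_antisymm (le_iSup (kSeqEven P) m) (iSup_le fun k => ?_),
    le_antisymm (le_iInf fun k => ?_) (iInf_le (kSeqOdd P) m)⟩⟩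
  · rcases le_total k m with h | h
    · exact kSeqEven_monotone h
    · exact (((ha m (by omega)).symm.trans (ha k (by omega)))).ge
  · rcases le_total k m with h | h
    · exact kSeqOdd_antitone h
    · exact (congrArg OrderDual.ofDual ((hb m (by omega)).symm.trans (hb k (by omega)))).le

theorem abelian_normal_mem {A : Subgroup P} [A.Normal] (hA : IsMulCommutative A) (Q : Subgroup P) :
    A ∈ classTwoSubgroups P ∧ A ∈ kLowerStarFamily Q ∧ A ∈ kUpperStarFamily Q := by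
  have hAC : A ≤ Subgroup.centralizer (A : Set P) := le_centralizer_iff_isMulCommutative.mpr hA
  have h2 : A ∈ classTwoSubgroups P := (commutator_le_self A).trans hAC
  have hle : ∀ R : Subgroup P, ⁅A, R⁆ ≤ A ⊓ Subgroup.centralizer (A : Set P) := fun R =>
    le_inf (commutator_le_left A R) ((commutator_le_left A R).trans hAC)
  exact ⟨h2, ⟨h2, by rw [normalizer_eq_top (H := A)]; exact le_top, fun B _ _ _ _ _ => hle B⟩,
    h2, hle Q⟩

theorem kInf_eq_top [Finite P]
    (hgen : ⨆ A ∈ {A : Subgroup P | A.Normal ∧ IsMulCommutative ↥A}, A = ⊤) :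
    kInfLower P = ⊤ ∧ kInfUpper P = ⊤ := by
  constructor
  · refine eq_top_iff.mpr (hgen ▸ iSup₂_le fun A hA => ?_)
    have := hA.1
    exact (le_kSeqEven (abelian_normal_mem hA.2 _).2.1).trans (le_iSup (kSeqEven P) 0)
  · refine eq_top_iff.mpr (le_iInf fun n => ?_)
    cases n with
    | zero => exact le_top
    | succ n =>
      refine hgen ▸ iSup₂_le fun A hA => ?_
      have := hA.1
      exact le_kSeqOdd (abelian_normal_mem hA.2 _).2.2

/-- A class-two subgroup not containing its centraliser can be enlarged inside every family. -/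
theorem exists_enlargement [Finite P] [Group.IsNilpotent P] {B : Subgroup P}
    (hB : B ∈ classTwoSubgroups P) (hnot : ¬ Subgroup.centralizer (B : Set P) ≤ B) :
    ∃ B' : Subgroup P, B < B' ∧ B' ∈ classTwoSubgroups P ∧
      Subgroup.normalizer (B : Set P) ≤ Subgroup.normalizer (B' : Set P) ∧
      B ⊓ Subgroup.centralizer (B : Set P) ≤ B' ⊓ Subgroup.centralizer (B' : Set P) ∧
      ∀ R : Subgroup P, R ≤ Subgroup.normalizer (B : Set P) →
        ⁅B, R⁆ ≤ B ⊓ Subgroup.centralizer (B : Set P) →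
          ⁅B', R⁆ ≤ B ⊓ Subgroup.centralizer (B : Set P) := by
  let C : Subgroup P := Subgroup.centralizer (B : Set P)
  let N : Subgroup P := Subgroup.normalizer (B : Set P)
  have hCN : C ≤ N := centralizer_le_normalizer _
  have hBC : ∀ b ∈ B, ∀ c ∈ C, Commute b c := fun b hb c hc =>
    Subgroup.mem_centralizer_iff.mp hc b hb
  have hCn : ∀ n ∈ N, ∀ c ∈ C, n * c * n⁻¹ ∈ C := by
    intro n hn c hc
    rw [Subgroup.mem_centralizer_iff]
    intro b hb
    have h1 := (hBC _ ((mem_normalizer_iff.mp (N.inv_mem hn) b).mp hb) c hc).map (MulAut.conj n)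
    simpa [mul_assoc] using h1.eq
  -- the elements of `C` central modulo `B`
  let K : Subgroup P :=
    { carrier := {c | c ∈ C ∧ ∀ n ∈ N, n * c * n⁻¹ * c⁻¹ ∈ B}
      one_mem' := ⟨C.one_mem, fun n _ => by simp [B.one_mem]⟩
      mul_mem' := fun {a b} ha hb => ⟨C.mul_mem ha.1 hb.1, fun n hn => by
        have hd := hb.2 n hn
        have hda := (hBC _ hd a ha.1).eq
        have h1 := B.mul_mem (ha.2 n hn) hd
        have e : n * a * n⁻¹ * a⁻¹ * (n * b * n⁻¹ * b⁻¹) = n * (a * b) * n⁻¹ * (a * b)⁻¹ := by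
          calc n * a * n⁻¹ * a⁻¹ * (n * b * n⁻¹ * b⁻¹)
              = n * a * n⁻¹ * a⁻¹ * ((n * b * n⁻¹ * b⁻¹) * a) * a⁻¹ := by group
            _ = n * a * n⁻¹ * a⁻¹ * (a * (n * b * n⁻¹ * b⁻¹)) * a⁻¹ := by rw [hda]
            _ = n * (a * b) * n⁻¹ * (a * b)⁻¹ := by group
        rwa [← e]⟩
      inv_mem' := fun {a} ha => ⟨C.inv_mem ha.1, fun n hn => by
        have hd := ha.2 n hn
        have e : (n * a * n⁻¹ * a⁻¹)⁻¹ = n * a⁻¹ * n⁻¹ * a⁻¹⁻¹ := by
          calc (n * a * n⁻¹ * a⁻¹)⁻¹ = a⁻¹ * (a * (n * a * n⁻¹ * a⁻¹)⁻¹) := by group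
            _ = a⁻¹ * ((n * a * n⁻¹ * a⁻¹)⁻¹ * a) := by rw [((hBC _ (B.inv_mem hd) a ha.1)).eq]
            _ = _ := by group
        rw [← e]; exact B.inv_mem hd⟩ }
  have hKB : ¬ K ≤ B := by
    intro hKB
    let f := QuotientGroup.mk' (B.subgroupOf N)
    let Cb := (C.subgroupOf N).map f
    have : (C.subgroupOf N).Normal := normal_subgroupOf_of_le_normalizer fun n hn =>
      mem_normalizer_of_forall_conj_mem fun c hc => hCn n hn c hc
    have : Cb.Normal := Subgroup.Normal.map ‹_› f (QuotientGroup.mk'_surjective _)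
    have hne : Cb ≠ ⊥ := fun h => hnot fun c hc => by
      rw [Subgroup.map_eq_bot_iff, QuotientGroup.ker_mk'] at h
      exact @h ⟨c, hCN hc⟩ hc
    refine Solvable.inf_center_ne_bot hne (eq_bot_iff.mpr ?_)
    rintro _ ⟨⟨c, hc, rfl⟩, hz⟩
    have hcK : (c : P) ∈ K := ⟨hc, fun n hn => by
      have h1 := Subgroup.mem_center_iff.mp hz (f ⟨n, hn⟩)
      have h2 : f (⟨n, hn⟩ * c * (⟨n, hn⟩)⁻¹ * c⁻¹) = 1 := by
        simp only [map_mul, map_inv]
        rw [h1]
        group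
      exact mem_subgroupOf.mp ((QuotientGroup.eq_one_iff _).mp h2)⟩
    rw [mem_bot]
    exact (QuotientGroup.eq_one_iff c).mpr (mem_subgroupOf.mpr (hKB hcK))
  have hKC : K ≤ C := fun k hk => hk.1
  have hKN : K ≤ N := hKC.trans hCN
  have hKconj : ∀ n ∈ N, ∀ k ∈ K, ⁅k, n⁆ ∈ B ⊓ C := by
    intro n hn k hk
    rw [← commutatorElement_inv]
    refine Subgroup.inv_mem _ (Subgroup.mem_inf.mpr ⟨hk.2 n hn, ?_⟩)
    exact C.mul_mem (hCn n hn k hk.1) (C.inv_mem hk.1)
  let B' : Subgroup P := B ⊔ K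
  have hmem : ∀ x ∈ B', ∃ b ∈ B, ∃ k ∈ K, b * k = x := fun x hx => by
    rw [← SetLike.mem_coe, coe_mul_of_right_le_normalizer_left B K hKN] at hx
    exact Set.mem_mul.mp hx
  have hZ : B ⊓ C ≤ B' ⊓ Subgroup.centralizer (B' : Set P) := by
    intro z hz
    refine Subgroup.mem_inf.mpr ⟨Subgroup.mem_sup_left hz.1, ?_⟩
    rw [Subgroup.mem_centralizer_iff]
    intro x hx
    obtain ⟨b, hb, k, hk, rfl⟩ := hmem x hx
    exact ((hBC b hb z hz.2).mul_left (hBC z hz.1 k (hKC hk)).symm).eq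
  have hstep : ∀ R : Subgroup P, R ≤ N → ⁅B, R⁆ ≤ B ⊓ C → ⁅B', R⁆ ≤ B ⊓ C := by
    intro R hR hBR
    rw [commutator_le]
    intro x hx r hr
    obtain ⟨b, hb, k, hk, rfl⟩ := hmem x hx
    have h1 := hKconj r (hR hr) k hk
    have e : ⁅b * k, r⁆ = ⁅k, r⁆ * ⁅b, r⁆ := by
      calc ⁅b * k, r⁆ = b * ⁅k, r⁆ * b⁻¹ * ⁅b, r⁆ := by simp only [commutatorElement_def]; group
        _ = ⁅k, r⁆ * ⁅b, r⁆ := by rw [(hBC b hb _ h1.2).eq, mul_inv_cancel_right]
    rw [e]
    exact Subgroup.mul_mem _ h1 (hBR (commutator_mem_commutator hb hr))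
  have hB'N : B' ≤ N := sup_le le_normalizer hKN
  have hBB : ⁅B, B⁆ ≤ B ⊓ C := le_inf (commutator_le_self B) hB
  refine ⟨B', lt_of_le_of_ne le_sup_left fun h => hKB (h ▸ le_sup_right), ?_, ?_, hZ, hstep⟩
  · refine (hstep B' hB'N ?_).trans (hZ.trans inf_le_right)
    rw [commutator_comm]
    exact hstep B le_normalizer hBB
  · intro n hn
    refine mem_normalizer_of_forall_conj_mem fun x hx => ?_
    obtain ⟨b, hb, k, hk, rfl⟩ := hmem x hx
    rw [show n * (b * k) * n⁻¹ = (n * b * n⁻¹) * ((n * k * n⁻¹ * k⁻¹) * k) by group]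
    exact B'.mul_mem (Subgroup.mem_sup_left ((mem_normalizer_iff.mp hn b).mp hb))
      (B'.mul_mem (Subgroup.mem_sup_left (hk.2 n hn)) (Subgroup.mem_sup_right hk))

theorem centralizer_le_of_maximal [Finite P] [Group.IsNilpotent P] {B : Subgroup P}
    {𝒦 : Set (Subgroup P)} (h𝒦 : 𝒦 = classTwoSubgroups P ∨ (∃ Q, 𝒦 = kLowerStarFamily Q) ∨
      ∃ Q, 𝒦 = kUpperStarFamily Q)
    (hB : B ∈ 𝒦) (hmax : ∀ C ∈ 𝒦, B ≤ C → C = B) : Subgroup.centralizer (B : Set P) ≤ B := by
  by_contra hnot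
  have hB2 : B ∈ classTwoSubgroups P := by
    rcases h𝒦 with rfl | ⟨Q, rfl⟩ | ⟨Q, rfl⟩
    exacts [hB, hB.1, hB.1]
  obtain ⟨B', hlt, h2, hN, hZ, hstep⟩ := exists_enlargement hB2 hnot
  refine hlt.ne' (hmax B' ?_ hlt.le)
  rcases h𝒦 with rfl | ⟨Q, rfl⟩ | ⟨Q, rfl⟩
  · exact h2
  · refine ⟨h2, hB.2.1.trans hN, fun A hA hAQ hB'A h3 h4 => ?_⟩
    refine (hstep A (hAQ.trans hB.2.1) (hB.2.2 A hA hAQ (hlt.le.trans hB'A) ?_ ?_)).trans hZ
    · exact le_bot_iff.mp (h3 ▸ commutator_mono hlt.le le_rfl)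
    · exact le_bot_iff.mp (h4 ▸ commutator_mono (commutator_mono hZ le_rfl) le_rfl)
  · refine ⟨h2, (hstep Q ?_ hB.2).trans hZ⟩
    intro q hq
    refine mem_normalizer_of_forall_conj_mem fun b hb => ?_
    have h1 := B.mul_mem (B.inv_mem (hB.2 (commutator_mem_commutator hb hq)).1) hb
    simpa [commutatorElement_def, mul_assoc] using h1

theorem centralizer_sSup_le [Finite P] [Group.IsNilpotent P] {𝒦 : Set (Subgroup P)}
    (h𝒦 : (∃ Q, 𝒦 = kLowerStarFamily Q) ∨ ∃ Q, 𝒦 = kUpperStarFamily Q) :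
    Subgroup.centralizer ((sSup 𝒦 : Subgroup P) : Set P) ≤ sSup 𝒦 := by
  have hbot : (⊥ : Subgroup P) ∈ 𝒦 := by
    rcases h𝒦 with ⟨Q, rfl⟩ | ⟨Q, rfl⟩
    · exact (abelian_normal_mem inferInstance Q).2.1
    · exact (abelian_normal_mem inferInstance Q).2.2
  obtain ⟨B, -, hB⟩ := Finite.exists_le_maximal (p := fun B => B ∈ 𝒦) hbot
  refine (Subgroup.centralizer_le (le_sSup hB.prop : B ≤ sSup 𝒦)).trans ?_
  exact (centralizer_le_of_maximal (Or.inr h𝒦) hB.prop fun C hC h =>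
    le_antisymm (hB.le_of_ge hC h) h).trans (le_sSup hB.prop)

theorem centralizer_kInf_le [Finite P] [Group.IsNilpotent P] :
    Subgroup.centralizer (kInfLower P : Set P) ≤ kInfLower P ∧
      Subgroup.centralizer (kInfUpper P : Set P) ≤ kInfUpper P := by
  obtain ⟨n, hn⟩ := exists_kSeq_stable (P := P)
  rw [← (hn n le_rfl).1, ← (hn (n + 1) (by omega)).2]
  exact ⟨centralizer_sSup_le (Or.inl ⟨_, rfl⟩), centralizer_sSup_le (Or.inr ⟨_, rfl⟩)⟩

/-! ### Passing to a subgroup -/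

section
variable {H : Type*} [Group H] (i : H →* P) (hi : Function.Injective i)
include hi

theorem map_center_eq (B : Subgroup H) :
    (B ⊓ Subgroup.centralizer (B : Set H)).map i =
      B.map i ⊓ Subgroup.centralizer ((B.map i : Subgroup P) : Set P) := by
  ext x
  constructor
  · rintro ⟨y, hy, rfl⟩
    refine Subgroup.mem_inf.mpr ⟨mem_map_of_mem i hy.1, ?_⟩
    rw [Subgroup.mem_centralizer_iff]
    rintro _ ⟨z, hz, rfl⟩
    rw [← map_mul, ← map_mul, Subgroup.mem_centralizer_iff.mp hy.2 z hz]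
  · rintro ⟨⟨y, hy, rfl⟩, hx⟩
    refine ⟨y, ⟨hy, Subgroup.mem_centralizer_iff.mpr fun z hz => hi ?_⟩, rfl⟩
    rw [map_mul, map_mul]
    exact Subgroup.mem_centralizer_iff.mp hx (i z) (mem_map_of_mem i hz)

theorem map_mem_classTwo {B : Subgroup H} :
    B.map i ∈ classTwoSubgroups P ↔ B ∈ classTwoSubgroups H := by
  constructor
  · intro h
    have h' : ⁅B.map i, B.map i⁆ ≤ B.map i ⊓ Subgroup.centralizer ((B.map i : Subgroup P) : Set P) :=
      le_inf (commutator_le_self _) h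
    rw [← map_commutator, ← map_center_eq i hi, map_le_map_iff_of_injective hi] at h'
    exact h'.trans inf_le_right
  · intro h
    refine le_trans ?_ inf_le_right (b := B.map i ⊓ _)
    rw [← map_commutator, ← map_center_eq i hi]
    exact map_mono (le_inf (commutator_le_self B) h)

theorem map_le_normalizer_iff {B R : Subgroup H} :
    R.map i ≤ Subgroup.normalizer (B.map i : Set P) ↔ R ≤ Subgroup.normalizer (B : Set H) := by
  refine ⟨fun h r hr => ?_, fun h => (map_mono h).trans (le_normalizer_map i)⟩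
  have h1 := mem_normalizer_iff.mp (h (mem_map_of_mem i hr))
  rw [mem_normalizer_iff]
  intro b
  have h2 := h1 (i b)
  rwa [← map_inv, ← map_mul, ← map_mul, mem_map_iff_mem hi, mem_map_iff_mem hi] at h2

theorem map_mem_kUpperStar {B R : Subgroup H} :
    B.map i ∈ kUpperStarFamily (R.map i) ↔ B ∈ kUpperStarFamily R := by
  show B.map i ∈ classTwoSubgroups P ∧ _ ↔ B ∈ classTwoSubgroups H ∧ _
  rw [map_mem_classTwo i hi, ← map_commutator, ← map_center_eq i hi, map_le_map_iff_of_injective hi]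

theorem map_mem_kLowerStar {B R : Subgroup H} :
    B.map i ∈ kLowerStarFamily (R.map i) ↔ B ∈ kLowerStarFamily R := by
  show B.map i ∈ classTwoSubgroups P ∧ _ ↔ B ∈ classTwoSubgroups H ∧ _
  rw [map_mem_classTwo i hi, map_le_normalizer_iff i hi]
  refine and_congr_right fun _ => and_congr_right fun _ => ⟨fun h A hA hAR hBA h3 h4 => ?_,
    fun h A' hA' hAR hBA h3 h4 => ?_⟩
  · have := h (A.map i) ((map_mem_classTwo i hi).mpr hA) (map_mono hAR)
      ((map_le_normalizer_iff i hi).mpr hBA)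
      (by rw [← map_commutator, ← map_commutator, h3, Subgroup.map_bot])
      (by rw [← map_center_eq i hi, ← map_commutator, ← map_commutator, h4, Subgroup.map_bot])
    rwa [← map_commutator, ← map_center_eq i hi, map_le_map_iff_of_injective hi] at this
  · obtain ⟨A, rfl⟩ : ∃ A : Subgroup H, A.map i = A' :=
      ⟨A'.comap i, map_comap_eq_self (hAR.trans (map_le_range i R))⟩
    rw [map_le_map_iff_of_injective hi] at hAR
    rw [map_le_normalizer_iff i hi] at hBA
    rw [← map_commutator, ← map_commutator, map_eq_bot_iff_of_injective _ hi] at h3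
    rw [← map_center_eq i hi, ← map_commutator, ← map_commutator,
      map_eq_bot_iff_of_injective _ hi] at h4
    rw [← map_commutator, ← map_center_eq i hi, map_le_map_iff_of_injective hi]
    exact h A ((map_mem_classTwo i hi).mp hA') hAR hBA h3 h4

theorem kSeq_interleave (hrange : ∀ n, kSeqEven P n ≤ i.range ∧ kSeqOdd P (n + 1) ≤ i.range) :
    ∀ n, kSeqOdd P (n + 1) ≤ (kSeqOdd H n).map i ∧ (kSeqOdd H n).map i ≤ kSeqOdd P n ∧
      kSeqEven P n ≤ (kSeqEven H n).map i ∧ (kSeqEven H n).map i ≤ kSeqEven P (n + 1) := by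
  have heven : ∀ n, kSeqOdd P (n + 1) ≤ (kSeqOdd H n).map i → (kSeqOdd H n).map i ≤ kSeqOdd P n →
      kSeqEven P n ≤ (kSeqEven H n).map i ∧ (kSeqEven H n).map i ≤ kSeqEven P (n + 1) := by
    intro n h1 h2
    constructor
    · refine sSup_le fun B hB => ?_
      obtain ⟨C, rfl⟩ : ∃ C : Subgroup H, C.map i = B :=
        ⟨B.comap i, map_comap_eq_self ((le_kSeqEven hB).trans (hrange n).1)⟩
      exact map_mono (le_kSeqEven ((map_mem_kLowerStar i hi).mp (kLowerStar_anti h2 hB)))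
    · rw [kSeqEven, sSup_eq_iSup, Subgroup.map_iSup]
      refine iSup_le fun B => ?_
      rw [Subgroup.map_iSup]
      refine iSup_le fun hB => ?_
      exact le_kSeqEven (kLowerStar_anti h1 ((map_mem_kLowerStar i hi).mpr hB))
  intro n
  induction n with
  | zero =>
    have h1 : kSeqOdd P 1 ≤ (kSeqOdd H 0).map i := by
      show _ ≤ (⊤ : Subgroup H).map i
      rw [← MonoidHom.range_eq_map]
      exact (hrange 0).2
    exact ⟨h1, le_top, heven 0 h1 le_top⟩
  | succ n ih =>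
    obtain ⟨-, -, h3, h4⟩ := ih
    have h1 : kSeqOdd P (n + 2) ≤ (kSeqOdd H (n + 1)).map i := by
      rw [kSeqOdd_succ]
      refine sSup_le fun B hB => ?_
      obtain ⟨C, rfl⟩ : ∃ C : Subgroup H, C.map i = B :=
        ⟨B.comap i, map_comap_eq_self ((le_kSeqOdd hB).trans (hrange (n + 1)).2)⟩
      exact map_mono (le_kSeqOdd ((map_mem_kUpperStar i hi).mp (kUpperStar_anti h4 hB)))
    have h2 : (kSeqOdd H (n + 1)).map i ≤ kSeqOdd P (n + 1) := by
      rw [kSeqOdd_succ, sSup_eq_iSup, Subgroup.map_iSup]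
      refine iSup_le fun B => ?_
      rw [Subgroup.map_iSup]
      refine iSup_le fun hB => ?_
      exact le_kSeqOdd (kUpperStar_anti h3 ((map_mem_kUpperStar i hi).mpr hB))
    exact ⟨h1, h2, heven (n + 1) h1 h2⟩

theorem kInf_map_eq [Finite P]
    (hrange : ∀ n, kSeqEven P n ≤ i.range ∧ kSeqOdd P (n + 1) ≤ i.range) :
    (⨆ n, kSeqEven H n).map i = ⨆ n, kSeqEven P n ∧
      (⨅ n, kSeqOdd H n).map i = ⨅ n, kSeqOdd P n := by
  have h := kSeq_interleave i hi hrange
  refine ⟨?_, ?_⟩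
  · rw [Subgroup.map_iSup]
    exact le_antisymm (iSup_le fun n => (h n).2.2.2.trans (le_iSup (kSeqEven P) (n + 1)))
      (iSup_mono fun n => (h n).2.2.1)
  · rw [Subgroup.map_iInf _ hi]
    exact le_antisymm (iInf_mono fun n => (h n).2.1)
      (le_iInf fun n => (iInf_le (kSeqOdd P) (n + 1)).trans (h n).1)

end

end CfsgLib.ConjFunctor
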