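import Mathlib.GroupTheory.SpecificGroups.KleinFour
import Mathlib.Algebra.Group.Conj

/-!
An involution with fixed-point-free action on the proper normal subgroups, with a four group all
of whose involutions are conjugate to it.
-/

set_option autoImplicit false

namespace CfsgLib.ConjFunctor

open Subgroup

variable {H : Type*} [Group H] [Finite H]

/-- An involution without fixed points on a finite normal subgroup inverts it. -/
theorem inverts_of_fixedPointFree {N : Subgroup H} [hN : N.Normal] {e : H} (he : e * e = 1)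
    (h : ∀ n ∈ N, e * n = n * e → n = 1) : ∀ n ∈ N, e * n * e⁻¹ = n⁻¹ := by
  let f : N → N := fun n => ⟨(n : H)⁻¹ * (e * n * e⁻¹), N.mul_mem (N.inv_mem n.2) (hN.conj_mem _ n.2 e)⟩
  have hinj : Function.Injective f := by
    intro a b hab
    have hab' : (a : H)⁻¹ * (e * a * e⁻¹) = (b : H)⁻¹ * (e * b * e⁻¹) := congrArg Subtype.val hab
    have h1 : e * ((b : H) * (a : H)⁻¹) = (b : H) * (a : H)⁻¹ * e := by
      have h3 : (b : H) * (a : H)⁻¹ = e * (b : H) * (a : H)⁻¹ * e⁻¹ := by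
        calc (b : H) * (a : H)⁻¹ = b * ((a : H)⁻¹ * (e * a * e⁻¹)) * (e * (a : H)⁻¹ * e⁻¹) := by group
          _ = b * ((b : H)⁻¹ * (e * b * e⁻¹)) * (e * (a : H)⁻¹ * e⁻¹) := by rw [hab']
          _ = _ := by group
      nth_rw 2 [h3]
      group
    exact Subtype.ext ((mul_inv_eq_one.mp (h _ (N.mul_mem b.2 (N.inv_mem a.2)) h1)).symm)
  intro n hn
  obtain ⟨m, hm⟩ := Finite.surjective_of_injective hinj ⟨n, hn⟩
  have hm' : (m : H)⁻¹ * (e * m * e⁻¹) = n := congrArg Subtype.val hm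
  have he' : e⁻¹ = e := inv_eq_of_mul_eq_one_right he
  rw [← hm', mul_inv_rev, mul_inv_rev, inv_inv, mul_inv_rev, inv_inv, he']
  calc e * ((m : H)⁻¹ * (e * m * e)) * e = e * (m : H)⁻¹ * e * m * (e * e) := by group
    _ = _ := by rw [he, mul_one]; group

/-- Every proper normal subgroup is trivial. -/
theorem normal_eq_bot_or_top (z : H) (hN : ∀ N : Subgroup H, N.Normal → N ≠ ⊤ →
    N ⊓ centralizer ({z} : Set H) = ⊥) (E : Subgroup H) (hE : IsKleinFour E) (hzE : z ∈ E)
    (hz : z ≠ 1) (hc : ∀ e ∈ E, e ≠ 1 → IsConj z e) (N : Subgroup H) [hNn : N.Normal] :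
    N = ⊥ ∨ N = ⊤ := by
  refine (em (N = ⊤)).symm.imp_left fun htop => ?_
  have hfree : ∀ e ∈ E, e ≠ 1 → ∀ n ∈ N, e * n = n * e → n = 1 := by
    intro e he he1 n hn hen
    obtain ⟨c, rfl⟩ := isConj_iff.mp (hc e he he1)
    have h1 : c⁻¹ * n * c ∈ N ⊓ centralizer ({z} : Set H) := by
      refine mem_inf.mpr ⟨by simpa using hNn.conj_mem n hn c⁻¹, ?_⟩
      rw [mem_centralizer_singleton_iff]
      calc c⁻¹ * n * c * z = c⁻¹ * (n * (c * z * c⁻¹)) * c := by group
        _ = c⁻¹ * (c * z * c⁻¹ * n) * c := by rw [hen]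
        _ = _ := by group
    rw [hN N hNn htop, Subgroup.mem_bot] at h1
    calc n = c * (c⁻¹ * n * c) * c⁻¹ := by group
      _ = 1 := by rw [h1]; group
  have hsq : ∀ e ∈ E, e * e = 1 := fun e he =>
    congrArg Subtype.val (IsKleinFour.mul_self (⟨e, he⟩ : E))
  obtain ⟨f, hfE, hf1, hfz⟩ : ∃ f ∈ E, f ≠ 1 ∧ f ≠ z := by
    by_contra hcon
    push Not at hcon
    have hle : (E : Set H) ⊆ {1, z} := fun x hx =>
      or_iff_not_imp_left.mpr fun h1 => hcon x hx h1
    have h4 := Set.ncard_le_ncard hle (Set.toFinite _)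
    rw [show (E : Set H).ncard = Nat.card E from rfl, IsKleinFour.card_four,
      Set.ncard_pair (Ne.symm hz)] at h4
    omega
  have hzf : z * f ≠ 1 := fun h => hfz ((mul_left_cancel ((hsq z hzE).trans h.symm)).symm)
  refine (Subgroup.eq_bot_iff_forall N).mpr fun n hn =>
    hfree (z * f) (E.mul_mem hzE hfE) hzf n hn ?_
  have h1 := inverts_of_fixedPointFree (hsq f hfE) (hfree f hfE hf1) n hn
  have h2 := inverts_of_fixedPointFree (hsq z hzE) (hfree z hzE hz) n⁻¹ (N.inv_mem hn)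
  rw [inv_inv] at h2
  calc z * f * n = z * (f * n * f⁻¹) * f := by group
    _ = z * n⁻¹ * z⁻¹ * (z * f) := by rw [h1]; group
    _ = n * (z * f) := by rw [h2]

end CfsgLib.ConjFunctor
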