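import Cfsg.Agent.ConjFunctor.Functor
import Mathlib.GroupTheory.Focal

/-!
Local-to-global theorems for fusion and for transfer, for an abstract assignment `Φ` of a family
of subgroups to each `p`-subgroup, and their specialisation to sets of conjugacy functors.
-/

set_option autoImplicit false

namespace CfsgLib.ConjFunctor

open Cfsg Subgroup
open scoped commutatorElement

variable {G : Type*} [Group G] {p : ℕ}

/-- `N_S(U)`. -/
abbrev nrm (S U : Subgroup G) : Subgroup G := S ⊓ Subgroup.normalizer (U : Set G)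

/-- Each element normalising `U` agrees on `U` with an element carrying a larger subgroup of `S`
into `S`. -/
def Reducible (S U : Subgroup G) : Prop :=
  ∀ x ∈ Subgroup.normalizer (U : Set G), ∃ (T : Subgroup G) (m : G),
    U < T ∧ T ≤ S ∧ m *• T ≤ S ∧ ∀ u ∈ U, x * u * x⁻¹ = m * u * m⁻¹

/-- The data for the local-to-global argument: `Ok` is a supply of extremal subgroups. -/
structure Climb (p : ℕ) (S : Subgroup G) (Φ : Subgroup G → Set (Subgroup G))
    (Ok : Subgroup G → Prop) : Prop where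
  le : ∀ U, Ok U → U ≤ S
  extremal : ∀ U, Ok U → Extremal p S U
  exists_conj : ∀ T, T ≤ S → T ≠ ⊥ →
    ∃ U, (∃ g : G, g *• T = U) ∧ U ≤ S ∧ Extremal p S U ∧ (Ok U ∨ Reducible S U)
  climb : ∀ U, Ok U → U ≠ ⊥ → nrm S U ≠ S → ∀ M ∈ Φ (nrm S U),
    (∃ M' ∈ Φ S, M ≤ M') ∨ ∃ (V : Subgroup G) (a : G), V ≠ ⊥ ∧ nrm S U < nrm S V ∧
      M ≤ Subgroup.normalizer (V : Set G) ∧ a *• nrm S V ≤ S ∧ Ok (a *• V)

theorem mem_normalizer_cj {a z : G} {V : Subgroup G}
    (hz : z ∈ Subgroup.normalizer (V : Set G)) :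
    a * z * a⁻¹ ∈ Subgroup.normalizer ((a *• V : Subgroup G) : Set G) := by
  rw [normalizer_cj]; exact conj_mem_cj a hz

theorem cj_nrm_le {a : G} {S V : Subgroup G} (h : a *• nrm S V ≤ S) :
    a *• nrm S V ≤ nrm S (a *• V) :=
  le_inf h (by rw [normalizer_cj]; exact cj_mono a inf_le_right)

variable [Finite G]

omit [Finite G] in
theorem eq_one_of_le_bot {T : Subgroup G} (h : T = ⊥) {x : G} (hx : x ∈ T) : x = 1 := by
  subst h; exact hx

theorem card_lt_of_lt {A B : Subgroup G} (h : A < B) : Nat.card A < Nat.card B := by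
  by_contra hn
  exact h.ne (eq_of_le_of_card_ge h.le (not_lt.mp hn))

variable [Fact p.Prime] {S : Subgroup G} {Φ : Subgroup G → Set (Subgroup G)}
  {Ok : Subgroup G → Prop}

/-- **Local to global, fusion.** -/
theorem fusControls_of_climb (hS : IsSylowIn p S ⊤) (hC : Climb p S Φ Ok)
    (hloc : ∀ U, Ok U → U ≠ ⊥ →
      FusControls (Φ (nrm S U)) (nrm S U) (Subgroup.normalizer (U : Set G))) :
    FusControls (Φ S) S ⊤ := by
  suffices H : ∀ k : ℕ, ∀ T : Subgroup G, Nat.card S - Nat.card T = k → T ≤ S →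
      ∀ g : G, g *• T ≤ S → Fus (Φ S) S (T : Set G) g from
    fusControls_of_subgroups fun T g _ hT hgT => H _ T rfl hT g hgT
  intro k
  induction k using Nat.strongRecOn with
  | ind k ih =>
  intro T hk hT g hg
  have big : ∀ T' : Subgroup G, T' ≤ S → Nat.card T < Nat.card T' → ∀ g : G, g *• T' ≤ S →
      Fus (Φ S) S (T' : Set G) g := fun T' hT' hc g hg' =>
    ih _ (by have := Nat.le_of_dvd Nat.card_pos (card_dvd_of_le hT'); omega) T' rfl hT' g hg'
  by_cases hbot : T = ⊥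
  · exact .nil hT fun a ha => by simp [eq_one_of_le_bot hbot ha]
  have loc : ∀ j : ℕ, ∀ U : Subgroup G, Nat.card S - Nat.card (nrm S U) = j → Ok U → U ≠ ⊥ →
      (Nat.card T < Nat.card (nrm S U) ∨ nrm S U = S) →
      ∀ x ∈ Subgroup.normalizer (U : Set G), ∀ B : Set G, B ⊆ nrm S U →
        cjSet x B ⊆ nrm S U → Fus (Φ S) S B x := by
    intro j
    induction j using Nat.strongRecOn with
    | ind j ihj =>
    intro U hj hOk hne hbig x hx B hB hxB
    refine (hloc U hOk hne B x hx hB hxB).bind inf_le_left fun M hM z hz B hB hzB => ?_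
    have hzB' : ∀ b ∈ B, z * b * z⁻¹ ∈ S := fun b hb => (hzB b hb).1
    have hBS : B ⊆ S := fun b hb => (hB hb).1
    by_cases hPS : nrm S U = S
    · exact Fus.single hBS (by rwa [hPS] at hM) hz hzB'
    rcases hC.climb U hOk hne hPS M hM with ⟨M', hM', hle⟩ | ⟨V, a, hV, hlt, hMV, ha, hOk'⟩
    · exact Fus.single hBS hM' (hle hz) hzB'
    have hTP : Nat.card T < Nat.card (nrm S U) := hbig.resolve_right hPS
    have h1 : Nat.card (nrm S U) < Nat.card (nrm S V) := card_lt_of_lt hlt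
    have h2 : Nat.card (nrm S V) ≤ Nat.card (nrm S (a *• V)) := by
      rw [← card_cj a]; exact Nat.le_of_dvd Nat.card_pos (card_dvd_of_le (cj_nrm_le ha))
    have hfa : Fus (Φ S) S (nrm S V : Set G) a := big _ inf_le_left (hTP.trans h1) a ha
    have hBV : B ⊆ (nrm S V : Set G) := fun b hb => hlt.le (hB hb)
    have hmem : ∀ b ∈ (nrm S V : Set G), a * b * a⁻¹ ∈ nrm S (a *• V) := fun b hb =>
      cj_nrm_le ha (conj_mem_cj a hb)
    have hfz : Fus (Φ S) S (cjSet a B) (a * z * a⁻¹) := by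
      refine ihj _ ?_ (a *• V) rfl hOk' (by rwa [Ne, cj_eq_bot_iff])
        (Or.inl (hTP.trans (h1.trans_le h2))) _ (mem_normalizer_cj (hMV hz)) _ ?_ ?_
      · have hle : Nat.card (nrm S (a *• V)) ≤ Nat.card S :=
          Nat.le_of_dvd Nat.card_pos (card_dvd_of_le inf_le_left)
        simp only [nrm] at hle h1 h2 hj ⊢
        omega
      · rintro _ ⟨b, hb, rfl⟩; exact hmem b (hBV hb)
      · rintro _ ⟨_, ⟨b, hb, rfl⟩, rfl⟩
        have := hmem _ (hlt.le (hzB b hb))
        simpa [mul_assoc] using this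
    have hzB2 : cjSet z B ⊆ (nrm S V : Set G) := by
      rintro _ ⟨b, hb, rfl⟩; exact hlt.le (hzB b hb)
    have h3 := ((hfa.mono_set hBV).trans hfz).trans (h := a⁻¹) (by
      have := (hfa.mono_set hzB2).symm
      rw [cjSet_cjSet] at this
      simpa [mul_assoc] using this)
    simpa [mul_assoc] using h3
  obtain ⟨U, hconjU, hUS, hUE, hU⟩ := hC.exists_conj T hT hbot
  obtain ⟨g0, hg0⟩ := hconjU
  have hcU : Nat.card U = Nat.card T := by rw [← hg0, card_cj]
  have hUne : U ≠ ⊥ := by rw [← hg0, Ne, cj_eq_bot_iff]; exact hbot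
  obtain ⟨a, haT, haN⟩ := exists_conj_to_extremal hS.2.1 hUE ⟨g0, hg0⟩ (T := T)
  obtain ⟨b, hbT, hbN⟩ := exists_conj_to_extremal hS.2.1 hUE
    ⟨g0 * g⁻¹, by rw [← cj_cj, cj_inv_cj, hg0]⟩ (T := g *• T)
  have hx : b * g * a⁻¹ ∈ Subgroup.normalizer (U : Set G) := by
    rw [mem_normalizer_iff_cj]
    nth_rewrite 1 [← haT]
    rw [cj_cj, inv_mul_cancel_right, ← cj_cj, hbT]
  by_cases hTS : T = S
  · have hUS' : U = S := eq_of_le_of_card_ge hUS (by rw [hcU, hTS])
    have hOk : Ok U := hU.resolve_right fun hr => by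
      obtain ⟨T', m, h1, h2, -⟩ := hr 1 (one_mem _)
      exact absurd (hUS' ▸ h1) h2.not_gt
    have hgN : g ∈ Subgroup.normalizer (U : Set G) := by
      rw [hUS']; exact mem_normalizer_of_cj_le (hTS ▸ hg)
    have hP : nrm S U = S := inf_eq_left.mpr (hUS' ▸ le_normalizer)
    refine loc _ U rfl hOk hUne (Or.inr hP) g hgN (T : Set G) ?_ ?_
    · rw [hP, hTS]
    · rw [hP, cjSet_coe]; exact hg
  have hlt : Nat.card T < Nat.card (nrm S T) :=
    card_lt_of_lt (lt_inf_normalizer hS.2.1 (lt_of_le_of_ne hT hTS))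
  have hgTS : g *• T < S := lt_of_le_of_ne hg fun h => hTS (eq_of_le_of_card_ge hT
    (by rw [← h, card_cj]))
  have hlt' : Nat.card T < Nat.card (nrm S (g *• T)) := by
    rw [← card_cj g T]; exact card_lt_of_lt (lt_inf_normalizer hS.2.1 hgTS)
  have hfa : Fus (Φ S) S (T : Set G) a :=
    (big _ inf_le_left hlt a (haN.trans inf_le_left)).mono_set (le_inf hT le_normalizer)
  have hfb : Fus (Φ S) S ((g *• T : Subgroup G) : Set G) b :=
    (big _ inf_le_left hlt' b (hbN.trans inf_le_left)).mono_set (le_inf hg le_normalizer)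
  have hfx : Fus (Φ S) S (U : Set G) (b * g * a⁻¹) := by
    rcases hU with hOk | hred
    · have hc : Nat.card T < Nat.card (nrm S U) := hlt.trans_le (by
        rw [← card_cj a (nrm S T)]; exact Nat.le_of_dvd Nat.card_pos (card_dvd_of_le haN))
      refine loc _ U rfl hOk hUne (Or.inl hc) _ hx _ (le_inf hUS le_normalizer) ?_
      rw [cjSet_coe, cj_eq_of_mem_normalizer hx]
      exact le_inf hUS le_normalizer
    · obtain ⟨T', m, h1, h2, h3, h4⟩ := hred _ hx
      exact ((big T' h2 (hcU ▸ card_lt_of_lt h1) m h3).mono_set h1.le).congr'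
        fun u hu => (h4 u hu).symm
  have h1 := hfa.trans (h := b * g * a⁻¹) (by rwa [cjSet_coe, haT])
  have h2 := h1.trans (h := b⁻¹) (by
    have := hfb.symm
    rw [cjSet_coe, hbT] at this
    rwa [inv_mul_cancel_right, cjSet_coe, ← cj_cj, hbT])
  simpa [mul_assoc] using h2

/-- **Local to global, transfer.** -/
theorem inf_commutator_le_of_climb (hS : IsSylowIn p S ⊤) (hC : Climb p S Φ Ok)
    {R : Subgroup G} (hR : ∀ M ∈ Φ S, S ⊓ ⁅M, M⁆ ≤ R)
    (hloc : ∀ U, Ok U → U ≠ ⊥ →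
      nrm S U ⊓ ⁅Subgroup.normalizer (U : Set G), Subgroup.normalizer (U : Set G)⁆ ≤
        ⨆ M ∈ Φ (nrm S U), nrm S U ⊓ ⁅M, M⁆) :
    S ⊓ commutator G ≤ R := by
  suffices H : ∀ k : ℕ, ∀ T : Subgroup G, Nat.card S - Nat.card T = k → T ≤ S →
      ∀ g : G, g *• T ≤ S → ∀ t ∈ T, t⁻¹ * (g * t * g⁻¹) ∈ R by
    rw [inf_comm, show S = ((hS.toSylowTop : Sylow p G) : Subgroup G) from rfl,
      Subgroup.commutator_inf_eq_focalSubgroup, focalSubgroup_def, Subgroup.closure_le]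
    rintro _ ⟨hmem, x, hx, u, rfl⟩
    have hy : u * x⁻¹ * u⁻¹ ∈ S := by
      have hx' : x ∈ S := hx
      have : x⁻¹ * ⁅x, u⁆ ∈ S := mul_mem (inv_mem hx') hmem
      simpa [commutatorElement_def, mul_assoc] using this
    have := H _ (Subgroup.zpowers x⁻¹) rfl ((zpowers_le).mpr (inv_mem hx)) u
      (by rw [MonoidHom.map_zpowers, zpowers_le]; simpa using hy) x⁻¹ (mem_zpowers _)
    simpa [commutatorElement_def, mul_assoc] using this
  intro k
  induction k using Nat.strongRecOn with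
  | ind k ih =>
  intro T hk hT g hg t ht
  have big : ∀ T' : Subgroup G, T' ≤ S → Nat.card T < Nat.card T' → ∀ g : G, g *• T' ≤ S →
      ∀ t ∈ T', t⁻¹ * (g * t * g⁻¹) ∈ R := fun T' hT' hc g hg' =>
    ih _ (by have := Nat.le_of_dvd Nat.card_pos (card_dvd_of_le hT'); omega) T' rfl hT' g hg'
  by_cases hbot : T = ⊥
  · simp [eq_one_of_le_bot hbot ht, R.one_mem]
  have loc : ∀ j : ℕ, ∀ U : Subgroup G, Nat.card S - Nat.card (nrm S U) = j → Ok U → U ≠ ⊥ →
      (Nat.card T < Nat.card (nrm S U) ∨ nrm S U = S) →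
      nrm S U ⊓ ⁅Subgroup.normalizer (U : Set G), Subgroup.normalizer (U : Set G)⁆ ≤ R := by
    intro j
    induction j using Nat.strongRecOn with
    | ind j ihj =>
    intro U hj hOk hne hbig
    refine (hloc U hOk hne).trans (iSup₂_le fun M hM => ?_)
    by_cases hPS : nrm S U = S
    · rw [hPS] at hM ⊢; exact hR M hM
    rcases hC.climb U hOk hne hPS M hM with ⟨M', hM', hle⟩ | ⟨V, a, hV, hlt, hMV, ha, hOk'⟩
    · exact le_trans (inf_le_inf inf_le_left (commutator_mono hle hle)) (hR M' hM')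
    have hTP : Nat.card T < Nat.card (nrm S U) := hbig.resolve_right hPS
    have h1 : Nat.card (nrm S U) < Nat.card (nrm S V) := card_lt_of_lt hlt
    have h2 : Nat.card (nrm S V) ≤ Nat.card (nrm S (a *• V)) := by
      rw [← card_cj a]; exact Nat.le_of_dvd Nat.card_pos (card_dvd_of_le (cj_nrm_le ha))
    rintro x ⟨hxP, hxM⟩
    have hxV : x ∈ nrm S V := hlt.le hxP
    have hx1 : a * x * a⁻¹ ∈ R := by
      refine ihj _ ?_ (a *• V) rfl hOk' (by rwa [Ne, cj_eq_bot_iff])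
        (Or.inl (hTP.trans (h1.trans_le h2))) ⟨cj_nrm_le ha (conj_mem_cj a hxV), ?_⟩
      · have hle : Nat.card (nrm S (a *• V)) ≤ Nat.card S :=
          Nat.le_of_dvd Nat.card_pos (card_dvd_of_le inf_le_left)
        simp only [nrm] at hle h1 h2 hj ⊢
        omega
      · rw [normalizer_cj, ← map_commutator]
        exact conj_mem_cj a (commutator_mono hMV hMV hxM)
    have hx2 := big _ inf_le_left (hTP.trans h1) a ha x hxV
    have := mul_mem hx1 (inv_mem hx2)
    simpa [mul_assoc] using this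
  obtain ⟨U, hconjU, hUS, hUE, hU⟩ := hC.exists_conj T hT hbot
  obtain ⟨g0, hg0⟩ := hconjU
  have hcU : Nat.card U = Nat.card T := by rw [← hg0, card_cj]
  have hUne : U ≠ ⊥ := by rw [← hg0, Ne, cj_eq_bot_iff]; exact hbot
  obtain ⟨a, haT, haN⟩ := exists_conj_to_extremal hS.2.1 hUE ⟨g0, hg0⟩ (T := T)
  obtain ⟨b, hbT, hbN⟩ := exists_conj_to_extremal hS.2.1 hUE
    ⟨g0 * g⁻¹, by rw [← cj_cj, cj_inv_cj, hg0]⟩ (T := g *• T)
  have hx : b * g * a⁻¹ ∈ Subgroup.normalizer (U : Set G) := by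
    rw [mem_normalizer_iff_cj]
    nth_rewrite 1 [← haT]
    rw [cj_cj, inv_mul_cancel_right, ← cj_cj, hbT]
  have mid : ∀ y ∈ Subgroup.normalizer (U : Set G), ∀ u ∈ U, Ok U →
      (Nat.card T < Nat.card (nrm S U) ∨ nrm S U = S) → u⁻¹ * (y * u * y⁻¹) ∈ R := by
    intro y hy u hu hOk hor
    refine loc _ U rfl hOk hUne hor ⟨mul_mem (le_inf hUS le_normalizer (inv_mem hu))
      (le_inf hUS le_normalizer ((mem_normalizer_iff.mp hy u).mp hu)), ?_⟩
    have := commutator_mem_commutator (le_normalizer (inv_mem hu)) hy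
    simpa [commutatorElement_def, mul_assoc] using this
  by_cases hTS : T = S
  · have hUS' : U = S := eq_of_le_of_card_ge hUS (by rw [hcU, hTS])
    have hOk : Ok U := hU.resolve_right fun hr => by
      obtain ⟨T', m, h1, h2, -⟩ := hr 1 (one_mem _)
      exact absurd (hUS' ▸ h1) h2.not_gt
    have hgN : g ∈ Subgroup.normalizer (U : Set G) := by
      rw [hUS']; exact mem_normalizer_of_cj_le (hTS ▸ hg)
    exact mid g hgN t (hUS' ▸ hT ht) hOk (Or.inr (inf_eq_left.mpr (hUS' ▸ le_normalizer)))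
  have hlt : Nat.card T < Nat.card (nrm S T) :=
    card_lt_of_lt (lt_inf_normalizer hS.2.1 (lt_of_le_of_ne hT hTS))
  have hgTS : g *• T < S := lt_of_le_of_ne hg fun h => hTS (eq_of_le_of_card_ge hT
    (by rw [← h, card_cj]))
  have hlt' : Nat.card T < Nat.card (nrm S (g *• T)) := by
    rw [← card_cj g T]; exact card_lt_of_lt (lt_inf_normalizer hS.2.1 hgTS)
  have hta := big _ inf_le_left hlt a (haN.trans inf_le_left) t ((le_inf hT le_normalizer : T ≤ nrm S T) ht)
  have htb := big _ inf_le_left hlt' b (hbN.trans inf_le_left) (g * t * g⁻¹)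
    ((le_inf hg le_normalizer : g *• T ≤ nrm S (g *• T)) (conj_mem_cj g ht))
  have hu : a * t * a⁻¹ ∈ U := haT ▸ conj_mem_cj a ht
  have htx : (a * t * a⁻¹)⁻¹ * ((b * g * a⁻¹) * (a * t * a⁻¹) * (b * g * a⁻¹)⁻¹) ∈ R := by
    rcases hU with hOk | hred
    · have hc : Nat.card T < Nat.card (nrm S U) := hlt.trans_le (by
        rw [← card_cj a (nrm S T)]; exact Nat.le_of_dvd Nat.card_pos (card_dvd_of_le haN))
      exact mid _ hx _ hu hOk (Or.inl hc)
    · obtain ⟨T', m, h1, h2, h3, h4⟩ := hred _ hx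
      rw [h4 _ hu]
      exact big T' h2 (hcU ▸ card_lt_of_lt h1) m h3 _ (h1.le hu)
  have := mul_mem (mul_mem hta htx) (inv_mem htb)
  simpa [mul_assoc] using this

omit [Fact p.Prime] in
theorem climb_functor_aux [Fact p.Prime] {W : Subgroup G → Subgroup G}
    (hW : IsConjugacyFunctor p W) (hS : IsPGroup p S) {U : Subgroup G} (hUS : U ≤ S)
    (hne : U ≠ ⊥) (hP : nrm S U ≠ S) :
    W (nrm S U) ≠ ⊥ ∧ nrm S U < nrm S (W (nrm S U)) := by
  have hp : IsPGroup p ↥(nrm S U) := hS.to_inf_left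
  refine ⟨functor_ne_bot hW hp fun h => hne (le_bot_iff.mp (h ▸ le_inf hUS le_normalizer)), ?_⟩
  exact lt_of_lt_of_le (lt_inf_normalizer hS (lt_of_le_of_ne inf_le_left hP))
    (inf_le_inf_left _ (normalizer_le_normalizer_functor hW hp))

/-- The climbing data of a set of conjugacy functors. -/
theorem climb_family (hS : IsSylowIn p S ⊤) {𝓦 : Set (Subgroup G → Subgroup G)}
    (h𝓦 : ∀ W ∈ 𝓦, IsConjugacyFunctor p W) :
    Climb p S (fun P => famIn 𝓦 ⊤ P) (fun U => U ≤ S ∧ Extremal p S U) where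
  le U h := h.1
  extremal U h := h.2
  exists_conj T hT _ := by
    obtain ⟨a, h1, h2, -⟩ := exists_extremal_conj hS hT
    exact ⟨_, ⟨a, rfl⟩, h1, h2, Or.inl ⟨h1, h2⟩⟩
  climb U hU hne hP M hM := by
    obtain ⟨W, hW, rfl⟩ := hM
    obtain ⟨h1, h2⟩ := climb_functor_aux (h𝓦 W hW) hS.2.1 hU.1 hne hP
    obtain ⟨a, ha1, ha2, ha3⟩ := exists_extremal_conj hS
      ((functor_le (h𝓦 W hW) hS.2.1.to_inf_left).trans (inf_le_left : nrm S U ≤ S))
    exact Or.inr ⟨_, a, h1, h2, inf_le_right, ha3, ha1, ha2⟩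

omit [Finite G] [Fact p.Prime] in
theorem famIn_le_top (𝓦 : Set (Subgroup G → Subgroup G)) (H T : Subgroup G) :
    ∀ M ∈ famIn 𝓦 H T, ∃ M' ∈ famIn 𝓦 ⊤ T, M ≤ M' := by
  rintro _ ⟨W, hW, rfl⟩
  exact ⟨_, ⟨W, hW, rfl⟩, inf_le_inf_right _ le_top⟩

/-- Strong fusion, local to global, for a set of conjugacy functors. -/
theorem familyControls_of_local (hS : IsSylowIn p S ⊤) {𝓦 : Set (Subgroup G → Subgroup G)}
    (h𝓦 : ∀ W ∈ 𝓦, IsConjugacyFunctor p W)
    (hloc : ∀ T, T ≤ S → T ≠ ⊥ → Extremal p S T →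
      FamilyControlsStrongFusionIn p 𝓦 (Subgroup.normalizer (T : Set G))) :
    FusControls (famIn 𝓦 ⊤ S) S ⊤ :=
  fusControls_of_climb hS (climb_family hS h𝓦) fun U hU hne =>
    (fusControls_of_family h𝓦 (hloc U hU.1 hne hU.2) ((extremal_iff hS.2.1).mp hU.2)).mono
      (famIn_le_top _ _ _)

/-- Transfer, local to global, for a set of conjugacy functors. -/
theorem familyTransfer_of_local (hS : IsSylowIn p S ⊤) {𝓦 : Set (Subgroup G → Subgroup G)}
    (h𝓦 : ∀ W ∈ 𝓦, IsConjugacyFunctor p W)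
    (hloc : ∀ T, T ≤ S → T ≠ ⊥ → Extremal p S T →
      FamilyControlsTransferIn p 𝓦 (Subgroup.normalizer (T : Set G))) :
    S ⊓ commutator G ≤ transferGen 𝓦 ⊤ S := by
  refine inf_commutator_le_of_climb hS (climb_family hS h𝓦) ?_ fun U hU hne => ?_
  · rintro _ ⟨W, hW, rfl⟩
    exact le_iSup₂ (f := fun W (_ : W ∈ 𝓦) => S ⊓ ⁅(⊤ : Subgroup G) ⊓
      Subgroup.normalizer (W S : Set G), (⊤ : Subgroup G) ⊓ Subgroup.normalizer (W S : Set G)⁆) W hW
  · refine (inf_commutator_le_transferGen h𝓦 (hloc U hU.1 hne hU.2)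
      ((extremal_iff hS.2.1).mp hU.2)).trans (iSup₂_le fun W hW => ?_)
    exact le_trans (inf_le_inf_left _ (commutator_mono (inf_le_inf_right _ le_top)
      (inf_le_inf_right _ le_top)))
      (le_iSup₂ (f := fun M (_ : M ∈ famIn 𝓦 ⊤ (nrm S U)) => nrm S U ⊓ ⁅M, M⁆) _ ⟨W, hW, rfl⟩)

end CfsgLib.ConjFunctor
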