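import Cfsg.Agent.ConjFunctor.WellPlaced

/-!
Local-to-global for the pair `N(W P)`, `C(V P)` with `V P ≤ Z(P) ≤ W P`.
-/

set_option autoImplicit false

namespace CfsgLib.ConjFunctor

open Cfsg Subgroup
open scoped commutatorElement

variable {G : Type*} [Group G]

theorem centralizer_cj (g : G) (T : Subgroup G) :
    Subgroup.centralizer ((g *• T : Subgroup G) : Set G) = g *• Subgroup.centralizer (T : Set G) := by
  ext x
  rw [mem_cj, Subgroup.mem_centralizer_iff, Subgroup.mem_centralizer_iff]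
  constructor
  · intro h t ht
    have h1 := h _ (conj_mem_cj g ht)
    calc t * (g⁻¹ * x * g) = g⁻¹ * (g * t * g⁻¹ * x) * g := by group
      _ = g⁻¹ * (x * (g * t * g⁻¹)) * g := by rw [h1]
      _ = g⁻¹ * x * g * t := by group
  · rintro h _ ⟨t, ht, rfl⟩
    have h1 := h t ht
    show g * t * g⁻¹ * x = x * (g * t * g⁻¹)
    calc g * t * g⁻¹ * x = g * (t * (g⁻¹ * x * g)) * g⁻¹ := by group
      _ = g * (g⁻¹ * x * g * t) * g⁻¹ := by rw [h1]
      _ = x * (g * t * g⁻¹) := by group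

/-- `{N(W P), C(V P)}`. -/
def normCent (W V : Subgroup G → Subgroup G) (P : Subgroup G) : Set (Subgroup G) :=
  {Subgroup.normalizer (W P : Set G), Subgroup.centralizer (V P : Set G)}

/-- Chains read from the right, as lists. -/
theorem Fus.exists_right {𝓜 : Set (Subgroup G)} {S : Subgroup G} {A : Set G} {g : G}
    (h : Fus 𝓜 S A g) :
    ∃ (n : ℕ) (b : Fin n → G), (∀ i, ∃ M ∈ 𝓜, b i ∈ M) ∧
      (∀ k : ℕ, k ≤ n → ∀ a ∈ A, (((List.ofFn b).take k).prod)⁻¹ * a * ((List.ofFn b).take k).prod ∈ S) ∧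
      ∀ a ∈ A, ((List.ofFn b).prod)⁻¹ * a * (List.ofFn b).prod = g * a * g⁻¹ := by
  induction h with
  | nil hA hg =>
    exact ⟨0, Fin.elim0, fun i => i.elim0, fun k _ a ha => by simpa using hA ha,
      fun a ha => by simp [hg a ha]⟩
  | step hA hM hx hxA _ ih =>
    rename_i A g x M _
    obtain ⟨n, b, hb, hpre, hlast⟩ := ih
    refine ⟨n + 1, Fin.cons x⁻¹ b, Fin.cases ⟨M, hM, inv_mem hx⟩ hb, fun k hk a ha => ?_, fun a ha => ?_⟩
    · rcases k with _ | k
      · simpa using hA ha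
      · have := hpre k (by omega) _ ⟨a, ha, rfl⟩
        simpa [List.ofFn_succ, mul_assoc] using this
    · have := hlast _ ⟨a, ha, rfl⟩
      simpa [List.ofFn_succ, mul_assoc] using this

theorem Fus.of_right {𝓜 : Set (Subgroup G)} {S : Subgroup G} {A : Set G} {n : ℕ} (b : Fin n → G)
    (hb : ∀ i, ∃ M ∈ 𝓜, b i ∈ M)
    (hpre : ∀ k : ℕ, k ≤ n → ∀ a ∈ A,
      (((List.ofFn b).take k).prod)⁻¹ * a * ((List.ofFn b).take k).prod ∈ S) :
    Fus 𝓜 S A ((List.ofFn b).prod)⁻¹ := by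
  suffices key : ∀ k, k ≤ n → Fus 𝓜 S A (((List.ofFn b).take k).prod)⁻¹ by
    simpa [List.take_of_length_le] using key n le_rfl
  intro k
  induction k with
  | zero =>
    intro _
    exact .nil (fun a ha => by simpa using hpre 0 (Nat.zero_le n) a ha) fun a _ => by simp
  | succ m ihm =>
    intro hm
    obtain ⟨M, hM, hbM⟩ := hb ⟨m, hm⟩
    have e : ((List.ofFn b).take (m + 1)).prod = ((List.ofFn b).take m).prod * b ⟨m, hm⟩ := by
      rw [List.prod_take_succ _ _ (by simpa using hm), List.getElem_ofFn]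
    rw [e, mul_inv_rev]
    refine (ihm (by omega)).trans (Fus.single ?_ hM (inv_mem hbM) ?_)
    · rintro _ ⟨a, ha, rfl⟩
      simpa using hpre m (by omega) a ha
    · rintro _ ⟨a, ha, rfl⟩
      have := hpre (m + 1) hm a ha
      rw [e] at this
      simpa [mul_assoc] using this

variable {p : ℕ} {W V : Subgroup G → Subgroup G} {S : Subgroup G}

/-- Well-placed subgroups containing `Z(S)`. -/
def CenterOk (p : ℕ) (W : Subgroup G → Subgroup G) (S U : Subgroup G) : Prop :=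
  IsWellPlaced p W S U ∧ S ⊓ Subgroup.centralizer (S : Set G) ≤ U

variable [Finite G] [Fact p.Prime]

theorem reducible_of_not_center_le (hS : IsSylowIn p S ⊤) {U : Subgroup G} (hU : U ≤ S)
    (hUE : Extremal p S U) (hZ : ¬ S ⊓ Subgroup.centralizer (S : Set G) ≤ U) : Reducible S U := by
  intro x hx
  set N := Subgroup.normalizer (U : Set G)
  set C := Subgroup.centralizer (U : Set G)
  have hCN : C ≤ N := centralizer_le_normalizer' U
  have hnC : ∀ y ∈ N, y *• C = C := fun y hy => by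
    rw [← centralizer_cj, cj_eq_of_mem_normalizer hy]
  have hsy : IsSylowIn p (nrm S U ⊓ C) C :=
    ((extremal_iff hS.2.1).mp hUE).inf_of_normal hCN fun y hy => mem_normalizer_iff_cj.mpr (hnC y hy)
  have hsy' : IsSylowIn p (x *• (nrm S U ⊓ C)) C := by
    have := hsy.cj x
    rwa [hnC x hx] at this
  obtain ⟨c, hc, hceq⟩ := hsy.exists_cj_eq hsy'
  refine ⟨U ⊔ (nrm S U ⊓ C), c * x, ?_, sup_le hU (inf_le_left.trans inf_le_left), ?_, fun u hu => ?_⟩
  · refine lt_of_le_of_ne le_sup_left fun h => hZ fun z hz => h ▸ mem_sup_right ?_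
    have hzC : z ∈ C := Subgroup.mem_centralizer_iff.mpr fun u hu =>
      Subgroup.mem_centralizer_iff.mp hz.2 u (hU hu)
    exact Subgroup.mem_inf.mpr ⟨Subgroup.mem_inf.mpr ⟨hz.1, hCN hzC⟩, hzC⟩
  · rw [Subgroup.map_sup, cj_eq_of_mem_normalizer (N.mul_mem (hCN hc) hx), ← cj_cj, hceq]
    exact sup_le hU (inf_le_left.trans inf_le_left)
  · have := Subgroup.mem_centralizer_iff.mp hc _ ((Subgroup.mem_normalizer_iff.mp hx u).mp hu)
    calc x * u * x⁻¹ = x * u * x⁻¹ * c * c⁻¹ := by group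
      _ = c * (x * u * x⁻¹) * c⁻¹ := by rw [this]
      _ = _ := by group

theorem climb_normCent (hS : IsSylowIn p S ⊤) (hW : IsConjugacyFunctor p W)
    (hWZ : ∀ H : Subgroup G, IsPGroup p ↥H → H ⊓ Subgroup.centralizer (H : Set G) ≤ W H)
    (hVmono : ∀ H K : Subgroup G, IsPGroup p ↥H → IsPGroup p ↥K → H ≠ ⊥ → K ≠ ⊥ →
      H ⊓ Subgroup.centralizer (H : Set G) ≤ K ⊓ Subgroup.centralizer (K : Set G) → V H ≤ V K) :
    Climb p S (normCent W V) (CenterOk p W S) where
  le U h := h.1.1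
  extremal U h := h.1.2 0
  exists_conj T hT _ := by
    obtain ⟨a, ha⟩ := exists_wellPlaced_conj hS hW hT
    refine ⟨_, ⟨a, rfl⟩, ha.1, ha.2 0, ?_⟩
    by_cases hZ : S ⊓ Subgroup.centralizer (S : Set G) ≤ a *• T
    · exact Or.inl ⟨ha, hZ⟩
    · exact Or.inr (reducible_of_not_center_le hS ha.1 (ha.2 0) hZ)
  climb U hU hne hP M hM := by
    obtain ⟨h1, h2⟩ := climb_functor_aux hW hS.2.1 hU.1.1 hne hP
    have hpp : IsPGroup p ↥(nrm S U) := hS.2.1.to_inf_left
    have hUP : U ≤ nrm S U := le_inf hU.1.1 le_normalizer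
    have hZP : S ⊓ Subgroup.centralizer (S : Set G) ≤
        nrm S U ⊓ Subgroup.centralizer (nrm S U : Set G) :=
      le_inf (hU.2.trans hUP) (inf_le_right.trans (Subgroup.centralizer_le fun y hy => hy.1))
    rcases hM with rfl | hM
    · refine Or.inr ⟨_, 1, h1, h2, le_rfl, ?_, ?_⟩
      · rw [cj_one]; exact inf_le_left
      · rw [cj_one]
        exact ⟨wellPlaced_step hW hS.2.1 hU.1, hZP.trans (hWZ _ hpp)⟩
    · rw [Set.mem_singleton_iff] at hM
      subst hM
      refine Or.inl ⟨_, Or.inr rfl, Subgroup.centralizer_le ?_⟩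
      exact hVmono S _ hS.2.1 hpp (fun h => hne (le_bot_iff.mp (h ▸ hU.1.1)))
        (fun h => hne (le_bot_iff.mp (h ▸ hUP))) hZP

/-- The local groups in `H`. -/
def normCentIn (W V : Subgroup G → Subgroup G) (H P : Subgroup G) : Set (Subgroup G) :=
  {H ⊓ Subgroup.normalizer (W P : Set G), H ⊓ Subgroup.centralizer (V P : Set G)}

omit [Finite G] [Fact p.Prime] in
theorem map_normCentIn (hW : IsConjugacyFunctor p W) (hV : IsConjugacyFunctor p V)
    {H Q : Subgroup G} (hQ : IsPGroup p Q) {a : G} (ha : a ∈ H) :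
    Subgroup.map (MulAut.conj a).toMonoidHom '' normCentIn W V H Q = normCentIn W V H (a *• Q) := by
  simp only [normCentIn, Set.image_insert_eq, Set.image_singleton, cj_inf, cj_self_of_mem ha,
    functor_cj hW hQ, functor_cj hV hQ, normalizer_cj, centralizer_cj]

theorem fusControls_normCent_local (hW : IsConjugacyFunctor p W) (hV : IsConjugacyFunctor p V)
    {H P Q : Subgroup G} (hP : IsSylowIn p P H) (hQ : IsSylowIn p Q H)
    (h : FusControls (normCentIn W V H Q) Q H) : FusControls (normCent W V P) P H := by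
  obtain ⟨a, haH, ha⟩ := hP.exists_cj_eq hQ
  have := h.map (MulAut.conj a).toMonoidHom (MulAut.conj a).injective
  rw [map_normCentIn hW hV hQ.2.1 haH, ha, cj_self_of_mem haH] at this
  refine this.mono ?_
  rintro M (rfl | hM)
  · exact ⟨_, Or.inl rfl, inf_le_right⟩
  · rw [Set.mem_singleton_iff] at hM
    subst hM
    exact ⟨_, Or.inr rfl, inf_le_right⟩

theorem inf_commutator_normCent_local (hW : IsConjugacyFunctor p W) (hV : IsConjugacyFunctor p V)
    {H P Q : Subgroup G} (hP : IsSylowIn p P H) (hQ : IsSylowIn p Q H)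
    (h : Q ⊓ ⁅H, H⁆ ≤ ⨆ M ∈ normCentIn W V H Q, Q ⊓ ⁅M, M⁆) :
    P ⊓ ⁅H, H⁆ ≤ ⨆ M ∈ normCent W V P, P ⊓ ⁅M, M⁆ := by
  obtain ⟨a, haH, ha⟩ := hP.exists_cj_eq hQ
  have h1 := cj_mono a h
  rw [cj_inf, map_commutator, cj_self_of_mem haH, ha] at h1
  refine h1.trans (map_le_iff_le_comap.mpr (iSup₂_le fun M hM => map_le_iff_le_comap.mp ?_))
  have hM' : a *• M ∈ normCentIn W V H P := by
    rw [← ha, ← map_normCentIn hW hV hQ.2.1 haH]
    exact Set.mem_image_of_mem _ hM
  rw [cj_inf, map_commutator, ha]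
  obtain ⟨M', hM'1, hle⟩ : ∃ M' ∈ normCent W V P, a *• M ≤ M' := by
    rcases hM' with h' | h'
    · exact ⟨_, Or.inl rfl, h'.le.trans inf_le_right⟩
    · exact ⟨_, Or.inr rfl, h'.le.trans inf_le_right⟩
  exact (inf_le_inf_left _ (commutator_mono hle hle)).trans
    (le_iSup₂ (f := fun M (_ : M ∈ normCent W V P) => P ⊓ ⁅M, M⁆) M' hM'1)

end CfsgLib.ConjFunctor
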