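import Cfsg.Agent.ConjFunctor.PComplementFunctor
import Cfsg.Agent.ConjFunctor.Transfer
import Cfsg.Agent.ConjFunctor.Pairing
import Cfsg.Agent.Solvable.Nilpotent

/-!
The critical groups of the functor forms of the normal `p`-complement theorem.
-/

set_option autoImplicit false

universe u

namespace CfsgLib.ConjFunctor

open Cfsg Subgroup CfsgLib.Transfer
open scoped commutatorElement

variable {p : ℕ} [Fact p.Prime] {W : ∀ (Q : Type u) [Group Q], Subgroup Q}

theorem pnil_quotient_congr {Y Z : Type u} [Group Y] [Group Z] [Finite Y] (e : Y ≃* Z)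
    (h : HasNormalPComplement p (Y ⧸ pCore p Y)) : HasNormalPComplement p (Z ⧸ pCore p Z) :=
  (hasNormalPComplement_congr
    (QuotientGroup.congr (pCore p Y) (pCore p Z) e (PLocal.map_pCore_equiv e))).1 h

section
variable {X : Type*} [Group X] [Finite X] {M R : Subgroup X}

/-- A `p`-subgroup `R` with `C(M) ⊔ R` normal centralises the minimal normal `p`-subgroup `M`. -/
theorem le_centralizer_of_sup_normal [M.Normal] (hMp : IsPGroup p M) (hM0 : M ≠ ⊥)
    (hmin : ∀ B : Subgroup X, B.Normal → B ≤ M → B = ⊥ ∨ B = M) (hR : IsPGroup p R)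
    (hn : (Subgroup.centralizer (M : Set X) ⊔ R).Normal) : R ≤ Subgroup.centralizer (M : Set X) := by
  let K := Subgroup.centralizer (M : Set X) ⊔ R
  have hKn : K.Normal := hn
  let E : Subgroup X := M ⊔ R
  have hEp : IsPGroup p E := IsPGroup.to_sup_of_normal_left hMp hR
  have : Group.IsNilpotent E := hEp.isNilpotent
  have hP0 : M.subgroupOf E ≠ ⊥ := by
    rw [Ne, subgroupOf_eq_bot, disjoint_iff, inf_of_le_left (le_sup_left : M ≤ E)]
    exact hM0
  have hne : M ⊓ Subgroup.centralizer (K : Set X) ≠ ⊥ := by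
    intro h
    refine Solvable.inf_center_ne_bot hP0 (eq_bot_iff.mpr fun z hz => ?_)
    have hz' : (z : X) ∈ M ⊓ Subgroup.centralizer (K : Set X) := by
      refine Subgroup.mem_inf.mpr ⟨hz.1, ?_⟩
      rw [← zpowers_le, le_centralizer_iff, sup_le_iff]
      constructor
      · intro c hc
        rw [Subgroup.mem_centralizer_iff]
        rintro _ ⟨i, rfl⟩
        exact Subgroup.mem_centralizer_iff.mp hc _ (M.zpow_mem hz.1 i)
      · intro k hk
        have := congrArg Subtype.val
          (Subgroup.mem_center_iff.mp hz.2 ⟨k, Subgroup.mem_sup_right hk⟩)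
        rw [Subgroup.mem_centralizer_iff]
        rintro _ ⟨i, rfl⟩
        exact ((show Commute (k : X) (z : X) from this).zpow_right i).eq.symm
    rw [h, mem_bot] at hz'
    exact Subtype.ext hz'
  rcases hmin (M ⊓ Subgroup.centralizer (K : Set X)) inferInstance inf_le_left with h | h
  · exact absurd h hne
  · intro r hr
    rw [Subgroup.mem_centralizer_iff]
    intro m hm
    exact (Subgroup.mem_centralizer_iff.mp (h.ge hm).2 r (Subgroup.mem_sup_right hr)).symm

open scoped IsMulCommutative in
/-- An element of vanishing norm on a minimal normal `p`-subgroup centralises the action of an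
abelian `p'`-group it normalises. -/
theorem commutator_mem_centralizer_of_engel [M.Normal] [IsMulCommutative M]
    (hexp : ∀ a ∈ M, a ^ p = 1) {K : Subgroup X} [K.Normal]
    (hab : ⁅K, K⁆ ≤ Subgroup.centralizer (M : Set X))
    (hcop : ∀ k ∈ K, ∃ n, ¬ p ∣ n ∧ k ^ n ∈ Subgroup.centralizer (M : Set X)) {g : X}
    (hg : ∀ a ∈ M, (fun y => ⁅g, y⁆)^[p - 1] a = 1) :
    ∀ k ∈ K, ⁅g, k⁆ ∈ Subgroup.centralizer (M : Set X) := by
  have hN : ∀ x : X, x ∈ Subgroup.normalizer (M : Set X) := fun x => by
    rw [normalizer_eq_top (H := M)]; trivial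
  let R := AddMonoid.End (Additive M)
  let ρ₀ : X →* R :=
    { toFun := fun x => conjEnd (hN x)
      map_one' := DFunLike.ext _ _ fun a => Additive.toMul.injective (Subtype.ext (by
        show (1 : X) * (a.toMul : X) * 1⁻¹ = _
        simp only [one_mul, inv_one, mul_one]
        rfl))
      map_mul' := fun x y => DFunLike.ext _ _ fun a => Additive.toMul.injective (Subtype.ext (by
        show x * y * (a.toMul : X) * (x * y)⁻¹ = x * (y * (a.toMul : X) * y⁻¹) * x⁻¹
        group)) }
  let ρ : X →* Rˣ := ρ₀.toHomUnits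
  have hker : ∀ x, ρ x = 1 ↔ x ∈ Subgroup.centralizer (M : Set X) := by
    intro x
    rw [Subgroup.mem_centralizer_iff]
    constructor
    · intro h m hm
      have h1 : conjEnd (hN x) (Additive.ofMul (⟨m, hm⟩ : M)) = Additive.ofMul (⟨m, hm⟩ : M) :=
        DFunLike.congr_fun (congrArg Units.val h) _
      have h2 : x * m * x⁻¹ = m :=
        congrArg (fun a : Additive M => (a.toMul : X)) h1
      exact (mul_inv_eq_iff_eq_mul.mp h2).symm
    · intro h
      refine Units.ext (DFunLike.ext _ _ fun a => Additive.toMul.injective (Subtype.ext ?_))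
      show x * (a.toMul : X) * x⁻¹ = _
      rw [← h _ a.toMul.2, mul_inv_cancel_right]
      rfl
  intro k hk
  rw [← hker, map_commutatorElement, commutatorElement_eq_one_iff_commute]
  refine commute_of_geomSum_eq_zero (p := p) ?_ (K.map ρ) ?_ (σ := ρ g) ?_ ?_ ?_ (ρ k)
    (mem_map_of_mem ρ hk)
  · refine DFunLike.ext _ _ fun a => ?_
    rw [addEnd_natCast_apply]
    refine Additive.toMul.injective (Subtype.ext ?_)
    simp [toMul_nsmul, hexp _ a.toMul.2]
    rfl
  · rintro _ ⟨a, ha, rfl⟩ _ ⟨b, hb, rfl⟩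
    refine commutatorElement_eq_one_iff_commute.mp ?_
    rw [← map_commutatorElement]
    exact (hker _).mpr (hab (commutator_mem_commutator ha hb))
  · refine Subgroup.le_normalizer_map ρ ⟨g, ?_, rfl⟩
    show g ∈ Subgroup.normalizer (K : Set X)
    rw [normalizer_eq_top (H := K)]; trivial
  · rintro _ ⟨a, ha, rfl⟩
    obtain ⟨n, hn, hna⟩ := hcop a ha
    refine Nat.Coprime.coprime_dvd_left (orderOf_dvd_of_pow_eq_one ?_)
      ((Nat.Prime.coprime_iff_not_dvd Fact.out).mpr hn).symm
    rw [← map_pow]
    exact (hker _).mpr hna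
  · exact conjEnd_geomSum_eq_zero (hN g) hexp hg

end

/-- In a critical group a nontrivial Engel element on a chief factor is impossible. -/
theorem false_of_engel_factor {G : Type u} [Group G] [Finite G] {S : Sylow p G}
    (hab : IsMulCommutative (pResidual p (G ⧸ pCore p G)))
    (hX : HasNormalPComplement p (G ⧸ pCore p G)) {g : G} (hgS : g ∈ (S : Subgroup G))
    {U V : Subgroup G} (hUV : IsChiefFactor U V) (hU : U ≤ pCore p G)
    (hE : ∀ u ∈ U, (fun y => ⁅g, y⁆)^[p - 1] u ∈ V) {u : G} (hu : u ∈ U) : ⁅g, u⁆ ∈ V := by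
  have hQp := PLocal.isPGroup_pCore p G
  obtain ⟨hlt, hUn, hVn, hmin⟩ := id hUV
  obtain ⟨habU, hexp⟩ := chiefFactor_elementary hUV (hQp.to_le hU)
  let π := QuotientGroup.mk' (pCore p G)
  let L := pResidual p (G ⧸ pCore p G)
  let K₀ : Subgroup G := L.comap π
  let f := QuotientGroup.mk' V
  have hfs : Function.Surjective f := QuotientGroup.mk'_surjective V
  let M := U.map f
  have hMn : M.Normal := hUn.map f hfs
  have hM : IsMulCommutative M := by
    rw [← le_centralizer_iff_isMulCommutative, ← commutator_eq_bot_iff_le_centralizer,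
      ← map_commutator, Subgroup.map_eq_bot_iff, QuotientGroup.ker_mk']
    exact habU
  have hM0 : M ≠ ⊥ := fun h => hlt.not_ge (by
    rw [Subgroup.map_eq_bot_iff, QuotientGroup.ker_mk'] at h; exact h)
  have hQC : (pCore p G).map f ≤ Subgroup.centralizer (M : Set (G ⧸ V)) := by
    rintro _ ⟨x, hx, rfl⟩
    rw [Subgroup.mem_centralizer_iff]
    rintro _ ⟨v, hv, rfl⟩
    refine (commutatorElement_eq_one_iff_commute.mp ?_).eq.symm
    rw [← map_commutatorElement]
    exact (QuotientGroup.eq_one_iff _).mpr (commutator_mem_of_chiefFactor hQp hUV hU hx hv)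
  have hK₀n : K₀.Normal := (inferInstance : L.Normal).comap π
  have hKn : (K₀.map f).Normal := hK₀n.map f hfs
  have hgoal := commutator_mem_centralizer_of_engel (p := p) (M := M) (K := K₀.map f) (g := f g)
    (fun a ⟨v, hv, hva⟩ => by
      rw [← hva, ← map_pow]; exact (QuotientGroup.eq_one_iff _).mpr (hexp v hv))
    (by
      rw [← map_commutator]
      refine (map_mono ?_).trans hQC
      rw [commutator_le]
      intro a ha b hb
      rw [← QuotientGroup.eq_one_iff]
      show π ⁅a, b⁆ = 1
      rw [map_commutatorElement, commutatorElement_eq_one_iff_mul_comm]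
      exact congrArg Subtype.val (mul_comm' (⟨π a, ha⟩ : L) ⟨π b, hb⟩))
    (by
      rintro _ ⟨a, ha, rfl⟩
      refine ⟨Nat.card L, hasNormalPComplement_iff.1 hX, ?_⟩
      rw [← map_pow]
      refine hQC (mem_map_of_mem f ?_)
      rw [← QuotientGroup.eq_one_iff]
      show π (a ^ Nat.card L) = 1
      rw [map_pow]
      exact congrArg Subtype.val (pow_card_eq_one' (x := (⟨π a, ha⟩ : L))))
    (by
      rintro _ ⟨v, hv, rfl⟩
      rw [← map_iterate_commutator]
      exact (QuotientGroup.eq_one_iff _).mpr (hE v hv))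
  let C := Subgroup.centralizer (M : Set (G ⧸ V))
  let Kb := K₀.map f
  let Sb := (S : Subgroup G).map f
  -- elements of `Sb` centralising `Kb` modulo `C`
  let qc := QuotientGroup.mk' C
  let Rb : Subgroup (G ⧸ V) :=
    Sb ⊓ (Subgroup.centralizer ((Kb.map qc : Subgroup _) : Set ((G ⧸ V) ⧸ C))).comap qc
  have hKSb : Kb ⊔ Sb = ⊤ := by
    rw [← Subgroup.map_sup, ← Subgroup.map_top_of_surjective f hfs]
    refine congrArg (Subgroup.map f) (top_le_iff.1 fun x _ => ?_)
    have h1 := sylow_sup_pResidual (S.mapSurjective (QuotientGroup.mk'_surjective (pCore p G)))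
    rw [Sylow.coe_mapSurjective] at h1
    obtain ⟨_, ⟨s, hs, rfl⟩, l, hl, hsl⟩ := mem_sup_of_normal_right.1 (h1 ▸ mem_top (π x))
    have hxs : π (s⁻¹ * x) ∈ L := by rw [map_mul, map_inv, ← hsl, inv_mul_cancel_left]; exact hl
    have h2 := (K₀ ⊔ (S : Subgroup G)).mul_mem (Subgroup.mem_sup_right hs) (Subgroup.mem_sup_left hxs)
    rwa [mul_inv_cancel_left] at h2
  have hKc : ((Subgroup.centralizer ((Kb.map qc : Subgroup _) : Set ((G ⧸ V) ⧸ C))).comap qc).Normal := by
    have := (hKn.map qc (QuotientGroup.mk'_surjective C))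
    infer_instance
  have hsup : (C ⊔ Rb).Normal := by
    rw [← normalizer_eq_top_iff, eq_top_iff, ← hKSb, sup_le_iff]
    constructor
    · intro k hk
      refine mem_normalizer_of_cj_le ?_
      rw [Subgroup.map_sup, cj_eq_of_mem_normalizer (T := C) (by rw [normalizer_eq_top (H := C)]; trivial)]
      refine sup_le le_sup_left ?_
      rintro _ ⟨r, hr, rfl⟩
      have hc : ⁅k, r⁆ ∈ C := by
        rw [← QuotientGroup.eq_one_iff, ← QuotientGroup.mk'_apply, map_commutatorElement,
          commutatorElement_eq_one_iff_commute]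
        exact Subgroup.mem_centralizer_iff.mp hr.2 _ (mem_map_of_mem qc hk)
      have := (C ⊔ Rb).mul_mem (Subgroup.mem_sup_left hc) (Subgroup.mem_sup_right hr)
      simpa [commutatorElement_def] using this
    · intro s hs
      refine mem_normalizer_of_cj_le ?_
      rw [Subgroup.map_sup, cj_eq_of_mem_normalizer (T := C) (by rw [normalizer_eq_top (H := C)]; trivial)]
      refine sup_le le_sup_left (le_sup_of_le_right ?_)
      rintro _ ⟨r, hr, rfl⟩
      exact ⟨Sb.mul_mem (Sb.mul_mem hs hr.1) (Sb.inv_mem hs), hKc.conj_mem r hr.2 s⟩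
  have hRC : Rb ≤ C := by
    refine le_centralizer_of_sup_normal ((hQp.to_le hU).map f) hM0 (fun B hB hBM => ?_)
      ((S.isPGroup'.map f).to_le inf_le_left) hsup
    rcases hmin (B.comap f) (hB.comap f) (by
        conv_lhs => rw [← QuotientGroup.ker_mk' V]
        exact ker_le_comap f B)
      ((comap_mono hBM).trans (by
        rw [comap_map_eq, QuotientGroup.ker_mk']; exact sup_le le_rfl hlt.le)) with h | h
    · left
      rw [← map_comap_eq_self_of_surjective hfs B, h, Subgroup.map_eq_bot_iff, QuotientGroup.ker_mk']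
    · right
      rw [← map_comap_eq_self_of_surjective hfs B, h]
  have hgC : f g ∈ C := hRC ⟨mem_map_of_mem f hgS, Subgroup.mem_centralizer_iff.mpr (by
    rintro _ ⟨k, hk, rfl⟩
    refine (commutatorElement_eq_one_iff_commute.mp ?_).eq.symm
    rw [← map_commutatorElement]
    exact (QuotientGroup.eq_one_iff _).mpr (hgoal k hk))⟩
  rw [← QuotientGroup.eq_one_iff, ← QuotientGroup.mk'_apply, map_commutatorElement,
    commutatorElement_eq_one_iff_commute]
  exact (Subgroup.mem_centralizer_iff.mp hgC _ (mem_map_of_mem f hu)).symm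

end CfsgLib.ConjFunctor
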