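import Cfsg.Agent.ConjFunctor.PComplement
import Cfsg.Agent.ConjFunctor.MainCor
import Cfsg.Agent.Transfer.GlaubermanThompson

/-!
Normal `p`-complements from the normalizer of a functor value, and groups acting on an abelian
section through an abelian `p'`-group with an element of vanishing norm.
-/

set_option autoImplicit false

universe u

namespace CfsgLib.ConjFunctor

open Cfsg Subgroup CfsgLib.Transfer

variable {p : ℕ} [Fact p.Prime] {W : ∀ (Q : Type u) [Group Q], Subgroup Q}

/-- The criterion: the normalizer of the functor value has a normal `p`-complement. -/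
def NormalizerPNil (p : ℕ) (W : ∀ (Q : Type u) [Group Q], Subgroup Q) (G : Type u) [Group G]
    (S : Subgroup G) : Prop :=
  HasNormalPComplement p (Subgroup.normalizer (inducedFunctor (G := G) W S : Set G))

theorem normalizerPNil_functor (hW : IsCharPFunctor.{u} p W) (G₀ : Type u) [Group G₀] :
    PComplement.Functor p (fun G [Group G] S => NormalizerPNil p W G S)
      (fun G [Group G] => Involves G G₀) where
  okSub G _ _ H h := involves_trans h (involves_subgroup H)
  okQuot G _ _ N _ h := involves_trans h (involves_quotient N)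
  sub G _ _ S H h hSH := by
    unfold NormalizerPNil at h ⊢
    have e := inducedFunctor_map hW H.subtype (P := (S : Subgroup G).subgroupOf H)
      S.isPGroup'.comap_subtype H.subtype_injective.injOn
    rw [map_subgroupOf_eq_of_le hSH] at e
    rw [e] at h
    exact GlaubermanThompson.pnil_normalizer_of_map H.subtype H.subtype_injective
      (hasNormalPComplement_of_injective h (H.subtype.subgroupComap _)
        fun a b hab => Subtype.ext (H.subtype_injective (congrArg Subtype.val hab :)))
  quot G _ _ S N _ hN h := by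
    have hinj : Set.InjOn (QuotientGroup.mk' N) (S : Subgroup G) := fun a ha b hb hab => by
      have := GlaubermanThompson.inj_of_coprime S N hN (a₁ := ⟨a, ha⟩) (a₂ := ⟨b, hb⟩) hab
      exact congrArg Subtype.val this
    unfold NormalizerPNil at h ⊢
    rw [inducedFunctor_map hW _ S.isPGroup' hinj]
    exact GlaubermanThompson.pnil_normalizer_image N hN
      (S.isPGroup'.to_le (inducedFunctor_le _)) h
  norm G _ _ S h :=
    hasNormalPComplement_of_le
      (normalizer_le_normalizer_functor (isConjugacyFunctor_induced hW) S.isPGroup') h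
  witness G H _ _ _ _ f hf R hR hcond := by
    have hWG := isConjugacyFunctor_induced (G := G) hW
    have hRp := R.isPGroup'.map f
    refine ⟨inducedFunctor W ((R : Subgroup H).map f), inducedFunctor_le _,
      functor_ne_bot hWG hRp (by rwa [Ne, Subgroup.map_eq_bot_iff_of_injective _ hf]),
      normalizer_le_normalizer_functor hWG hRp, fun hW' => hcond ?_⟩
    rw [inducedFunctor_map hW f R.isPGroup' hf.injOn] at hW'
    exact GlaubermanThompson.pnil_normalizer_of_map f hf hW'

/-- In a critical group the functor value is not normal. -/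
theorem not_normal_of_critical {G₀ : Type u} [Group G₀] {G : Type u} [Group G] [Finite G]
    {S : Sylow p G}
    (h : PComplement.Critical p (fun G [Group G] S => NormalizerPNil p W G S)
      (fun G [Group G] => Involves G G₀) G S) :
    ¬ (inducedFunctor (G := G) W (S : Subgroup G)).Normal := fun hn => h.not_pnil (by
  have h1 : HasNormalPComplement p
      (Subgroup.normalizer (inducedFunctor (G := G) W (S : Subgroup G) : Set G)) := h.cond
  rw [Subgroup.normalizer_eq_top_iff.mpr hn] at h1
  exact (hasNormalPComplement_congr Subgroup.topEquiv).1 h1)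

theorem hasNormalPComplement_of_functor (hW : IsCharPFunctor.{u} p W) {G₀ : Type u} [Group G₀]
    [Finite G₀] (S₀ : Sylow p G₀) (h : NormalizerPNil p W G₀ (S₀ : Subgroup G₀))
    (hcrit : ∀ (G : Type u) [Group G] [Finite G] (S : Sylow p G),
      PComplement.Critical p (fun G [Group G] S => NormalizerPNil p W G S)
        (fun G [Group G] => Involves G G₀) G S → False) : HasNormalPComplement p G₀ :=
  PComplement.hasNormalPComplement_of_critical (normalizerPNil_functor hW G₀) hcrit _ G₀ le_rfl
    (involves_equiv (MulEquiv.refl G₀)) S₀ h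

/-! ### An abelian `p'`-group of units and an element of vanishing norm -/

theorem commute_of_geomSum_eq_zero {R : Type*} [Ring R] {p : ℕ} [Fact p.Prime] (hp : (p : R) = 0)
    (H : Subgroup Rˣ) (hH : ∀ a ∈ H, ∀ b ∈ H, Commute a b) {σ : Rˣ}
    (hσ : σ ∈ Subgroup.normalizer (H : Set Rˣ)) (hcop : ∀ a ∈ H, (orderOf a).Coprime p)
    (hsum : ∑ j ∈ Finset.range p, (σ : R) ^ j = 0) : ∀ a ∈ H, Commute σ a := by
  have hσp : σ ^ p = 1 := by
    refine Units.ext ?_
    have h1 := geom_sum_mul (σ : R) p
    rw [hsum, zero_mul] at h1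
    rw [Units.val_pow_eq_pow_val, Units.val_one]
    exact (sub_eq_zero.mp h1.symm)
  have hconj : ∀ (i : ℕ), ∀ a ∈ H, σ ^ i * a * (σ ^ i)⁻¹ ∈ H := fun i a ha =>
    (Subgroup.mem_normalizer_iff.mp (Subgroup.pow_mem _ hσ i) a).mp ha
  intro a ha
  let k : Rˣ := a⁻¹ * (σ * a * σ⁻¹)
  have hk : k ∈ H := H.mul_mem (H.inv_mem ha) (by simpa using hconj 1 a ha)
  -- `k` is a `σ ^ i`-commutator for every `i` prime to `p`
  have himg : ∀ i : ℕ, 0 < i → i < p → ∃ b ∈ H, b⁻¹ * (σ ^ i * b * (σ ^ i)⁻¹) = k := by
    intro i hi0 hip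
    have hcp : i.Coprime p :=
      ((Nat.Prime.coprime_iff_not_dvd Fact.out).mpr (Nat.not_dvd_of_pos_of_lt hi0 hip)).symm
    have hord : orderOf σ ∣ p := orderOf_dvd_of_pow_eq_one hσp
    obtain ⟨l, hl⟩ := exists_pow_eq_self_of_coprime (x := σ) (n := i) (hcp.coprime_dvd_right hord)
    suffices key : ∀ l : ℕ, ∃ b ∈ H,
        b⁻¹ * (σ ^ i * b * (σ ^ i)⁻¹) = a⁻¹ * ((σ ^ i) ^ l * a * ((σ ^ i) ^ l)⁻¹) by
      obtain ⟨b, hb, hbe⟩ := key l
      exact ⟨b, hb, hbe.trans (by rw [hl])⟩
    intro l
    induction l with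
    | zero => exact ⟨1, H.one_mem, by simp⟩
    | succ l ih =>
      obtain ⟨b, hb, hbe⟩ := ih
      have hc : (σ ^ i) ^ l * a * ((σ ^ i) ^ l)⁻¹ ∈ H := by rw [← pow_mul]; exact hconj _ a ha
      set c := (σ ^ i) ^ l * a * ((σ ^ i) ^ l)⁻¹ with hcdef
      refine ⟨b * c, H.mul_mem hb hc, ?_⟩
      have e : (σ ^ i) ^ (l + 1) * a * ((σ ^ i) ^ (l + 1))⁻¹ = σ ^ i * c * (σ ^ i)⁻¹ := by
        rw [hcdef, pow_succ']; group
      have hs := hconj i c hc
      have hsb := hconj i b hb
      rw [e]
      calc (b * c)⁻¹ * (σ ^ i * (b * c) * (σ ^ i)⁻¹)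
          = c⁻¹ * (b⁻¹ * (σ ^ i * b * (σ ^ i)⁻¹)) * (σ ^ i * c * (σ ^ i)⁻¹) := by group
        _ = c⁻¹ * (a⁻¹ * c) * (σ ^ i * c * (σ ^ i)⁻¹) := by rw [hbe]
        _ = a⁻¹ * (σ ^ i * c * (σ ^ i)⁻¹) := by
          rw [(hH _ (H.inv_mem ha) c hc).eq, inv_mul_cancel_left]
  have main : ∀ m : ℕ, m + 1 ≤ p → ∀ c : ℕ → R, (∀ j, ∀ b ∈ H, Commute (c j) (b : R)) →
      ∑ j ∈ Finset.range (m + 1), c j * (σ : R) ^ j = 0 → c 0 * (1 - (k : R)) ^ m = 0 := by
    intro m
    induction m with
    | zero => intro _ c _ h; simpa using h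
    | succ m ih =>
      intro hm c hc h
      obtain ⟨b, hb, hbk⟩ := himg (m + 1) (by omega) (by omega)
      let g : ℕ → Rˣ := fun j => σ ^ j * b * (σ ^ j)⁻¹
      have hg : ∀ j, g j ∈ H := fun j => hconj j b hb
      let c' : ℕ → R := fun j => c j * (g j : R) - (g (m + 1) : R) * c j
      have hc' : ∀ j, ∀ e ∈ H, Commute (c' j) (e : R) := fun j e he => by
        have h1 : ∀ i, Commute (g i : R) (e : R) := fun i => by
          have := (hH _ (hg i) e he).eq
          exact congrArg Units.val this
        exact ((hc j e he).mul_left (h1 j)).sub_left ((h1 (m + 1)).mul_left (hc j e he))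
      have h0 : ∑ j ∈ Finset.range (m + 1), c' j * (σ : R) ^ j = 0 := by
        have e1 : ∀ j, c j * (g j : R) * (σ : R) ^ j = c j * (σ : R) ^ j * (b : R) := fun j => by
          have : g j * σ ^ j = σ ^ j * b := inv_mul_cancel_right _ _
          rw [mul_assoc, mul_assoc, ← Units.val_pow_eq_pow_val, ← Units.val_mul, this, Units.val_mul]
        have h2 : ∑ j ∈ Finset.range (m + 2), c' j * (σ : R) ^ j = 0 := by
          simp only [c', sub_mul, e1, mul_assoc (g (m + 1) : R)]
          rw [Finset.sum_sub_distrib, ← Finset.sum_mul, ← Finset.mul_sum, h, zero_mul, mul_zero,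
            sub_zero]
        rw [Finset.sum_range_succ, show c' (m + 1) = 0 from sub_eq_zero.mpr (hc _ _ (hg _)).eq,
          zero_mul, add_zero] at h2
        exact h2
      have h1 := ih (by omega) c' hc' h0
      have e2 : c' 0 = c 0 * (b : R) * (1 - (k : R)) := by
        have hgk : g (m + 1) = b * k := by rw [← hbk, mul_inv_cancel_left]
        show c 0 * ((g 0 : Rˣ) : R) - (g (m + 1) : R) * c 0 = _
        rw [show g 0 = b by simp [g], hgk, ← (hc 0 _ (H.mul_mem hb hk)).eq, Units.val_mul,
          mul_sub, mul_one, ← mul_assoc]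
      rw [e2, (hc 0 b hb).eq, mul_assoc, mul_assoc, ← pow_succ'] at h1
      exact (Units.mul_right_eq_zero b).mp h1
  have h1 : (1 - (k : R)) ^ (p - 1) = 0 := by
    have := main (p - 1) (by have := (Fact.out : p.Prime).pos; omega) (fun _ => 1)
      (fun _ b _ => Commute.one_left _)
      (by rw [Nat.sub_add_cancel (Fact.out : p.Prime).one_lt.le]; simpa using hsum)
    simpa using this
  have hk1 : k = 1 := by
    refine orderOf_eq_one_iff.mp (Nat.eq_one_of_dvd_coprimes (hcop k hk) dvd_rfl ?_)
    refine orderOf_dvd_of_pow_eq_one (Units.ext ?_)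
    rw [Units.val_pow_eq_pow_val, Units.val_one]
    rcases subsingleton_or_nontrivial R with hs | hn
    · exact Subsingleton.elim _ _
    have : CharP R p := (CharP.charP_iff_prime_eq_zero Fact.out).mpr hp
    have h2 : (1 - (k : R)) ^ p = 0 := pow_eq_zero_of_le (Nat.sub_le p 1) h1
    rw [sub_pow_char_of_commute p (Commute.one_left _), one_pow, sub_eq_zero] at h2
    exact h2.symm
  have h3 : σ * a * σ⁻¹ = a := by
    rw [show σ * a * σ⁻¹ = a * k from (mul_inv_cancel_left _ _).symm, hk1, mul_one]
  exact mul_inv_eq_iff_eq_mul.mp h3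

end CfsgLib.ConjFunctor
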