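import Cfsg.Agent.ConjFunctor.Corollaries
import Cfsg.Agent.WeakClosed.Characteristic
import Mathlib.GroupTheory.Transfer

/-!
For `p ≥ 5`: if the `p'`-elements of `N(S)` centralise the Sylow subgroup `S ≠ 1` then `S` is not
contained in the derived subgroup (Glauberman, by K-infinity transfer).
-/

set_option autoImplicit false

universe u

namespace CfsgLib.ConjFunctor

open Cfsg Subgroup

variable {p : ℕ} [hp : Fact p.Prime]

/-- An element of `G` is a product of a `p'`-element and a `p`-element, both powers of it. -/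
theorem top_le_of_pParts {G : Type*} [Group G] [Finite G] {H : Subgroup G}
    (h1 : ∀ g : G, (orderOf g).Coprime p → g ∈ H) (h2 : ∀ g : G, IsPGroup p (zpowers g) → g ∈ H) :
    H = ⊤ := by
  refine eq_top_iff.mpr fun g _ => ?_
  obtain ⟨e, m, hm, he⟩ := Nat.exists_eq_pow_mul_and_not_dvd (orderOf_pos g).ne' p hp.out.ne_one
  have hco : Nat.Coprime (p ^ e) m :=
    Nat.Coprime.pow_left _ (hp.out.coprime_iff_not_dvd.mpr hm)
  obtain ⟨j, hj1, hj0⟩ := Nat.chineseRemainder hco 1 0
  obtain ⟨k, hk0, hk1⟩ := Nat.chineseRemainder hco 0 1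
  have hord : ∀ a : ℕ, a ≡ 1 [MOD p ^ e] → a ≡ 0 [MOD m] → g ^ a ∈ H := by
    intro a _ ha0
    obtain ⟨c, rfl⟩ := Nat.modEq_zero_iff_dvd.mp ha0
    refine h2 _ (IsPGroup.of_card (n := (orderOf (g ^ (m * c))).factorization p) ?_)
    rw [Nat.card_zpowers]
    have hd : orderOf (g ^ (m * c)) ∣ p ^ e := by
      refine orderOf_dvd_of_pow_eq_one ?_
      rw [← pow_mul, show m * c * p ^ e = orderOf g * c by rw [he]; ring, pow_mul,
        pow_orderOf_eq_one, one_pow]
    obtain ⟨i, -, hi⟩ := (Nat.dvd_prime_pow hp.out).mp hd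
    rw [hi, hp.out.factorization_pow, Finsupp.single_eq_same]
  have hk : g ^ k ∈ H := by
    obtain ⟨c, rfl⟩ := Nat.modEq_zero_iff_dvd.mp hk0
    refine h1 _ (Nat.Coprime.coprime_dvd_left (orderOf_dvd_of_pow_eq_one (n := m) ?_)
      ((hp.out.coprime_iff_not_dvd.mpr hm).symm))
    rw [← pow_mul, show p ^ e * c * m = orderOf g * c by rw [he]; ring, pow_mul,
      pow_orderOf_eq_one, one_pow]
  have hjk : g ^ (j + k) = g := by
    have : j + k ≡ 1 [MOD orderOf g] := by
      rw [he]
      refine (Nat.modEq_and_modEq_iff_modEq_mul hco).mp ⟨?_, ?_⟩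
      · simpa using hj1.add hk0
      · simpa using hj0.add hk1
    conv_rhs => rw [← pow_one g]
    exact pow_eq_pow_iff_modEq.mpr this
  rw [← hjk, pow_add]
  exact mul_mem (hord j hj1 hj0) hk

theorem not_le_commutator_aux (hp5 : 5 ≤ p) (n : ℕ) :
    ∀ (G : Type u) [Group G] [Finite G], Nat.card G = n → ∀ S : Sylow p G,
      (S : Subgroup G) ≠ ⊥ →
      (∀ g ∈ normalizer ((S : Subgroup G) : Set G), (orderOf g).Coprime p →
        g ∈ centralizer ((S : Subgroup G) : Set G)) →
      ¬ (S : Subgroup G) ≤ commutator G := by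
  induction n using Nat.strong_induction_on with
  | _ n ih =>
  intro G _ _ hn S hne hN hle
  subst hn
  -- quotients
  have hquot : ∀ (K : Subgroup G) [K.Normal], K ≠ ⊥ → K < (S : Subgroup G) → False := by
    intro K _ hK hKS
    let q := QuotientGroup.mk' K
    have hq := QuotientGroup.mk'_surjective K
    let T : Sylow p (G ⧸ K) := S.mapSurjective hq
    have hT : (T : Subgroup (G ⧸ K)) = (S : Subgroup G).map q := rfl
    have hcom : ((S : Subgroup G).map q).comap q = (S : Subgroup G) := by
      rw [comap_map_eq, QuotientGroup.ker_mk', sup_eq_left.mpr hKS.le]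
    have hlt : Nat.card (G ⧸ K) < Nat.card G := by
      rw [Subgroup.card_eq_card_quotient_mul_card_subgroup K]
      exact lt_mul_of_one_lt_right Nat.card_pos (by
        have : Nat.card K ≠ 1 := fun h => hK (card_eq_one.mp h)
        have : 0 < Nat.card K := Nat.card_pos
        omega)
    refine ih _ hlt (G ⧸ K) rfl T ?_ ?_ ?_
    · rw [hT, Ne, Subgroup.map_eq_bot_iff, QuotientGroup.ker_mk']
      exact hKS.not_ge
    · intro y hy hyp
      obtain ⟨x, rfl, hxp⟩ := CfsgLib.WeakClosed.exists_coprime_lift (p := p) q (hq y) hyp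
      have hxN : x ∈ normalizer ((S : Subgroup G) : Set G) := by
        refine mem_normalizer_iff.mpr fun s => ?_
        rw [← hcom, mem_comap, mem_comap, map_mul, map_mul, map_inv]
        exact mem_normalizer_iff.mp hy (q s)
      have hxC := hN x hxN hxp
      rw [hT]
      refine mem_centralizer_iff.mpr ?_
      rintro _ ⟨s, hs, rfl⟩
      rw [← map_mul, ← map_mul, mem_centralizer_iff.mp hxC s hs]
    · rw [hT]
      refine (map_mono hle).trans ?_
      rw [_root_.commutator_def, Subgroup.map_commutator]
      exact commutator_mono le_top le_top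
  set W : ∀ (Q : Type u) [Group Q], Subgroup Q := fun Q [Group Q] => kInfLower Q with hWdef
  have hWc : IsCharPFunctor.{u} p W := isCharPFunctor_kInfLower
  set K := inducedFunctor (G := G) W (S : Subgroup G) with hKdef
  have hfoc := inf_commutator_eq_kInf hp5 (W := W) (Or.inl rfl) (isSylowIn_top S)
  have hKS : K ≤ (S : Subgroup G) := functor_le (isConjugacyFunctor_induced hWc) S.2
  have hSN : (S : Subgroup G) ≤ normalizer (K : Set G) :=
    le_normalizer_functor (isConjugacyFunctor_induced hWc) S.2
  by_cases hNtop : normalizer (K : Set G) = ⊤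
  · -- `K` is normal
    haveI hKn : K.Normal := normalizer_eq_top_iff.mp hNtop
    have hK : K ≠ ⊥ := by
      haveI : Nontrivial ↥(S : Subgroup G) := (Subgroup.nontrivial_iff_ne_bot _).mpr hne
      haveI : Group.IsNilpotent ↥(S : Subgroup G) := S.2.isNilpotent
      intro hK
      haveI := S.2.center_nontrivial
      obtain ⟨z, hz⟩ := exists_ne (1 : center ↥(S : Subgroup G))
      have hzS : ((z : ↥(S : Subgroup G)) : G) ∈ (S : Subgroup G) ⊓
          centralizer ((S : Subgroup G) : Set G) :=
        ⟨z.1.2, mem_centralizer_iff.mpr fun s hs =>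
          congrArg Subtype.val (Subgroup.mem_center_iff.mp z.2 ⟨s, hs⟩)⟩
      have := (center_le_inducedFunctor_kInf S.2).1 hzS
      rw [show inducedFunctor kInfLower (S : Subgroup G) = K from rfl, hK, mem_bot] at this
      exact hz (Subtype.ext (Subtype.ext this))
    rcases eq_or_lt_of_le hKS with hKe | hKl
    swap
    · exact hquot K hK hKl
    -- `S` is normal
    haveI hSn : (S : Subgroup G).Normal := hKe ▸ hKn
    have hlt : ⁅(S : Subgroup G), (S : Subgroup G)⁆ < (S : Subgroup G) := by
      haveI : Group.IsNilpotent ↥(S : Subgroup G) := S.2.isNilpotent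
      haveI : Nontrivial ↥(S : Subgroup G) := (Subgroup.nontrivial_iff_ne_bot _).mpr hne
      refine lt_of_le_of_ne (commutator_le_self _) fun h => ?_
      refine (Group.IsSolvable.commutator_lt_top_of_nontrivial ↥(S : Subgroup G)).ne ?_
      apply map_injective (S : Subgroup G).subtype_injective
      rw [map_subtype_commutator, h, ← MonoidHom.range_eq_map, range_subtype]
    by_cases hab : ⁅(S : Subgroup G), (S : Subgroup G)⁆ = ⊥
    swap
    · exact hquot _ hab hlt
    have hc : centralizer ((S : Subgroup G) : Set G) = ⊤ := by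
      have hNS : normalizer ((S : Subgroup G) : Set G) = ⊤ := normalizer_eq_top_iff.mpr hSn
      refine top_le_of_pParts (p := p) (fun g hg => hN g (hNS ▸ mem_top g) hg) fun g hg => ?_
      obtain ⟨Q, hQ⟩ := hg.exists_le_sylow
      letI := Sylow.unique_of_normal S hSn
      have hQS : Q = S := Subsingleton.elim Q S
      exact commutator_eq_bot_iff_le_centralizer.mp hab (hQS ▸ hQ (mem_zpowers g))
    have hcomp := MonoidHom.ker_transferSylow_isComplement' S
      ((le_top : normalizer ((S : Subgroup G) : Set G) ≤ ⊤).trans hc.ge)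
    refine hne (le_bot_iff.mp ?_)
    have hsub : commutator G ≤
        (MonoidHom.transferSylow S ((le_top : normalizer ((S : Subgroup G) : Set G) ≤ ⊤).trans hc.ge)).ker := by
      rw [_root_.commutator_def, Subgroup.commutator_le]
      intro a _ b _
      rw [MonoidHom.mem_ker, map_commutatorElement]
      refine commutatorElement_eq_one_iff_commute.mpr ?_
      exact Subtype.ext (mem_centralizer_iff.mp
        (commutator_eq_bot_iff_le_centralizer.mp hab (SetLike.coe_mem _)) _ (SetLike.coe_mem _))
    exact (le_inf (hle.trans hsub) le_rfl).trans hcomp.disjoint.le_bot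
  · -- induction in `N(K)`
    set N := normalizer (K : Set G) with hNdef
    let S' : Sylow p N := S.subtype hSN
    have hS' : (S' : Subgroup N).map N.subtype = (S : Subgroup G) := map_subgroupOf_eq_of_le hSN
    refine ih (Nat.card N) (lt_of_le_of_ne (Subgroup.card_le_card_group N)
      fun h => hNtop (eq_top_of_card_eq N h)) N rfl S' ?_ ?_ ?_
    · intro h
      exact hne (by rw [← hS', h, Subgroup.map_bot])
    · intro g hg hgp
      have hgN : (g : G) ∈ normalizer ((S : Subgroup G) : Set G) := by
        rw [← hS']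
        exact Subgroup.le_normalizer_map N.subtype ⟨g, hg, rfl⟩
      have hgC := hN g hgN (by rwa [orderOf_coe])
      exact mem_centralizer_iff.mpr fun s hs =>
        Subtype.ext (mem_centralizer_iff.mp hgC s (hS' ▸ ⟨s, hs, rfl⟩))
    · intro s hs
      have h1 : (s : G) ∈ (S : Subgroup G) ⊓ commutator G :=
        ⟨hS' ▸ ⟨s, hs, rfl⟩, hle (hS' ▸ ⟨s, hs, rfl⟩)⟩
      rw [hfoc] at h1
      have h2 : (s : G) ∈ (commutator N).map N.subtype := by
        rw [map_subtype_commutator]; exact h1.2
      obtain ⟨t, ht, hts⟩ := h2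
      exact Subtype.ext hts ▸ ht

/-- `p ≥ 5`: if `N(S)/C(S)` is a `p`-group then `S ≰ G'`. -/
theorem not_le_commutator_of_automizer (hp5 : 5 ≤ p) {G : Type u} [Group G] [Finite G]
    (S : Sylow p G) (hne : (S : Subgroup G) ≠ ⊥)
    (hN : ∀ g ∈ normalizer ((S : Subgroup G) : Set G), (orderOf g).Coprime p →
      g ∈ centralizer ((S : Subgroup G) : Set G)) :
    ¬ (S : Subgroup G) ≤ commutator G :=
  not_le_commutator_aux hp5 _ G rfl S hne hN

end CfsgLib.ConjFunctor
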