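import Cfsg.Agent.ConjFunctor.Transfer
import Mathlib.GroupTheory.SchurZassenhaus

/-!
A functor controlling transfer in all sections detects normal subgroups of index `p` in the
normalizer of a Sylow subgroup.
-/

set_option autoImplicit false

universe u

namespace CfsgLib.ConjFunctor

open Cfsg Subgroup
open scoped commutatorElement

variable {p : ℕ} [Fact p.Prime]

/-- `S ≰ G'` gives a normal subgroup of index `p`. -/
theorem exists_normal_index_of_not_le_commutator {X : Type*} [Group X] [Finite X] {S : Subgroup X}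
    (hS : IsPGroup p S) (h : ¬ S ≤ commutator X) : ∃ N : Subgroup X, N.Normal ∧ N.index = p := by
  let A := Abelianization X
  let B : Subgroup A := (powMonoidHom p : A →* A).range
  have hB : B ≠ ⊤ := by
    intro htop
    obtain ⟨s, hs, hs'⟩ := SetLike.not_le_iff_exists.mp h
    have hinj : Function.Injective (powMonoidHom p : A →* A) :=
      Finite.injective_iff_surjective.mpr (MonoidHom.range_eq_top.mp htop)
    obtain ⟨k, hk⟩ := hS ⟨s, hs⟩
    have hs1 : ∀ k : ℕ, ∀ a : A, a ^ p ^ k = 1 → a = 1 := by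
      intro k
      induction k with
      | zero => intro a ha; simpa using ha
      | succ k ih =>
        intro a ha
        exact hinj (by rw [map_one, powMonoidHom_apply]; exact ih _ (by rw [← pow_mul, ← pow_succ']; exact ha))
    refine hs' ((QuotientGroup.eq_one_iff s).mp (hs1 k (Abelianization.of s) ?_))
    rw [← map_pow, show s ^ p ^ k = 1 from congrArg Subtype.val hk, map_one]
  let f : X →* A ⧸ B := (QuotientGroup.mk' B).comp Abelianization.of
  have hf : Function.Surjective f :=
    (QuotientGroup.mk'_surjective B).comp (QuotientGroup.mk'_surjective _)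
  have hp : IsPGroup p (A ⧸ B) := fun a => ⟨1, by
    obtain ⟨a, rfl⟩ := QuotientGroup.mk'_surjective B a
    rw [← map_pow, pow_one]
    exact (QuotientGroup.eq_one_iff _).mpr ⟨a, rfl⟩⟩
  have hne : (⊥ : Subgroup (A ⧸ B)) ≠ ⊤ := by
    intro h
    refine hB (eq_top_iff.mpr fun a _ => ?_)
    have : QuotientGroup.mk' B a ∈ (⊥ : Subgroup (A ⧸ B)) := h ▸ Subgroup.mem_top _
    exact (QuotientGroup.eq_one_iff a).mp (mem_bot.mp this)
  obtain ⟨M, -, hM, hidx⟩ := exists_normal_index_eq hp hne
  exact ⟨M.comap f, hM.comap f, by rw [index_comap_of_surjective _ hf, hidx]⟩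

/-- A normal Sylow subgroup centralised by the `p'`-elements meets `G'` in `S'`. -/
theorem inf_commutator_le_of_normal {X : Type*} [Group X] [Finite X] {S : Subgroup X}
    (hS : IsSylowIn p S ⊤) [S.Normal]
    (hN : ∀ g : X, (orderOf g).Coprime p → g ∈ Subgroup.centralizer (S : Set X)) :
    S ⊓ commutator X ≤ ⁅S, S⁆ := by
  obtain ⟨m, hm⟩ := IsPGroup.iff_card.mp hS.2.1
  have hidx : ¬ p ∣ S.index := by rw [← relIndex_top_right]; exact hS.2.2
  have hpi : S.index.Coprime p := (Nat.Prime.coprime_iff_not_dvd Fact.out).mpr hidx |>.symm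
  obtain ⟨K, hK⟩ := Subgroup.exists_right_complement'_of_coprime (N := S)
    (by rw [hm]; exact (hpi.pow_right m).symm)
  intro x hx
  refine mem_of_transfer hS le_rfl hx.1 hx.2 fun k g _ => ?_
  obtain ⟨⟨s, c⟩, rfl⟩ := hK.2 g
  have hcC : (c : X) ∈ Subgroup.centralizer (S : Set X) := hN _ (by
    refine Nat.Coprime.coprime_dvd_left ?_ hpi
    rw [(show S.IsComplement' K from hK).symm.index_eq_card]
    exact K.orderOf_dvd_natCard c.2)
  have hxk : x ^ k ∈ S := pow_mem hx.1 k
  have h1 : (c : X) * x ^ k * (c : X)⁻¹ = x ^ k := by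
    rw [← Subgroup.mem_centralizer_iff.mp hcC _ hxk, mul_inv_cancel_right]
  have e : (s : X) * c * x ^ k * ((s : X) * c)⁻¹ = s * x ^ k * (s : X)⁻¹ := by
    calc (s : X) * c * x ^ k * ((s : X) * c)⁻¹ = s * (c * x ^ k * (c : X)⁻¹) * (s : X)⁻¹ := by group
      _ = _ := by rw [h1]
  show (x ^ k)⁻¹ * ((s : X) * c * x ^ k * ((s : X) * c)⁻¹) ∈ _
  rw [e]
  have := commutator_mem_commutator (S.inv_mem hxk) s.2
  simpa [commutatorElement_def, mul_assoc] using this

/-- The Sylow subgroup is not in the derived group. -/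
theorem not_le_commutator_of_controlsTransfer {W : ∀ (Q : Type u) [Group Q], Subgroup Q}
    (hW : IsCharPFunctor.{u} p W) :
    ∀ (X : Type u) [Group X] [Finite X],
      (∀ (Y : Type u) [Group Y] [Finite Y], Involves Y X →
        FamilyControlsTransferIn p (indFam {W} Y) ⊤) →
      ∀ S : Subgroup X, IsSylowIn p S ⊤ → S ≠ ⊥ →
        (∀ g ∈ Subgroup.normalizer (S : Set X), (orderOf g).Coprime p →
          g ∈ Subgroup.centralizer (S : Set X)) → ¬ S ≤ commutator X := by
  suffices H : ∀ (n : ℕ) (X : Type u) [Group X] [Finite X], Nat.card X = n →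
      (∀ (Y : Type u) [Group Y] [Finite Y], Involves Y X →
        FamilyControlsTransferIn p (indFam {W} Y) ⊤) →
      ∀ S : Subgroup X, IsSylowIn p S ⊤ → S ≠ ⊥ →
        (∀ g ∈ Subgroup.normalizer (S : Set X), (orderOf g).Coprime p →
          g ∈ Subgroup.centralizer (S : Set X)) → ¬ S ≤ commutator X from fun X _ _ h => H _ X rfl h
  have h𝓦 : ∀ V ∈ ({W} : Set (∀ (Q : Type u) [Group Q], Subgroup Q)), IsCharPFunctor.{u} p V := by
    intro V hV; rw [Set.mem_singleton_iff] at hV; subst hV; exact hW
  intro n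
  induction n using Nat.strongRecOn with
  | ind n ih =>
  intro X _ _ hX h S hS hS0 hN hle
  have hWX := isConjugacyFunctor_induced (G := X) hW
  let V := inducedFunctor (G := X) W S
  let N := Subgroup.normalizer (V : Set X)
  have hSN : S ≤ N := le_normalizer_functor hWX hS.2.1
  have hSN' : S ≤ ⁅N, N⁆ := by
    refine (le_inf le_rfl hle).trans ((inf_commutator_le_transferGen
      (isConjugacyFunctor_induced_image h𝓦) (h X (involves_equiv (MulEquiv.refl X))) hS).trans ?_)
    refine iSup₂_le ?_
    rintro _ ⟨W', hW', rfl⟩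
    rw [Set.mem_singleton_iff] at hW'
    subst hW'
    rw [top_inf_eq]
    exact inf_le_right
  by_cases hNtop : N = ⊤
  swap
  · refine ih _ (hX ▸ lt_of_le_of_ne (card_le_card_group N) fun h => hNtop (eq_top_of_card_eq N h)) N rfl
      (fun Y _ _ hY => h Y (involves_trans (involves_subgroup N) hY)) (S.subgroupOf N)
      (isSylowIn_subgroupOf (hS.of_le hSN le_top)) ?_ (fun g hg hgo => ?_) ?_
    · rw [Ne, subgroupOf_eq_bot, disjoint_iff, inf_of_le_left hSN]
      exact hS0
    · have hg' : (g : X) ∈ Subgroup.normalizer (S : Set X) := mem_normalizer_of_forall_conj_mem fun s hs =>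
        (mem_normalizer_iff.mp hg ⟨s, hSN hs⟩).mp hs
      have hc := hN g hg' (by rwa [← orderOf_injective N.subtype N.subtype_injective g] at hgo)
      rw [Subgroup.mem_centralizer_iff]
      exact fun x hx => Subtype.ext (Subgroup.mem_centralizer_iff.mp hc (x : X) hx)
    · refine (map_le_map_iff_of_injective N.subtype_injective).mp ?_
      rwa [map_subgroupOf_eq_of_le hSN, map_subtype_commutator]
  have hVn : V.Normal := normalizer_eq_top_iff.mp hNtop
  have hV0 : V ≠ ⊥ := functor_ne_bot hWX hS.2.1 hS0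
  have hVS : V ≤ S := functor_le hWX hS.2.1
  rcases eq_or_lt_of_le hVS with heq | hlt
  · have hSn : S.Normal := heq ▸ hVn
    have hSS := (le_inf le_rfl hle).trans (inf_commutator_le_of_normal hS fun g hg => hN g
      (by rw [normalizer_eq_top (H := S)]; trivial) hg)
    have : Group.IsNilpotent S := hS.2.1.isNilpotent
    have : Nontrivial S := (nontrivial_iff_ne_bot S).mpr hS0
    refine (Group.IsSolvable.commutator_lt_top_of_nontrivial S).ne ?_
    apply map_injective S.subtype_injective
    rw [map_subtype_commutator, le_antisymm (commutator_le_self S) hSS, ← MonoidHom.range_eq_map,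
      range_subtype]
  let f := QuotientGroup.mk' V
  refine ih _ (by
    have h1 := Subgroup.card_mul_index V
    have h2 : Nat.card V ≠ 1 := fun h => hV0 (card_eq_one.mp h)
    have h3 : 0 < Nat.card V := Nat.card_pos
    have h4 : V.index ≠ 0 := FiniteIndex.index_ne_zero
    show V.index < n
    nlinarith [show 1 < Nat.card V by omega, Nat.pos_of_ne_zero h4]) (X ⧸ V) rfl
    (fun Y _ _ hY => h Y (involves_trans (involves_quotient V) hY)) (S.map f)
    (isSylowIn_map hS f (QuotientGroup.mk'_surjective V)) ?_ (fun y hy hyo => ?_) ?_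
  · rw [Ne, Subgroup.map_eq_bot_iff, QuotientGroup.ker_mk']
    exact hlt.not_ge
  · obtain ⟨x, rfl⟩ := QuotientGroup.mk'_surjective V y
    have hx : x ∈ Subgroup.normalizer (S : Set X) := mem_normalizer_of_forall_conj_mem fun s hs => by
      obtain ⟨t, ht, hts⟩ := (mem_normalizer_iff.mp hy (f s)).mp (mem_map_of_mem f hs)
      have h1 : t⁻¹ * (x * s * x⁻¹) ∈ V := QuotientGroup.eq.mp (by
        show f t = f (x * s * x⁻¹)
        simp only [map_mul, map_inv]
        exact hts)
      simpa using S.mul_mem ht (hVS h1)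
    obtain ⟨a, m, hpm, hxo⟩ := Nat.exists_eq_pow_mul_and_not_dvd (orderOf_pos x).ne' p
      (Fact.out : p.Prime).ne_one
    have hc : x ^ p ^ a ∈ Subgroup.centralizer (S : Set X) := hN _ (pow_mem hx _) (by
      rw [orderOf_pow' x (pow_ne_zero _ (Fact.out : p.Prime).ne_zero), hxo,
        Nat.gcd_eq_right (Dvd.intro m rfl), Nat.mul_div_cancel_left m (pow_pos (Fact.out : p.Prime).pos a)]
      exact ((Nat.Prime.coprime_iff_not_dvd Fact.out).mpr hpm).symm)
    obtain ⟨j, hj⟩ := exists_pow_eq_self_of_coprime (hyo.pow_right a).symm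
    rw [Subgroup.mem_centralizer_iff]
    rintro _ ⟨s, hs, rfl⟩
    refine (?_ : Commute (f s) (f x)).eq
    rw [← hj]
    refine Commute.pow_right ?_ j
    rw [← map_pow]
    exact (show Commute s (x ^ p ^ a) from Subgroup.mem_centralizer_iff.mp hc s hs).map f
  · rw [commutator_def, ← map_top_of_surjective f (QuotientGroup.mk'_surjective V), ← map_commutator,
      ← commutator_def]
    exact Subgroup.map_mono hle

end CfsgLib.ConjFunctor
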