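import Cfsg.Agent.ConjFunctor.KInf
import Cfsg.Agent.ConjFunctor.Constrained
import Cfsg.Agent.ConjFunctor.Functor
import Cfsg.Agent.LocalEven.QdOver
import Cfsg.Agent.Linear.SylowChar

/-!
The lower K-infinity subgroup does not control strong fusion in `Qd(p)`.
-/

set_option autoImplicit false

namespace CfsgLib.ConjFunctor

open Cfsg Subgroup Matrix
open CfsgLib.LocalEven

/-- A finite group generated by two normal abelian subgroups is its own lower K-infinity subgroup. -/
theorem kInfLower_eq_top_of_two {P : Type*} [Group P] [Finite P] {A B : Subgroup P} [A.Normal]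
    [B.Normal] (hA : IsMulCommutative A) (hB : IsMulCommutative B) (h : A ⊔ B = ⊤) :
    kInfLower P = ⊤ :=
  (kInf_eq_top (eq_top_iff.mpr (h ▸ sup_le
    (le_iSup₂ (f := fun C (_ : C ∈ {C : Subgroup P | C.Normal ∧ IsMulCommutative ↥C}) => C) A ⟨inferInstance, hA⟩)
    (le_iSup₂ (f := fun C (_ : C ∈ {C : Subgroup P | C.Normal ∧ IsMulCommutative ↥C}) => C) B ⟨inferInstance, hB⟩)))).1

variable {p : ℕ} [Fact p.Prime]

local notation "QD" => Subtype fun M => M ∈ Cfsg.qdOver (ZMod p)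

/-- The unipotent Sylow subgroup. -/
noncomputable def qdUni (p : ℕ) [Fact p.Prime] : Subgroup ↥(Cfsg.qdOver (ZMod p)) :=
  (CfsgLib.Linear.upperSL (F := ZMod p)).comap QdOver.block

theorem exists_eq_mk_uni {M : QD} (hM : M ∈ qdUni p) :
    ∃ b x y : ZMod p, M = QdOver.mk 1 b 0 1 x y (by ring) := by
  obtain ⟨a, b', c, d, x, y, h, rfl⟩ := QdOver.exists_eq_mk M
  obtain ⟨b, hb⟩ : QdOver.block (QdOver.mk a b' c d x y h) ∈ CfsgLib.Linear.upperSL (F := ZMod p) := hM
  have hb' : (CfsgLib.Linear.upperUni b.toAdd).1 = !![a, b'; c, d] := by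
    rw [← QdOver.sl2_val a b' c d h, ← QdOver.block_mk a b' c d x y h, ← hb]; rfl
  rw [CfsgLib.Linear.upperUni_val] at hb'
  have h00 : a = 1 := by simpa using (congrFun (congrFun hb' 0) 0).symm
  have h10 : c = 0 := by simpa using (congrFun (congrFun hb' 1) 0).symm
  have h11 : d = 1 := by simpa using (congrFun (congrFun hb' 1) 1).symm
  exact ⟨b', x, y, QdOver.mk_congr h00 rfl h10 h11 rfl rfl⟩

theorem mk_mem_qdUni (b x y : ZMod p) : QdOver.mk 1 b 0 1 x y (by ring) ∈ qdUni p := by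
  show QdOver.block _ ∈ CfsgLib.Linear.upperSL (F := ZMod p)
  rw [QdOver.block_mk]
  convert CfsgLib.Linear.upperUni_mem b using 1
  exact Subtype.ext (by rw [QdOver.sl2_val, CfsgLib.Linear.upperUni_val])

theorem isSylowIn_qdUni : IsSylowIn p (qdUni p) ⊤ := by
  refine ⟨le_top, ?_, ?_⟩
  · exact (CfsgLib.Linear.isPGroup_upperSL p).comap_of_ker_isPGroup QdOver.block QdOver.isPGroup_transl
  · rw [relIndex_top_right, qdUni, index_comap_of_surjective _ QdOver.block_surjective,
      CfsgLib.Linear.index_upperSL]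
    exact CfsgLib.Linear.not_dvd_pow_sub_one p two_ne_zero

theorem qdUni_generators : ∃ A B : Subgroup ↥(qdUni p), A.Normal ∧ B.Normal ∧
    IsMulCommutative A ∧ IsMulCommutative B ∧ A ⊔ B = ⊤ := by
  choose b x y hM using fun M : ↥(qdUni p) => exists_eq_mk_uni M.2
  let φ : ↥(qdUni p) →* Multiplicative (ZMod p) := MonoidHom.mk' (fun M => Multiplicative.ofAdd (y M))
    fun M N => by
      have h : ((M * N : ↥(qdUni p)) : QD) = (M : QD) * N := rfl
      rw [hM (M * N), hM M, hM N, QdOver.mk_mul] at h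
      obtain ⟨-, -, -, -, -, h6⟩ := QdOver.mk_inj h
      rw [← ofAdd_add, Equiv.apply_eq_iff_eq]
      linear_combination h6
  refine ⟨(QdOver.transl (ZMod p)).subgroupOf (qdUni p), φ.ker,
    (inferInstance : (QdOver.transl (ZMod p)).Normal).subgroupOf _, inferInstance, ?_, ?_, ?_⟩
  · refine ⟨⟨fun u v => ?_⟩⟩
    obtain ⟨x₁, y₁, h1⟩ := QdOver.exists_eq_tr u.2
    obtain ⟨x₂, y₂, h2⟩ := QdOver.exists_eq_tr v.2
    refine Subtype.ext (Subtype.ext ?_)
    show ((u : ↥(qdUni p)) : QD) * (v : ↥(qdUni p)) = (v : ↥(qdUni p)) * (u : ↥(qdUni p))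
    exact (congrArg₂ (· * ·) h1 h2).trans (by
      show QdOver.tr x₁ y₁ * QdOver.tr x₂ y₂ = _
      rw [QdOver.tr_mul, add_comm x₁, add_comm y₁, ← QdOver.tr_mul]
      exact congrArg₂ (· * ·) h2.symm h1.symm)
  · refine ⟨⟨fun u v => ?_⟩⟩
    have hu : y u.1 = 0 := Multiplicative.ofAdd.injective (MonoidHom.mem_ker.mp u.2)
    have hv : y v.1 = 0 := Multiplicative.ofAdd.injective (MonoidHom.mem_ker.mp v.2)
    refine Subtype.ext (Subtype.ext ?_)
    show ((u : ↥(qdUni p)) : QD) * (v : ↥(qdUni p)) = (v : ↥(qdUni p)) * (u : ↥(qdUni p))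
    rw [hM u.1, hM v.1, QdOver.mk_mul, QdOver.mk_mul]
    exact QdOver.mk_congr (by ring) (by ring) (by ring) (by ring) (by rw [hu, hv]; ring) (by rw [hu, hv]; ring)
  · refine eq_top_iff.mpr fun M _ => ?_
    have htU : QdOver.tr 0 (y M) ∈ qdUni p := mk_mem_qdUni 0 0 (y M)
    have hA : (⟨_, htU⟩ : ↥(qdUni p)) ∈ (QdOver.transl (ZMod p)).subgroupOf (qdUni p) :=
      QdOver.tr_mem _ _
    have hB : φ (⟨_, mk_mem_qdUni (b M) (x M) 0⟩ : ↥(qdUni p)) = 1 := by
      show Multiplicative.ofAdd _ = 1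
      rw [ofAdd_eq_one]
      have h0 : QdOver.mk 1 (b M) 0 1 (x M) 0 (by ring) = QdOver.mk 1 _ 0 1 _ _ _ :=
        hM ⟨_, mk_mem_qdUni (b M) (x M) 0⟩
      exact (QdOver.mk_inj h0).2.2.2.2.2.symm
    have e : M = (⟨_, htU⟩ : ↥(qdUni p)) * ⟨_, mk_mem_qdUni (b M) (x M) 0⟩ := Subtype.ext (by
      show (M : QD) = QdOver.tr 0 (y M) * _
      rw [hM M, QdOver.tr, QdOver.mk_mul]
      exact QdOver.mk_congr (by ring) (by ring) (by ring) (by ring) (by ring) (by ring))
    rw [e]
    exact mul_mem (mem_sup_left hA) (mem_sup_right hB)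

theorem centralizer_transl_le :
    Subgroup.centralizer (QdOver.transl (ZMod p) : Set QD) ≤ QdOver.transl (ZMod p) := by
  intro c hc
  obtain ⟨a, b, c', d, x, y, hdet, rfl⟩ := QdOver.exists_eq_mk c
  have key : ∀ x' y' : ZMod p, a * x' + b * y' = x' ∧ c' * x' + d * y' = y' := fun x' y' => by
    have h := Subgroup.mem_centralizer_iff.mp hc _ (QdOver.tr_mem x' y')
    rw [QdOver.tr, QdOver.mk_mul, QdOver.mk_mul] at h
    obtain ⟨-, -, -, -, h1, h2⟩ := QdOver.mk_inj h
    exact ⟨by linear_combination -h1, by linear_combination -h2⟩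
  obtain ⟨ha, hc1⟩ := key 1 0
  obtain ⟨hb, hd⟩ := key 0 1
  simp only [mul_one, mul_zero, add_zero, zero_add] at ha hc1 hb hd
  rw [QdOver.transl, MonoidHom.mem_ker, QdOver.block_mk]
  apply Subtype.ext
  rw [QdOver.sl2_val, ha, hb, hc1, hd]
  exact Matrix.one_fin_two.symm

/-- In a group isomorphic to `Qd(p)` the lower K-infinity subgroup of some Sylow subgroup does not
control strong fusion. -/
theorem exists_not_controlsStrongFusion_qd {Y : Type*} [Group Y] [Finite Y]
    (e : Y ≃* ↥(Cfsg.qd p)) : ∃ T : Sylow p Y,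
      ¬ Cfsg.ControlsStrongFusion p (Cfsg.inducedFunctor (G := Y) Cfsg.kInfLower (T : Subgroup Y)) := by
  let e' : Y ≃* QD := e
  let T : Sylow p Y := ((isSylowIn_qdUni (p := p)).2.1.comap_of_injective e'.toMonoidHom e'.injective).toSylow (by
    rw [index_comap_of_surjective _ e'.surjective, ← relIndex_top_right]
    exact (isSylowIn_qdUni (p := p)).2.2)
  refine ⟨T, fun hctl => ?_⟩
  have hmem : ∀ v : Y, v ∈ (T : Subgroup Y) ↔ e' v ∈ qdUni p := fun v => Iff.rfl
  have htop : Cfsg.inducedFunctor (G := Y) Cfsg.kInfLower (T : Subgroup Y) = (T : Subgroup Y) := by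
    obtain ⟨A, B, hAn, hBn, hA, hB, hAB⟩ := qdUni_generators (p := p)
    let φ : ↥(T : Subgroup Y) →* ↥(qdUni p) :=
      (e'.toMonoidHom.comp (T : Subgroup Y).subtype).codRestrict _ fun v => (hmem v).mp v.2
    have hφi : Function.Injective φ := fun v w h =>
      Subtype.ext (e'.injective (congrArg Subtype.val h))
    have hφs : Function.Surjective φ := fun w =>
      ⟨⟨e'.symm (w : QD), (hmem _).mpr (by simp)⟩, Subtype.ext (by simp [φ])⟩
    have hab : ∀ C : Subgroup ↥(qdUni p), IsMulCommutative C → IsMulCommutative (C.comap φ) :=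
      fun C hC => ⟨⟨fun u v => Subtype.ext (hφi (by
        rw [Subgroup.coe_mul, Subgroup.coe_mul, map_mul, map_mul]
        exact congrArg Subtype.val (hC.is_comm.comm ⟨φ u, u.2⟩ ⟨φ v, v.2⟩)))⟩⟩
    show (Cfsg.kInfLower ↥(T : Subgroup Y)).map (T : Subgroup Y).subtype = _
    rw [kInfLower_eq_top_of_two (hab A hA) (hab B hB) (by
      rw [comap_sup_eq φ A B hφs, hAB, comap_top]), ← MonoidHom.range_eq_map, range_subtype]
  rw [htop] at hctl
  obtain ⟨T', hTT', hctl⟩ := hctl
  have hT' : (T' : Subgroup Y) = (T : Subgroup Y) := T.3 T'.2 hTT'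
  have hTn : (T : Subgroup Y).Normal := by
    refine normalizer_eq_top_iff.mp (eq_top_iff.mpr fun v _ => ?_)
    have hQT : ∀ q : Y, e' q ∈ QdOver.transl (ZMod p) → q ∈ (T : Subgroup Y) := fun q hq =>
      (hmem q).mpr (by
        obtain ⟨x, y, hxy⟩ := QdOver.exists_eq_tr hq
        rw [hxy]; exact mk_mem_qdUni 0 x y)
    obtain ⟨w, hw, hwe⟩ := (hctl {q | e' q ∈ QdOver.transl (ZMod p)} (fun q hq => by
      rw [hT']; exact hQT q hq)).2 v (by
      rintro _ ⟨q, hq, rfl⟩
      rw [hT']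
      refine hQT _ ?_
      rw [map_mul, map_mul, map_inv]
      exact (inferInstance : (QdOver.transl (ZMod p)).Normal).conj_mem _ hq _)
    have hc : w⁻¹ * v ∈ (T : Subgroup Y) := hQT _ (centralizer_transl_le (by
      refine Subgroup.mem_centralizer_iff.mpr fun q hq => ?_
      have h1 := hwe (e'.symm q) (by simpa using hq)
      have h2 := congrArg e' h1
      simp only [map_mul, map_inv, MulEquiv.apply_symm_apply] at h2 ⊢
      calc q * ((e' w)⁻¹ * e' v) = (e' w)⁻¹ * (e' w * q * (e' w)⁻¹) * e' v := by group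
        _ = (e' w)⁻¹ * (e' v * q * (e' v)⁻¹) * e' v := by rw [h2]
        _ = _ := by group))
    rw [show v = w * (w⁻¹ * v) by group]
    exact mul_mem hw (le_normalizer hc)
  have hUn : (qdUni p).Normal := by
    refine ⟨fun m hm g => ?_⟩
    have := (hmem _).mp (hTn.conj_mem (e'.symm m) ((hmem _).mpr (by simpa using hm)) (e'.symm g))
    simpa using this
  have h1 : QdOver.emb (CfsgLib.Linear.upperUni (1 : ZMod p)) ∈ QdOver.transl (ZMod p) := by
    rw [← QdOver.pCore_eq_transl (F := ZMod p) (p := p)]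
    refine CfsgLib.PLocal.le_pCore (isSylowIn_qdUni (p := p)).2.1 ?_
    rw [qdUni, mem_comap, QdOver.block_emb]
    exact CfsgLib.Linear.upperUni_mem _
  rw [QdOver.transl, MonoidHom.mem_ker, QdOver.block_emb] at h1
  have h3 := congrArg (fun M : SpecialLinearGroup (Fin 2) (ZMod p) => M.1 0 1) h1
  simp [CfsgLib.Linear.upperUni_val] at h3

end CfsgLib.ConjFunctor
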