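import Cfsg.Agent.ConjFunctor.WellPlaced
import Mathlib.GroupTheory.Transfer

/-!
Lifting fusion through quotients, and the reduction of fusion in a group with `O_{p'}(G) = 1`
that is not `p`-constrained to proper subgroups containing a Sylow subgroup.
-/

set_option autoImplicit false

namespace CfsgLib.ConjFunctor

open Cfsg Subgroup
open scoped commutatorElement

variable {G : Type*} [Group G] {p : ℕ} {S : Subgroup G} {𝓜 : Set (Subgroup G)}

theorem conj_eq_one_iff {g a : G} : g * a * g⁻¹ * a⁻¹ = 1 ↔ g * a * g⁻¹ = a := mul_inv_eq_one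

variable [Finite G] [Fact p.Prime]

/-- Lifting fusion from a quotient by a normal subgroup meeting `S` trivially. -/
theorem fusControls_of_quotient_disjoint (hS : IsSylowIn p S ⊤) {K : Subgroup G} [K.Normal]
    (hSK : S ⊓ K = ⊥) (hM : ∀ M ∈ 𝓜, S ≤ M)
    (h : FusControls (Subgroup.map (QuotientGroup.mk' K) '' 𝓜) (S.map (QuotientGroup.mk' K)) ⊤) :
    FusControls 𝓜 S ⊤ := by
  let f := QuotientGroup.mk' K
  have hker : ∀ x, f x = 1 ↔ x ∈ K := fun x => QuotientGroup.eq_one_iff x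
  suffices H : ∀ (Ab : Set (G ⧸ K)) (gb : G ⧸ K),
      Fus (Subgroup.map f '' 𝓜) (S.map f) Ab gb → ∀ (A : Set G) (g : G), f '' A = Ab → f g = gb →
        A ⊆ S → cjSet g A ⊆ S → Fus 𝓜 S A g by
    intro A g _ hA hgA
    refine H _ _ (h (f '' A) (f g) trivial (Set.image_mono hA) ?_) A g rfl rfl hA hgA
    rintro _ ⟨_, ⟨a, ha, rfl⟩, rfl⟩
    exact ⟨_, hgA ⟨a, ha, rfl⟩, by simp [f]⟩
  intro Ab gb hc
  induction hc with
  | nil hAb hfix =>
    intro A g hfA hfg hA hgA
    subst hfA hfg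
    refine .nil hA fun a ha => ?_
    have h1 : g * a * g⁻¹ * a⁻¹ ∈ S ⊓ K := by
      refine Subgroup.mem_inf.mpr ⟨S.mul_mem (hgA ⟨a, ha, rfl⟩) (S.inv_mem (hA ha)), (hker _).mp ?_⟩
      simp only [map_mul, map_inv]
      rw [hfix _ ⟨a, ha, rfl⟩, mul_inv_cancel]
    rw [hSK, mem_bot, conj_eq_one_iff] at h1
    exact h1
  | step hAb hMb hx hxA _ ih =>
    rename_i Ab gb xb Mb _
    intro A g hfA hfg hA hgA
    obtain ⟨M, hMm, rfl⟩ := hMb
    obtain ⟨n, hn, rfl⟩ := hx
    have hL : IsSylowIn p S (M ⊓ (S ⊔ K)) :=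
      hS.of_le (le_inf (hM M hMm) le_sup_left) le_top
    have hnA : cjSet n A ⊆ ((M ⊓ (S ⊔ K) : Subgroup G) : Set G) := by
      rintro _ ⟨a, ha, rfl⟩
      refine Subgroup.mem_inf.mpr ⟨M.mul_mem (M.mul_mem hn (hM M hMm (hA ha))) (M.inv_mem hn), ?_⟩
      obtain ⟨s, hs, hseq⟩ := hxA (f a) (hfA ▸ ⟨a, ha, rfl⟩)
      have hk : s⁻¹ * (n * a * n⁻¹) ∈ K := (hker _).mp (by
        simp only [map_mul, map_inv, f] at hseq ⊢
        rw [hseq]; group)
      have := mul_mem ((le_sup_left : S ≤ S ⊔ K) hs) ((le_sup_right : K ≤ S ⊔ K) hk)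
      simpa [mul_inv_cancel_left] using this
    have hp0 : IsPGroup p ↥(Subgroup.closure (cjSet n A)) := by
      refine (isPGroup_cj n hS.2.1).to_le ((Subgroup.closure_le _).mpr ?_)
      rw [← cjSet_coe]
      exact cjSet_mono n hA
    obtain ⟨l, ⟨hlM, hlSK⟩, hl⟩ :=
      hL.exists_cj_le ((Subgroup.closure_le _).mpr hnA) hp0
    obtain ⟨s, hs, k, hk, rfl⟩ := mem_sup_of_normal_right.mp hlSK
    have hkM : k ∈ M := by simpa using mul_mem (inv_mem (hM M hMm hs)) hlM
    have hmem : ∀ a ∈ A, (k * n) * a * (k * n)⁻¹ ∈ S := by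
      intro a ha
      have h1 : s * k * (n * a * n⁻¹) * (s * k)⁻¹ ∈ S :=
        hl (conj_mem_cj _ (Subgroup.subset_closure ⟨a, ha, rfl⟩))
      have h2 := mul_mem (mul_mem (inv_mem hs) h1) hs
      simpa [mul_assoc] using h2
    have hfk : f k = 1 := (hker k).mpr hk
    refine .step hA hMm (mul_mem hkM hn) hmem (ih _ (g * (k * n)⁻¹) ?_ ?_ ?_ ?_)
    · rw [← hfA]
      simp [cjSet, Set.image_image, hfk]
    · simp [hfk, ← hfg]
    · exact cjSet_subset_iff.mpr hmem
    · rw [cjSet_cjSet, inv_mul_cancel_right]; exact hgA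

omit [Fact p.Prime] in
/-- Lifting a chain from a quotient by a normal subgroup contained in `S`. -/
theorem exists_lift_of_le [Fact p.Prime] {Q : Subgroup G} [Q.Normal] (hQS : Q ≤ S)
    {Ab : Set (G ⧸ Q)} {gb : G ⧸ Q}
    (h : Fus (Subgroup.map (QuotientGroup.mk' Q) '' 𝓜) (S.map (QuotientGroup.mk' Q)) Ab gb) :
    ∀ A : Set G, QuotientGroup.mk' Q '' A = Ab → A ⊆ S → ∃ n, Fus 𝓜 S A n ∧
      ∀ a ∈ A, QuotientGroup.mk' Q (n * a * n⁻¹) = gb * QuotientGroup.mk' Q a * gb⁻¹ := by
  induction h with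
  | nil hAb hfix =>
    intro A hfA hA
    refine ⟨1, .nil hA fun a _ => by simp, fun a ha => ?_⟩
    subst hfA
    rw [hfix _ ⟨a, ha, rfl⟩]; simp
  | step hAb hMb hx hxA _ ih =>
    rename_i Ab gb xb Mb _
    intro A hfA hA
    obtain ⟨M, hMm, rfl⟩ := hMb
    obtain ⟨n, hn, rfl⟩ := hx
    have hmem : ∀ a ∈ A, n * a * n⁻¹ ∈ S := by
      intro a ha
      obtain ⟨s, hs, hseq⟩ := hxA (QuotientGroup.mk' Q a) (hfA ▸ Set.mem_image_of_mem _ ha)
      have hk : s⁻¹ * (n * a * n⁻¹) ∈ Q := by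
        rw [← QuotientGroup.eq_one_iff]
        show QuotientGroup.mk' Q _ = 1
        simp only [map_mul, map_inv, hseq]
        group
      simpa [mul_inv_cancel_left] using mul_mem hs (hQS hk)
    obtain ⟨m, hm, hmA⟩ := ih (cjSet n A) (by
      rw [← hfA]; simp [cjSet, Set.image_image]) (cjSet_subset_iff.mpr hmem)
    refine ⟨m * n, (Fus.single hA hMm hn hmem).trans hm, fun a ha => ?_⟩
    have := hmA _ ⟨a, ha, rfl⟩
    simpa [mul_assoc] using this

omit [Fact p.Prime] [Finite G] in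
/-- Fusion from a conjugation family, restricted to members containing a normal subgroup. -/
theorem fusControls_of_conjugationFamily {𝓕 : Set (Subgroup G)} (h : IsConjugationFamily 𝓕 S)
    {Q : Subgroup G} [Q.Normal] (hQS : Q ≤ S)
    (hmem : ∀ U ∈ 𝓕, Q ≤ U → ∀ x ∈ Subgroup.normalizer (U : Set G), Fus 𝓜 S (U : Set G) x) :
    FusControls 𝓜 S ⊤ := by
  intro A g _ hA hgA
  obtain ⟨n, T, x, hp, hT, hx, h0, hstep⟩ := h.2 (A ∪ (Q : Set G)) (g⁻¹ : G)
    ⟨1, Or.inr Q.one_mem⟩ (Set.union_subset hA hQS) (by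
      rintro _ ⟨a, ha | ha, rfl⟩
      · simpa using hgA ⟨a, ha, rfl⟩
      · exact hQS (by simpa using Subgroup.Normal.conj_mem inferInstance a ha g))
  have key : ∀ i, i ≤ n → Fus 𝓜 S A (((List.ofFn x).take i).prod)⁻¹ := by
    intro i
    induction i with
    | zero => intro _; exact .nil hA fun a _ => by simp
    | succ m ihm =>
      intro hm
      have hsub : ∀ b, b ∈ A ∪ (Q : Set G) →
          (((List.ofFn x).take m).prod)⁻¹ * b * ((List.ofFn x).take m).prod ∈ T ⟨m, hm⟩ := by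
        rcases Nat.eq_zero_or_pos m with rfl | hpos
        · intro b hb; simpa using h0 hm hb
        · obtain ⟨k, rfl⟩ := Nat.exists_eq_add_one.mpr hpos
          exact fun b hb => hstep ⟨k, by omega⟩ hm ⟨b, hb, rfl⟩
      have hQT : Q ≤ T ⟨m, hm⟩ := fun q hq => by
        have := hsub (((List.ofFn x).take m).prod * q * (((List.ofFn x).take m).prod)⁻¹)
          (Or.inr (Subgroup.Normal.conj_mem inferInstance q hq _))
        simpa [mul_assoc] using this
      rw [List.prod_take_succ _ _ (by simpa using hm), List.getElem_ofFn, mul_inv_rev]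
      refine (ihm (by omega)).trans' (hmem _ (hT _) hQT _ (inv_mem (hx _))) fun a ha => ?_
      simpa using hsub a (Or.inl ha)
  have := key n le_rfl
  rwa [List.take_of_length_le (by simp), hp, inv_inv] at this

omit [Fact p.Prime] [Finite G] in
/-- Fusion controlled by subgroups gives a bound on the focal subgroup. -/
theorem inf_commutator_le_of_fusControls [Finite G] [Fact p.Prime] (hS : IsSylowIn p S ⊤)
    (h : FusControls 𝓜 S ⊤) {R : Subgroup G}
    (hR : ∀ M ∈ 𝓜, S ≤ M ∧ S ⊓ ⁅M, M⁆ ≤ R) : S ⊓ commutator G ≤ R := by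
  rw [inf_comm, show S = ((hS.toSylowTop : Sylow p G) : Subgroup G) from rfl,
    Subgroup.commutator_inf_eq_focalSubgroup, focalSubgroup_def, Subgroup.closure_le]
  rintro _ ⟨hmem, x, hx, u, rfl⟩
  have hx' : x ∈ S := hx
  have hy : u * x⁻¹ * u⁻¹ ∈ S := by
    have : x⁻¹ * ⁅x, u⁆ ∈ S := mul_mem (inv_mem hx') hmem
    simpa [commutatorElement_def, mul_assoc] using this
  have hc := h {x⁻¹} u trivial (by simpa using hx')
    (by rintro _ ⟨a, rfl, rfl⟩; exact hy)
  have := hc.inv_mul_mem (R := R) (fun M hM z hz a ha hza => (hR M hM).2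
    ⟨S.mul_mem (S.inv_mem ha) hza, by
      have := commutator_mem_commutator (inv_mem ((hR M hM).1 ha)) hz
      simpa [commutatorElement_def, mul_assoc] using this⟩) x⁻¹ rfl
  simpa [commutatorElement_def, mul_assoc] using this

omit [Fact p.Prime] in
/-- The transfer argument: an element of `S ∩ G'` whose powers are fused only trivially
modulo `R ⊇ S'` lies in `R`. -/
theorem mem_of_transfer [Fact p.Prime] (hS : IsSylowIn p S ⊤) {R : Subgroup G}
    (hSR : ⁅S, S⁆ ≤ R) {x : G} (hx : x ∈ S) (hx' : x ∈ commutator G)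
    (hfix : ∀ (k : ℕ) (g : G), g * x ^ k * g⁻¹ ∈ S → (x ^ k)⁻¹ * (g * x ^ k * g⁻¹) ∈ R) :
    x ∈ R := by
  have hc : commutator ↥S ≤ R.subgroupOf S := by
    rw [← map_le_map_iff_of_injective S.subtype_injective, map_subtype_commutator,
      subgroupOf_map_subtype]
    exact le_inf hSR (commutator_le_self S)
  have : (R.subgroupOf S).Normal := Subgroup.Normal.mk fun a ha g => by
      have h1 : ⁅g, a⁆ ∈ R.subgroupOf S :=
        hc (commutator_mem_commutator (mem_top g) (mem_top a))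
      have := mul_mem h1 ha
      simpa [commutatorElement_def, mul_assoc] using this
  have : IsMulCommutative (↥S ⧸ R.subgroupOf S) :=
    Normal.quotient_commutative_iff_commutator_le.mpr hc
  open scoped IsMulCommutative in
  let φ : ↥S →* ↥S ⧸ R.subgroupOf S := QuotientGroup.mk' _
  have : Fintype (Quotient (MulAction.orbitRel (zpowers x) (G ⧸ S))) := Fintype.ofFinite _
  open scoped IsMulCommutative in
  have h1 : MonoidHom.transfer φ x = φ (⟨x, hx⟩ : S) ^ S.index := by
    rw [index_eq_sum_minimalPeriod S x, ← Finset.prod_pow_eq_pow_sum,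
      MonoidHom.transfer_eq_prod_quotient_orbitRel_zpowers_quot]
    refine Finset.prod_congr rfl fun q _ => ?_
    rw [← map_pow]
    refine (QuotientGroup.eq.mpr ?_).symm
    rw [mem_subgroupOf]
    simp only [coe_mul, coe_inv, SubmonoidClass.coe_pow]
    have := hfix (Function.minimalPeriod (x • ·) q.out) (q.out.out⁻¹)
    rw [inv_inv] at this
    exact this (QuotientGroup.out_conj_pow_minimalPeriod_mem S x q.out)
  open scoped IsMulCommutative in
  have h2 : MonoidHom.transfer φ x = 1 :=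
    Abelianization.commutator_subset_ker _ hx'
  rw [h1] at h2
  have hPq : IsPGroup p (↥S ⧸ R.subgroupOf S) := hS.2.1.to_quotient _
  have hidx : ¬ p ∣ S.index := by rw [← relIndex_top_right]; exact hS.2.2
  have h3 : φ (⟨x, hx⟩ : S) = 1 := by
    refine (hPq.powEquiv' hidx).injective ?_
    simpa using h2
  exact mem_subgroupOf.mp ((QuotientGroup.eq_one_iff (⟨x, hx⟩ : S)).mp h3)

end CfsgLib.ConjFunctor
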