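import Cfsg.Agent.ConjFunctor.Engel
import Cfsg.Agent.ConjFunctor.LocalGlobal

/-!
Complete reducibility of an abelian minimal normal subgroup under subnormal subgroups (Clifford),
in group language, and the kernel of the chief factors below a normal `p`-subgroup.
-/

set_option autoImplicit false

namespace CfsgLib.ConjFunctor

open Cfsg Subgroup
open scoped commutatorElement

section
variable {X : Type*} [Group X] {A L N : Subgroup X}

/-- `Y` is a minimal nontrivial `L`-invariant subgroup of `A`. -/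
def IsInvAtom (L A Y : Subgroup X) : Prop :=
  Minimal (fun Y : Subgroup X => Y ≤ A ∧ L ≤ Subgroup.normalizer (Y : Set X) ∧ Y ≠ ⊥) Y

/-- `A` is generated by its minimal `L`-invariant subgroups. -/
def InvSemisimple (L A : Subgroup X) : Prop :=
  A ≤ ⨆ Y ∈ {Y | IsInvAtom L A Y}, Y

theorem invSemisimple_top [A.Normal] (hA : A ≠ ⊥)
    (hmin : ∀ B : Subgroup X, B.Normal → B ≤ A → B = ⊥ ∨ B = A) : InvSemisimple ⊤ A := by
  refine le_iSup₂_of_le A ?_ le_rfl
  refine ⟨⟨le_rfl, by rw [normalizer_eq_top (H := A)], hA⟩, fun Y hY hYA => ?_⟩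
  rcases hmin Y (normalizer_eq_top_iff.mp (top_le_iff.mp hY.2.1)) hYA with h | h
  · exact absurd h hY.2.2
  · exact h.ge

variable [Finite X]

/-- Clifford's theorem. -/
theorem InvSemisimple.of_normal (hNL : N ≤ L) (hLN : L ≤ Subgroup.normalizer (N : Set X))
    (h : InvSemisimple L A) : InvSemisimple N A := by
  refine le_trans h (iSup₂_le fun Y hY => ?_)
  change IsInvAtom L A Y at hY
  unfold IsInvAtom at hY
  obtain ⟨hYA, hLY, hY0⟩ := hY.prop
  let I : Subgroup X := ⨆ Z ∈ {Z | IsInvAtom N A Z ∧ Z ≤ Y}, Z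
  have hIY : I ≤ Y := iSup₂_le fun Z hZ => hZ.2
  have hI0 : I ≠ ⊥ := by
    obtain ⟨Z, hZY, hZ⟩ := Finite.exists_le_minimal
      (p := fun Z : Subgroup X => Z ≤ A ∧ N ≤ Subgroup.normalizer (Z : Set X) ∧ Z ≠ ⊥)
      (a := Y) ⟨hYA, hNL.trans hLY, hY0⟩
    exact fun h0 => hZ.prop.2.2 (le_bot_iff.mp (h0 ▸ le_iSup₂_of_le Z ⟨hZ, hZY⟩ le_rfl))
  have hatom : ∀ g ∈ L, ∀ Z, IsInvAtom N A Z → Z ≤ Y → IsInvAtom N A (g *• Z) ∧ g *• Z ≤ Y := by
    intro g hg Z hZ hZY
    have hgN : ∀ {V : Subgroup X}, g *• V ≤ Y → g *• V ≤ A := fun h => h.trans hYA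
    have hle : g *• Z ≤ Y := (cj_mono g hZY).trans (cj_eq_of_mem_normalizer (hLY hg)).le
    refine ⟨⟨⟨hgN hle, ?_, fun h => hZ.prop.2.2 ?_⟩, fun V hV hVZ => ?_⟩, hle⟩
    · rw [normalizer_cj, ← cj_eq_of_mem_normalizer (hLN hg)]
      exact cj_mono g hZ.prop.2.1
    · rwa [map_eq_bot_iff_of_injective _ (MulAut.conj g).injective] at h
    · have h1 : g⁻¹ *• V ≤ Z := by
        refine (cj_mono g⁻¹ hVZ).trans (le_of_eq ?_)
        rw [cj_cj, inv_mul_cancel, cj_one]
      have h2 := hZ.le_of_le (y := g⁻¹ *• V) ⟨h1.trans hZ.prop.1, ?_, fun h => hV.2.2 ?_⟩ h1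
      · refine (cj_mono g h2).trans (le_of_eq ?_)
        rw [cj_cj, mul_inv_cancel, cj_one]
      · rw [normalizer_cj, ← cj_eq_of_mem_normalizer (hLN (L.inv_mem hg))]
        exact cj_mono g⁻¹ hV.2.1
      · rwa [map_eq_bot_iff_of_injective _ (MulAut.conj g⁻¹).injective] at h
  have hIn : L ≤ Subgroup.normalizer (I : Set X) := fun g hg => by
    refine mem_normalizer_of_cj_le ?_
    simp only [I, Subgroup.map_iSup]
    exact iSup₂_le fun Z hZ => le_iSup₂_of_le (g *• Z) (hatom g hg Z hZ.1 hZ.2) le_rfl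
  exact (hY.le_of_le ⟨hIY.trans hYA, hIn, hI0⟩ hIY).trans
    (iSup₂_le fun Z hZ => le_iSup₂_of_le Z hZ.1 le_rfl)

/-- Invariant complements. -/
theorem InvSemisimple.exists_complement (h : InvSemisimple L A) [IsMulCommutative A]
    {R : Subgroup X} (hRA : R ≤ A) (hR : L ≤ Subgroup.normalizer (R : Set X)) :
    ∃ W : Subgroup X, W ≤ A ∧ L ≤ Subgroup.normalizer (W : Set X) ∧ R ⊓ W = ⊥ ∧
      ∀ a ∈ A, ∃ r ∈ R, ∃ w ∈ W, r * w = a := by
  have hAA : A ≤ Subgroup.centralizer (A : Set X) := le_centralizer_iff_isMulCommutative.mpr ‹_›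
  have hnorm : ∀ {U V : Subgroup X}, U ≤ A → V ≤ A → V ≤ Subgroup.normalizer (U : Set X) :=
    fun {U V} hU hV => ((hV.trans hAA).trans (Subgroup.centralizer_le hU)).trans
      (centralizer_le_normalizer _)
  obtain ⟨W, -, hW⟩ := Finite.exists_le_maximal (p := fun W : Subgroup X =>
      W ≤ A ∧ L ≤ Subgroup.normalizer (W : Set X) ∧ R ⊓ W = ⊥) (a := ⊥)
    ⟨bot_le, by rw [normalizer_eq_top (H := (⊥ : Subgroup X))]; exact le_top, inf_bot_eq _⟩
  obtain ⟨hWA, hWn, hRW⟩ := hW.prop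
  refine ⟨W, hWA, hWn, hRW, fun a ha => ?_⟩
  suffices A ≤ R ⊔ W by
    have h1 := this ha
    rw [← SetLike.mem_coe, coe_mul_of_right_le_normalizer_left R W (hnorm hRA hWA)] at h1
    exact Set.mem_mul.mp h1
  refine le_trans h (iSup₂_le fun Y hY => ?_)
  change IsInvAtom L A Y at hY
  unfold IsInvAtom at hY
  by_contra hYW
  obtain ⟨hYA, hYn, hY0⟩ := hY.prop
  have hinf : Y ⊓ (R ⊔ W) = ⊥ := by
    by_contra h0
    refine hYW ((hY.le_of_le ⟨inf_le_left.trans hYA, ?_, h0⟩ inf_le_left).trans inf_le_right)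
    intro g hg
    refine mem_normalizer_of_cj_le ?_
    rw [cj_inf, Subgroup.map_sup, cj_eq_of_mem_normalizer (hYn hg), cj_eq_of_mem_normalizer (hR hg),
      cj_eq_of_mem_normalizer (hWn hg)]
  have hWY : W ⊔ Y ≤ W := by
    refine hW.le_of_ge ⟨sup_le hWA hYA, ?_, ?_⟩ le_sup_left
    · intro g hg
      refine mem_normalizer_of_cj_le ?_
      rw [Subgroup.map_sup, cj_eq_of_mem_normalizer (hWn hg), cj_eq_of_mem_normalizer (hYn hg)]
    · rw [eq_bot_iff]
      rintro x ⟨hxR, hx⟩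
      rw [← hRW]
      refine Subgroup.mem_inf.mpr ⟨hxR, ?_⟩
      replace hx : x ∈ ((W ⊔ Y : Subgroup X) : Set X) := hx
      rw [coe_mul_of_right_le_normalizer_left W Y (hnorm hWA hYA)] at hx
      obtain ⟨w, hw, y, hy, rfl⟩ := Set.mem_mul.mp hx
      have hy1 : y ∈ Y ⊓ (R ⊔ W) := Subgroup.mem_inf.mpr ⟨hy, by
        have := (R ⊔ W).mul_mem ((R ⊔ W).inv_mem (Subgroup.mem_sup_right hw))
          (Subgroup.mem_sup_left hxR)
        simpa using this⟩
      rw [hinf, mem_bot] at hy1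
      simpa [hy1] using hw
  exact hYW ((le_sup_right.trans hWY).trans le_sup_right)

end

section
variable {G : Type*} [Group G] [Finite G] {p : ℕ}

theorem exists_maximal_normal_lt {U : Subgroup G} [U.Normal] (hU : U ≠ ⊥) :
    ∃ V : Subgroup G, IsChiefFactor U V := by
  obtain ⟨V, -, hV⟩ := Finite.exists_le_maximal (p := fun V : Subgroup G => V.Normal ∧ V < U)
    (a := ⊥) ⟨inferInstance, bot_lt_iff_ne_bot.mpr hU⟩
  exact ⟨V, hV.prop.2, inferInstance, hV.prop.1, fun N hN hVN hNU => (eq_or_lt_of_le hNU).elim Or.inr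
    fun h => Or.inl (le_antisymm (hV.le_of_ge ⟨hN, h⟩ hVN) hVN)⟩

/-- The elements centralising every chief factor below `N`. -/
def chiefKer (N : Subgroup G) : Subgroup G :=
  ⨅ (UV : Subgroup G × Subgroup G) (h : IsChiefFactor UV.1 UV.2 ∧ UV.1 ≤ N),
    haveI := h.1.2.2.1
    (Subgroup.centralizer (UV.1.map (QuotientGroup.mk' UV.2) : Set (G ⧸ UV.2))).comap
      (QuotientGroup.mk' UV.2)

theorem mem_chiefKer {N : Subgroup G} {g : G} : g ∈ chiefKer N ↔
    ∀ U V : Subgroup G, IsChiefFactor U V → U ≤ N → ∀ u ∈ U, ⁅g, u⁆ ∈ V := by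
  simp only [chiefKer, Subgroup.mem_iInf, mem_comap, Subgroup.mem_centralizer_iff]
  constructor
  · intro h U V hUV hU u hu
    have := hUV.2.2.1
    rw [← QuotientGroup.eq_one_iff, ← QuotientGroup.mk'_apply, map_commutatorElement,
      commutatorElement_eq_one_iff_commute]
    exact (h (U, V) ⟨hUV, hU⟩ _ ⟨u, hu, rfl⟩).symm
  · rintro h ⟨U, V⟩ ⟨hUV, hU⟩ _ ⟨u, hu, rfl⟩
    have := hUV.2.2.1
    refine (commutatorElement_eq_one_iff_commute.mp ?_).eq.symm
    rw [← map_commutatorElement]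
    exact (QuotientGroup.eq_one_iff _).mpr (h U V hUV hU u hu)

theorem chiefKer_normal (N : Subgroup G) : (chiefKer N).Normal := by
  refine ⟨fun g hg x => mem_chiefKer.mpr fun U V hUV hU u hu => ?_⟩
  have hVn := hUV.2.2.1
  have h1 := hVn.conj_mem _ (mem_chiefKer.mp hg U V hUV hU _ (hUV.2.1.conj_mem u hu x⁻¹)) x
  rw [← MulAut.conj_apply, map_commutatorElement] at h1
  simpa [mul_assoc] using h1

variable [Fact p.Prime]

/-- Coprime elements centralising the chief factors below a `p`-subgroup centralise it. -/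
theorem mem_centralizer_of_chiefKer {N : Subgroup G} (hp : IsPGroup p N) [N.Normal] {k : G}
    (hk : (orderOf k).Coprime p) (hker : k ∈ chiefKer N) : k ∈ Subgroup.centralizer (N : Set G) := by
  suffices H : ∀ n, ∀ U : Subgroup G, Nat.card U = n → U.Normal → U ≤ N → ∀ u ∈ U, Commute k u by
    rw [Subgroup.mem_centralizer_iff]
    exact fun u hu => (H _ N rfl inferInstance le_rfl u hu).eq.symm
  intro n
  induction n using Nat.strongRecOn with
  | ind n ih =>
  intro U hn hU hUN u hu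
  by_cases hU0 : U = ⊥
  · rw [hU0, mem_bot] at hu
    rw [hu]; exact Commute.one_right k
  obtain ⟨V, hUV⟩ := exists_maximal_normal_lt hU0
  have hv : ⁅k, u⁆ ∈ V := mem_chiefKer.mp hker U V hUV hUN u hu
  have hkv : Commute k ⁅k, u⁆ :=
    ih _ (hn ▸ card_lt_of_lt hUV.1) V rfl hUV.2.2.1 (hUV.1.le.trans hUN) _ hv
  have hiter : ∀ m : ℕ, k ^ m * u * (k ^ m)⁻¹ = ⁅k, u⁆ ^ m * u := by
    intro m
    induction m with
    | zero => simp
    | succ j ihj =>
      calc k ^ (j + 1) * u * (k ^ (j + 1))⁻¹ = k * (k ^ j * u * (k ^ j)⁻¹) * k⁻¹ := by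
            rw [pow_succ']; group
        _ = (k * ⁅k, u⁆ ^ j) * u * k⁻¹ := by rw [ihj]; group
        _ = ⁅k, u⁆ ^ j * (k * u * k⁻¹) := by rw [(hkv.pow_right j).eq]; group
        _ = ⁅k, u⁆ ^ (j + 1) * u := by rw [pow_succ, mul_assoc, commutatorElement_def]; group
  have h1 := hiter (orderOf k)
  rw [pow_orderOf_eq_one, one_mul, inv_one, mul_one] at h1
  have h2 : ⁅k, u⁆ ^ orderOf k = 1 := mul_eq_right.mp h1.symm
  obtain ⟨a, ha⟩ := hp ⟨⁅k, u⁆, hUV.1.le.trans hUN hv⟩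
  have h3 : ⁅k, u⁆ = 1 := orderOf_eq_one_iff.mp (Nat.eq_one_of_dvd_coprimes (hk.pow_right a)
    (orderOf_dvd_of_pow_eq_one h2) (orderOf_dvd_of_pow_eq_one (congrArg Subtype.val ha)))
  exact commutatorElement_eq_one_iff_commute.mp h3

end

end CfsgLib.ConjFunctor
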