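import Cfsg.Agent.ConjFunctor.PComplementCrit
import Cfsg.Agent.ConjFunctor.Corollaries
import Cfsg.Agent.Transfer.QuadraticAbelian

/-!
Groups with a series `p`-group, abelian `p'`-group, `p`-group have normalizer `p`-stable sections,
`p` odd.
-/

set_option autoImplicit false

universe u

namespace CfsgLib.ConjFunctor

open Cfsg Subgroup
open scoped commutatorElement

variable {p : ℕ} [Fact p.Prime]

/-- A series `p`-group, abelian `p'`-group, `p`-group. -/
def HasPAbelianPSeries (p : ℕ) (G : Type*) [Group G] : Prop :=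
  ∃ Q K : Subgroup G, Q.Normal ∧ K.Normal ∧ IsPGroup p Q ∧
    (∀ a ∈ K, ∀ b ∈ K, ⁅a, b⁆ ∈ Q) ∧ (∃ m : ℕ, m.Coprime p ∧ ∀ a ∈ K, a ^ m ∈ Q) ∧
    ∀ g : G, ∃ n : ℕ, g ^ p ^ n ∈ K

variable {G : Type*} [Group G] {H : Type*} [Group H]

omit [Fact p.Prime] in
theorem HasPAbelianPSeries.of_injective (h : HasPAbelianPSeries p G) (f : H →* G)
    (hf : Function.Injective f) : HasPAbelianPSeries p H := by
  obtain ⟨Q, K, hQn, hKn, hQ, hab, ⟨m, hm, hexp⟩, hGK⟩ := h
  refine ⟨Q.comap f, K.comap f, inferInstance, inferInstance, hQ.comap_of_injective f hf,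
    fun a ha b hb => ?_, ⟨m, hm, fun a ha => ?_⟩, fun g => ?_⟩
  · rw [Subgroup.mem_comap, map_commutatorElement]
    exact hab _ ha _ hb
  · rw [Subgroup.mem_comap, map_pow]
    exact hexp _ ha
  · obtain ⟨n, hn⟩ := hGK (f g)
    exact ⟨n, by rwa [Subgroup.mem_comap, map_pow]⟩

omit [Fact p.Prime] in
theorem HasPAbelianPSeries.of_surjective (h : HasPAbelianPSeries p G) (f : G →* H)
    (hf : Function.Surjective f) : HasPAbelianPSeries p H := by
  obtain ⟨Q, K, hQn, hKn, hQ, hab, ⟨m, hm, hexp⟩, hGK⟩ := h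
  refine ⟨Q.map f, K.map f, hQn.map f hf, hKn.map f hf, hQ.map f, ?_, ⟨m, hm, ?_⟩, fun y => ?_⟩
  · rintro _ ⟨a, ha, rfl⟩ _ ⟨b, hb, rfl⟩
    rw [← map_commutatorElement]
    exact mem_map_of_mem f (hab a ha b hb)
  · rintro _ ⟨a, ha, rfl⟩
    rw [← map_pow]
    exact mem_map_of_mem f (hexp a ha)
  · obtain ⟨g, rfl⟩ := hf y
    obtain ⟨n, hn⟩ := hGK g
    exact ⟨n, by rw [← map_pow]; exact mem_map_of_mem f hn⟩

omit [Fact p.Prime] in
theorem mk'_mem_pCore_congr {C C' : Subgroup G} [C.Normal] [C'.Normal] (h : C = C') {a : G}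
    (ha : QuotientGroup.mk' C a ∈ pCore p (G ⧸ C)) :
    (a : G ⧸ C') ∈ pCore p (G ⧸ C') := by
  subst h; exact ha

end CfsgLib.ConjFunctor

namespace CfsgLib.ConjFunctor

open Cfsg Subgroup
open scoped commutatorElement

variable {p : ℕ} [Fact p.Prime] {G : Type u} [Group G] [Finite G]

theorem isNormalizerPStable_of_series (hp2 : p ≠ 2) (h : HasPAbelianPSeries p G) :
    IsNormalizerPStable p G := by
  intro P hP g hg hquad
  set N := Subgroup.normalizer (P : Set G)
  obtain ⟨Q, K, hQn, hKn, hQ, hab, ⟨m, hm, hexp⟩, hGK⟩ := h.of_injective N.subtype N.subtype_injective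
  have hstab := Transfer.QuadAb.quadraticStable_of_series hp2 Q K hQ hab hm hexp (fun x => by
    obtain ⟨y, rfl⟩ := QuotientGroup.mk'_surjective K x
    obtain ⟨n, hn⟩ := hGK y
    exact ⟨n, by rw [← map_pow]; exact (QuotientGroup.eq_one_iff _).mpr hn⟩)
  have hPN : P ≤ N := Subgroup.le_normalizer
  refine mk'_mem_pCore_congr ?_ (hstab (P.subgroupOf N) hP.comap_subtype ⟨g, hg⟩ fun w hw => ?_)
  · ext x
    simp only [Subgroup.mem_subgroupOf, Subgroup.mem_centralizer_iff, SetLike.mem_coe]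
    exact ⟨fun h' y hy => congrArg Subtype.val (h' ⟨y, hPN hy⟩ hy),
      fun h' y hy => Subtype.ext (h' _ hy)⟩
  · have h1 : ⁅⁅(w : G), g⁆, g⁆ = 1 := by
      rw [← Subgroup.mem_bot, ← hquad]
      exact commutator_mem_commutator (commutator_mem_commutator hw (mem_zpowers g)) (mem_zpowers g)
    exact Subtype.ext (commutatorElement_eq_one_iff_mul_comm.mp h1)

theorem hasPAbelianPSeries_of_quotient (h : HasNormalPComplement p (G ⧸ pCore p G))
    (hab : IsMulCommutative (pResidual p (G ⧸ pCore p G))) : HasPAbelianPSeries p G := by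
  let π := QuotientGroup.mk' (pCore p G)
  refine ⟨pCore p G, (pResidual p (G ⧸ pCore p G)).comap π, inferInstance, inferInstance,
    PLocal.isPGroup_pCore p G, fun a ha b hb => ?_,
    ⟨Nat.card (pResidual p (G ⧸ pCore p G)), ?_, fun a ha => ?_⟩, fun g => ?_⟩
  · rw [← QuotientGroup.eq_one_iff, ← QuotientGroup.mk'_apply, map_commutatorElement,
      commutatorElement_eq_one_iff_mul_comm]
    exact congrArg Subtype.val (hab.is_comm.comm (⟨π a, ha⟩ : pResidual p (G ⧸ pCore p G)) ⟨π b, hb⟩)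
  · exact Transfer.coprime_prime_iff.mpr (Transfer.hasNormalPComplement_iff.1 h)
  · rw [← QuotientGroup.eq_one_iff, ← QuotientGroup.mk'_apply, map_pow]
    exact congrArg Subtype.val (pow_card_eq_one' (x := (⟨π a, ha⟩ : pResidual p (G ⧸ pCore p G))))
  · obtain ⟨n, hn⟩ := Transfer.exists_pow_pow_mem_pResidual (p := p) (π g)
    exact ⟨n, by rwa [Subgroup.mem_comap, map_pow]⟩

end CfsgLib.ConjFunctor
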