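import Cfsg.Agent.ConjFunctor.LocalGlobal

/-!
Alperin's fusion theorem with tame intersections and factors of `p`-power order.
-/

set_option autoImplicit false

namespace CfsgLib.ConjFunctor

open Cfsg Subgroup

variable {G : Type*} [Group G] {p : ℕ}

/-- An admissible factor. -/
def TameStep (P Q : Sylow p G) (x : G) : Prop :=
  x ∈ Subgroup.normalizer (((P : Subgroup G) ⊓ (Q : Subgroup G) : Subgroup G) : Set G) ∧
    Extremal p (P : Subgroup G) ((P : Subgroup G) ⊓ (Q : Subgroup G)) ∧
    Extremal p (Q : Subgroup G) ((P : Subgroup G) ⊓ (Q : Subgroup G)) ∧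
    ((Q : Subgroup G) = (P : Subgroup G) ∨ ∃ k : ℕ, orderOf x = p ^ k)

/-- Right-handed chains through tame intersections. -/
inductive TameChain (P : Sylow p G) : Set G → G → Prop
  | nil {A : Set G} : TameChain P A 1
  | cons {A : Set G} {g x : G} {Q : Sylow p G} : TameStep P Q x →
      A ⊆ ((P : Subgroup G) ⊓ (Q : Subgroup G) : Subgroup G) →
      TameChain P ((fun a => x⁻¹ * a * x) '' A) g → TameChain P A (x * g)

variable {P : Sylow p G} {A : Set G} {g : G}

theorem TameChain.mono (h : TameChain P A g) {B : Set G} (hB : B ⊆ A) : TameChain P B g := by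
  induction h generalizing B with
  | nil => exact .nil
  | cons hT hA _ ih => exact .cons hT (hB.trans hA) (ih (Set.image_mono hB))

theorem TameChain.trans (h : TameChain P A g) {k : G}
    (h' : TameChain P ((fun a => g⁻¹ * a * g) '' A) k) : TameChain P A (g * k) := by
  induction h with
  | nil => simpa using h'
  | cons hT hA _ ih =>
    rename_i A g x Q _
    rw [mul_assoc]
    exact .cons hT hA (ih (by simpa [Set.image_image, mul_assoc] using h'))

theorem TameChain.exists_fin (h : TameChain P A g) :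
    ∃ (n : ℕ) (Q : Fin n → Sylow p G) (x : Fin n → G), (List.ofFn x).prod = g ∧
      (∀ i, TameStep P (Q i) (x i)) ∧
      (∀ h : 0 < n, A ⊆ ((P : Subgroup G) ⊓ (Q ⟨0, h⟩ : Subgroup G) : Subgroup G)) ∧
      ∀ (i : Fin n) (h : i.val + 1 < n),
        (fun a => (((List.ofFn x).take (i.val + 1)).prod)⁻¹ * a *
          ((List.ofFn x).take (i.val + 1)).prod) '' A ⊆
            ((P : Subgroup G) ⊓ (Q ⟨i.val + 1, h⟩ : Subgroup G) : Subgroup G) := by
  induction h with
  | nil => exact ⟨0, Fin.elim0, Fin.elim0, rfl, fun i => i.elim0,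
      fun h => absurd h (lt_irrefl _), fun i => i.elim0⟩
  | cons hT hA _ ih =>
    rename_i A g x₀ Q₀ _
    obtain ⟨n, Q, x, hp, h1, h3, h4⟩ := ih
    refine ⟨n + 1, Fin.cons Q₀ Q, Fin.cons x₀ x, by simp [List.ofFn_succ, hp], ?_, ?_, ?_⟩
    · exact Fin.cases hT h1
    · exact fun _ => hA
    · intro i hi
      induction i using Fin.cases with
      | zero =>
        have h0 : 0 < n := by simpa using hi
        rw [show (⟨((0 : Fin (n + 1))).val + 1, hi⟩ : Fin (n + 1)) = Fin.succ ⟨0, h0⟩ from rfl,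
          Fin.cons_succ]
        simpa [List.ofFn_succ, Set.image_subset_iff] using h3 h0
      | succ j =>
        have hj : j.val + 1 < n := by simpa using hi
        have hh := h4 j hj
        rw [show (⟨(Fin.succ j).val + 1, hi⟩ : Fin (n + 1)) = Fin.succ ⟨j.val + 1, hj⟩ from rfl,
          Fin.cons_succ]
        simpa [List.ofFn_succ, Set.image_image, mul_assoc] using hh

variable [Finite G] [Fact p.Prime]

/-- A chain conjugates `R` to `P`. -/
def Reaches (P R : Sylow p G) : Prop :=
  ∃ x : G, TameChain P ((((P : Subgroup G) ⊓ (R : Subgroup G) : Subgroup G)) : Set G) x ∧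
    x⁻¹ *• (R : Subgroup G) = (P : Subgroup G)

/-- The Sylow subgroup `x⁻¹ R x`. -/
noncomputable def conjSylow (R : Sylow p G) (x : G) : Sylow p G :=
  (show IsSylowIn p (x⁻¹ *• (R : Subgroup G)) ⊤ by
    have := (isSylowIn_top R).cj x⁻¹
    rwa [cj_self_of_mem (Subgroup.mem_top x⁻¹)] at this).toSylowTop

theorem coe_conjSylow (R : Sylow p G) (x : G) :
    (conjSylow R x : Subgroup G) = x⁻¹ *• (R : Subgroup G) := rfl

theorem reaches_comp {R : Sylow p G} {z : G}
    (h1 : TameChain P ((((P : Subgroup G) ⊓ (R : Subgroup G) : Subgroup G)) : Set G) z)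
    (hle : z⁻¹ *• ((P : Subgroup G) ⊓ (R : Subgroup G)) ≤ (P : Subgroup G))
    (h2 : Reaches P (conjSylow R z)) : Reaches P R := by
  obtain ⟨x, hx, hxe⟩ := h2
  refine ⟨z * x, h1.trans (hx.mono ?_), ?_⟩
  · rintro _ ⟨a, ha, rfl⟩
    have ha' : z⁻¹ * a * z ∈ z⁻¹ *• ((P : Subgroup G) ⊓ (R : Subgroup G)) := by
      rw [mem_cj, show z⁻¹⁻¹ * (z⁻¹ * a * z) * z⁻¹ = a by group]; exact ha
    exact ⟨hle ha', cj_mono z⁻¹ inf_le_right ha'⟩
  · rw [mul_inv_rev, ← cj_cj]
    exact hxe

theorem reaches_all (P : Sylow p G) : ∀ R : Sylow p G, Reaches P R := by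
  suffices H : ∀ (k : ℕ) (R : Sylow p G),
      Nat.card (P : Subgroup G) - Nat.card ((P : Subgroup G) ⊓ (R : Subgroup G) : Subgroup G) = k →
      Reaches P R from fun R => H _ R rfl
  intro k
  induction k using Nat.strongRecOn with
  | ind k ih =>
  intro R hk
  have hS := isSylowIn_top P
  have big : ∀ R' : Sylow p G, Nat.card ((P : Subgroup G) ⊓ (R : Subgroup G) : Subgroup G) <
      Nat.card ((P : Subgroup G) ⊓ (R' : Subgroup G) : Subgroup G) → Reaches P R' := fun R' h =>
    ih _ (by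
      have := Nat.le_of_dvd Nat.card_pos (card_dvd_of_le
        (inf_le_left : (P : Subgroup G) ⊓ (R' : Subgroup G) ≤ (P : Subgroup G)))
      omega) R' rfl
  -- the case of a tame intersection with `N_P(D)` Sylow in `N(D)`
  have tame : ∀ R : Sylow p G,
      Nat.card (P : Subgroup G) - Nat.card ((P : Subgroup G) ⊓ (R : Subgroup G) : Subgroup G) = k →
      (P : Subgroup G) ⊓ (R : Subgroup G) ≠ (P : Subgroup G) →
      Extremal p (P : Subgroup G) ((P : Subgroup G) ⊓ (R : Subgroup G)) → Reaches P R := by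
    intro R hk hRP hext
    set D := (P : Subgroup G) ⊓ (R : Subgroup G) with hDdef
    have big : ∀ R' : Sylow p G, Nat.card D <
        Nat.card ((P : Subgroup G) ⊓ (R' : Subgroup G) : Subgroup G) → Reaches P R' := fun R' h =>
      ih _ (by
        have := Nat.le_of_dvd Nat.card_pos (card_dvd_of_le
          (inf_le_left : (P : Subgroup G) ⊓ (R' : Subgroup G) ≤ (P : Subgroup G)))
        omega) R' rfl
    have hDR : D < (R : Subgroup G) := lt_of_le_of_ne inf_le_right fun h => hRP (by
      have h1 : (R : Subgroup G) ≤ (P : Subgroup G) := h ▸ inf_le_left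
      rw [h]
      exact (R.3 P.2 h1).symm)
    have hND := card_lt_of_lt (lt_inf_normalizer R.2 hDR)
    obtain ⟨SR, hSR, hSRs⟩ := exists_isSylowIn_ge
      (inf_le_right : (R : Subgroup G) ⊓ Subgroup.normalizer (D : Set G) ≤ _) R.2.to_inf_left
    obtain ⟨T, hT⟩ := hSRs.2.1.exists_le_sylow
    have hDN : D ≤ (R : Subgroup G) ⊓ Subgroup.normalizer (D : Set G) :=
      le_inf inf_le_right le_normalizer
    have hDT : D ≤ (P : Subgroup G) ⊓ (T : Subgroup G) :=
      le_inf inf_le_left ((hDN.trans hSR).trans hT)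
    rcases hDT.eq_or_lt with heq | hlt
    · have hPN := (extremal_iff P.2).mp hext
      have hTN : (T : Subgroup G) ⊓ Subgroup.normalizer (D : Set G) = SR :=
        hSRs.eq_of_le (le_inf hT hSRs.1) inf_le_right T.2.to_inf_left
      let K := Subgroup.closure {y : G | y ∈ Subgroup.normalizer (D : Set G) ∧ ∃ j, orderOf y = p ^ j}
      have hKle : K ≤ Subgroup.normalizer (D : Set G) := (Subgroup.closure_le _).mpr fun y hy => hy.1
      have hpK : ∀ X : Subgroup G, IsSylowIn p X (Subgroup.normalizer (D : Set G)) → X ≤ K :=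
        fun X hX y hy => Subgroup.subset_closure ⟨hX.1 hy, by
          obtain ⟨j, hj⟩ := IsPGroup.iff_orderOf.mp hX.2.1 ⟨y, hy⟩
          exact ⟨j, by rwa [Subgroup.orderOf_mk] at hj⟩⟩
      obtain ⟨y, hy, hye⟩ := (hPN.of_le (hpK _ hPN) hKle).exists_cj_eq
        (hSRs.of_le (hpK _ hSRs) hKle)
      have step : ∀ x ∈ Subgroup.normalizer (D : Set G), (∃ j, orderOf x = p ^ j) → TameStep P T x :=
        fun x hx hj => ⟨heq ▸ hx, heq ▸ hext, by
          rw [← heq, Extremal, hTN]; exact hSRs.2.2, Or.inr hj⟩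
      have himg : ∀ x ∈ Subgroup.normalizer (D : Set G),
          (fun a => x⁻¹ * a * x) '' (D : Set G) ⊆ D := by
        rintro x hx _ ⟨a, ha, rfl⟩
        exact (Subgroup.mem_normalizer_iff''.mp hx a).mp ha
      have hchain : ∀ z ∈ K, ∀ w, TameChain P (D : Set G) w → TameChain P (D : Set G) (z * w) := by
        intro z hz
        induction hz using Subgroup.closure_induction_left with
        | one => intro w hw; rwa [one_mul]
        | mul_left x hx y _ ihy =>
          intro w hw
          rw [mul_assoc]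
          exact .cons (step x hx.1 hx.2) (SetLike.coe_subset_coe.mpr heq.le)
            ((ihy w hw).mono (himg x hx.1))
        | inv_mul_cancel x hx y _ ihy =>
          intro w hw
          rw [mul_assoc]
          exact .cons (step x⁻¹ (inv_mem hx.1) (by rw [orderOf_inv]; exact hx.2))
            (SetLike.coe_subset_coe.mpr heq.le) ((ihy w hw).mono (himg _ (inv_mem hx.1)))
      have hc := hchain y⁻¹ (inv_mem hy) 1 .nil
      rw [mul_one] at hc
      refine reaches_comp hc (by
        rw [inv_inv, cj_eq_of_mem_normalizer (hKle hy)]; exact inf_le_left) (big _ ?_)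
      refine lt_of_lt_of_le hND ?_
      rw [← card_cj y]
      refine Nat.le_of_dvd Nat.card_pos (card_dvd_of_le (le_inf ?_ ?_))
      · exact (cj_mono y hSR).trans (hye.le.trans inf_le_left)
      · rw [coe_conjSylow, inv_inv]; exact cj_mono y inf_le_left
    · obtain ⟨z, hz, hze⟩ := big T (card_lt_of_lt hlt)
      refine reaches_comp (hz.mono hDT)
        ((cj_mono z⁻¹ (hDT.trans inf_le_right)).trans hze.le) (big _ ?_)
      refine lt_of_lt_of_le hND ?_
      rw [← card_cj z⁻¹]
      refine Nat.le_of_dvd Nat.card_pos (card_dvd_of_le (le_inf ?_ ?_))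
      · exact (cj_mono z⁻¹ (hSR.trans hT)).trans hze.le
      · rw [coe_conjSylow]; exact cj_mono z⁻¹ inf_le_left
  by_cases hRP : (P : Subgroup G) ⊓ (R : Subgroup G) = (P : Subgroup G)
  · have h1 : (R : Subgroup G) = (P : Subgroup G) := P.3 R.2 (hRP ▸ inf_le_right)
    exact ⟨1, .nil, by rw [inv_one, cj_one, h1]⟩
  set D := (P : Subgroup G) ⊓ (R : Subgroup G) with hDdef
  obtain ⟨S0, hS0, hS0s⟩ := exists_isSylowIn_ge
    (inf_le_right : (P : Subgroup G) ⊓ Subgroup.normalizer (D : Set G) ≤ _) P.2.to_inf_left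
  obtain ⟨P1, hP1⟩ := hS0s.2.1.exists_le_sylow
  have hlt : D < (P : Subgroup G) ⊓ (P1 : Subgroup G) := by
    refine lt_of_lt_of_le (lt_inf_normalizer P.2 (lt_of_le_of_ne inf_le_left hRP)) ?_
    exact le_inf inf_le_left (hS0.trans hP1)
  obtain ⟨z, hz, hze⟩ := big P1 (card_lt_of_lt hlt)
  have hzD : z⁻¹ *• D ≤ (P : Subgroup G) :=
    (cj_mono z⁻¹ (hlt.le.trans inf_le_right)).trans hze.le
  refine reaches_comp (hz.mono hlt.le) hzD ?_
  have hle : z⁻¹ *• D ≤ (P : Subgroup G) ⊓ (conjSylow R z : Subgroup G) :=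
    le_inf hzD (by rw [coe_conjSylow]; exact cj_mono z⁻¹ inf_le_right)
  rcases hle.eq_or_lt with heq | hlt'
  · refine tame _ ?_ ?_ ?_
    · rw [← heq, card_cj]; exact hk
    · intro h
      rw [← heq] at h
      exact hRP (eq_of_le_of_card_ge inf_le_left (by rw [← card_cj z⁻¹ D, h]))
    · rw [← heq, Extremal]
      have hsy : IsSylowIn p (z⁻¹ *• S0) (Subgroup.normalizer ((z⁻¹ *• D : Subgroup G) : Set G)) := by
        rw [normalizer_cj]; exact hS0s.cj z⁻¹
      rw [hsy.eq_of_le (le_inf ((cj_mono z⁻¹ hP1).trans hze.le) hsy.1) inf_le_right P.2.to_inf_left]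
      exact hsy.2.2
  · exact big _ (by rw [← card_cj z⁻¹ D]; exact card_lt_of_lt hlt')

/-- Alperin's fusion theorem. -/
theorem exists_tameChain (P : Sylow p G) (A : Set G) (g : G) (hA : A ⊆ (P : Set G))
    (hAg : (fun a => g⁻¹ * a * g) '' A ⊆ (P : Set G)) : TameChain P A g := by
  let R : Sylow p G := conjSylow P g⁻¹
  obtain ⟨x, hx, hxe⟩ := reaches_all P R
  have hAR : A ⊆ (R : Subgroup G) := fun a ha => by
    show a ∈ g⁻¹⁻¹ *• (P : Subgroup G)
    rw [inv_inv, mem_cj]
    exact hAg ⟨a, ha, rfl⟩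
  have hy : x⁻¹ * g ∈ Subgroup.normalizer ((P : Subgroup G) : Set G) := by
    refine mem_normalizer_iff_cj.mpr ?_
    rw [← cj_cj]
    rw [coe_conjSylow, inv_inv] at hxe
    exact hxe
  have h := (hx.mono (fun a ha => Subgroup.mem_inf.mpr ⟨hA ha, hAR ha⟩)).trans
    (k := x⁻¹ * g * 1) (.cons (Q := P) ?_ ?_ .nil)
  · simpa using h
  · refine ⟨by rwa [inf_idem], ?_, ?_, Or.inl rfl⟩
    all_goals
      rw [inf_idem]
      have h0 := (isSylowIn_top P).of_le (le_inf le_rfl le_normalizer :
        (P : Subgroup G) ≤ (P : Subgroup G) ⊓ Subgroup.normalizer ((P : Subgroup G) : Set G)) le_top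
      rw [Extremal, inf_eq_left.mpr le_normalizer]
      exact ((isSylowIn_top P).of_le le_normalizer le_top).2.2
  · rintro _ ⟨a, ha, rfl⟩
    rw [inf_idem]
    have h1 : x⁻¹ * a * x ∈ x⁻¹ *• (R : Subgroup G) := by
      rw [mem_cj, show x⁻¹⁻¹ * (x⁻¹ * a * x) * x⁻¹ = a by group]; exact hAR ha
    rwa [hxe] at h1

end CfsgLib.ConjFunctor
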