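import Cfsg.Agent.ConjFunctor.LocalGlobal

/-!
Well-placed subgroups, conjugation families (Alperin type), and the local-to-global theorems
phrased with well-placed subgroups.
-/

set_option autoImplicit false

namespace CfsgLib.ConjFunctor

open Cfsg Subgroup

variable {G : Type*} [Group G] {p : ℕ} {W : Subgroup G → Subgroup G} {S : Subgroup G}

theorem functorTower_shift (W : Subgroup G → Subgroup G) (S T : Subgroup G) (i : ℕ) :
    functorTower W S (W (nrm S T)) i = functorTower W S T (i + 1) := by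
  induction i with
  | zero => rfl
  | succ n ih => simp only [functorTower] at ih ⊢; rw [ih]

theorem functorTower_le (hW : IsConjugacyFunctor p W) (hS : IsPGroup p S) {T : Subgroup G}
    (hT : T ≤ S) : ∀ i, functorTower W S T i ≤ S
  | 0 => hT
  | _ + 1 => (functor_le hW hS.to_inf_left).trans inf_le_left

theorem wellPlaced_step (hW : IsConjugacyFunctor p W) (hS : IsPGroup p S) {T : Subgroup G}
    (h : IsWellPlaced p W S T) : IsWellPlaced p W S (W (nrm S T)) :=
  ⟨functorTower_le hW hS h.1 1, fun i => by rw [functorTower_shift]; exact h.2 (i + 1)⟩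

theorem functorTower_add (W : Subgroup G → Subgroup G) (S T : Subgroup G) (i : ℕ) :
    ∀ j, functorTower W S T (i + j) = functorTower W S (functorTower W S T i) j
  | 0 => rfl
  | j + 1 => by
    show functorTower W S T (i + j + 1) = _
    simp only [functorTower]; rw [functorTower_add W S T i j]

theorem wellPlaced_tower (hW : IsConjugacyFunctor p W) (hS : IsPGroup p S) {T : Subgroup G}
    (h : IsWellPlaced p W S T) (i : ℕ) : IsWellPlaced p W S (functorTower W S T i) :=
  ⟨functorTower_le hW hS h.1 i, fun j => by rw [← functorTower_add]; exact h.2 (i + j)⟩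

theorem nrm_le_next (hW : IsConjugacyFunctor p W) (hS : IsPGroup p S) (T : Subgroup G) :
    nrm S T ≤ nrm S (W (nrm S T)) :=
  le_inf inf_le_left (le_normalizer_functor hW hS.to_inf_left)

variable [Finite G] [Fact p.Prime]

/-- The tower of a subgroup reaches `W S`. -/
theorem exists_tower_eq (hW : IsConjugacyFunctor p W) (hS : IsPGroup p S) {T : Subgroup G} :
    ∃ i, nrm S (functorTower W S T i) = S := by
  by_contra hne
  push Not at hne
  have hlt : ∀ i, nrm S (functorTower W S T i) < nrm S (functorTower W S T (i + 1)) := fun i =>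
    lt_of_lt_of_le (lt_inf_normalizer hS (lt_of_le_of_ne inf_le_left (hne i)))
      (inf_le_inf_left _ (normalizer_le_normalizer_functor hW hS.to_inf_left))
  have key : ∀ i, i ≤ Nat.card (nrm S (functorTower W S T i)) := fun i => by
    induction i with
    | zero => exact Nat.zero_le _
    | succ n ih => have := card_lt_of_lt (hlt n); omega
  have h1 := key (Nat.card S + 1)
  have h2 : Nat.card (nrm S (functorTower W S T (Nat.card S + 1))) ≤ Nat.card S :=
    Nat.le_of_dvd Nat.card_pos (card_dvd_of_le inf_le_left)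
  simp only [nrm] at h1 h2
  omega

/-- Every subgroup of `S` has a well-placed conjugate. -/
theorem exists_wellPlaced_conj (hS : IsSylowIn p S ⊤) (hW : IsConjugacyFunctor p W)
    {T : Subgroup G} (hT : T ≤ S) : ∃ g : G, IsWellPlaced p W S (g *• T) := by
  let Good : ℕ → G → Prop := fun n g => g *• T ≤ S ∧
    ∀ i ≤ n, Extremal p S (functorTower W S (g *• T) i)
  have hex : ∀ n, ∃ g, Good n g := by
    intro n
    induction n with
    | zero =>
      obtain ⟨a, h1, h2, -⟩ := exists_extremal_conj hS hT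
      exact ⟨a, h1, fun i hi => by rw [Nat.le_zero.mp hi]; exact h2⟩
    | succ n ih =>
      obtain ⟨g, hg, hn⟩ := ih
      obtain ⟨a, ha1, ha2, ha3⟩ :=
        exists_extremal_conj hS (functorTower_le hW hS.2.1 hg (n + 1))
      have hmono : ∀ j, j ≤ n + 1 → nrm S (functorTower W S (g *• T) j) ≤
          nrm S (functorTower W S (g *• T) (n + 1)) := by
        intro j hj
        induction hj using Nat.decreasingInduction with
        | of_succ m _ hi => exact (nrm_le_next hW hS.2.1 _).trans hi
        | self => exact le_rfl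
      have hN : ∀ i, i ≤ n → a *• nrm S (functorTower W S (g *• T) i) ≤ S := fun i hi =>
        (cj_mono a (hmono i (by omega))).trans ha3
      have htow : ∀ i, i ≤ n + 1 →
          functorTower W S ((a * g) *• T) i = a *• functorTower W S (g *• T) i := by
        intro i
        induction i with
        | zero => intro _; show (a * g) *• T = a *• (g *• T); rw [cj_cj]
        | succ m ihm =>
          intro hm
          have hP : nrm S (functorTower W S ((a * g) *• T) m) =
              a *• nrm S (functorTower W S (g *• T) m) := by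
            rw [ihm (by omega)]
            refine IsSylowIn.eq_of_le ?_ (cj_nrm_le (hN m (by omega))) inf_le_right
              hS.2.1.to_inf_left
            rw [normalizer_cj]
            exact ((extremal_iff hS.2.1).mp (hn m (by omega))).cj a
          simp only [nrm] at hP
          simp only [functorTower]
          rw [hP]
          exact functor_cj hW hS.2.1.to_inf_left a
      refine ⟨a * g, ?_, fun i hi => ?_⟩
      · rw [← cj_cj]
        exact (cj_mono a (le_inf hg le_normalizer)).trans (hN 0 (Nat.zero_le _))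
      · rcases Nat.lt_or_eq_of_le hi with hlt | rfl
        · rw [htow i hi]
          have hSy := ((extremal_iff hS.2.1).mp (hn i (by omega))).cj a
          rw [← normalizer_cj] at hSy
          rw [Extremal]
          have heq := hSy.eq_of_le (cj_nrm_le (hN i (by omega))) inf_le_right hS.2.1.to_inf_left
          simp only [nrm] at heq
          rw [heq]; exact hSy.2.2
        · rw [htow _ le_rfl]; exact ha2
  obtain ⟨g, hg⟩ := Finite.exists_infinite_fiber (fun n => Classical.choose (hex n))
  refine ⟨g, ?_, fun i => ?_⟩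
  · obtain ⟨⟨n, hn⟩⟩ := hg.nonempty
    exact (show Classical.choose (hex n) = g from hn) ▸ (Classical.choose_spec (hex n)).1
  · obtain ⟨n, hn, hle⟩ := (Set.infinite_coe_iff.mp hg).exists_gt i
    exact (show Classical.choose (hex n) = g from hn) ▸ (Classical.choose_spec (hex n)).2 i hle.le

/-- The climbing data of one conjugacy functor, through well-placed subgroups. -/
theorem climb_wellPlaced (hS : IsSylowIn p S ⊤) (hW : IsConjugacyFunctor p W) :
    Climb p S (fun P => famIn {W} ⊤ P) (fun U => IsWellPlaced p W S U) where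
  le U h := h.1
  extremal U h := h.2 0
  exists_conj T hT _ := by
    obtain ⟨a, ha⟩ := exists_wellPlaced_conj hS hW hT
    exact ⟨_, ⟨a, rfl⟩, ha.1, ha.2 0, Or.inl ha⟩
  climb U hU hne hP M hM := by
    obtain ⟨V, hV, rfl⟩ := hM
    rw [Set.mem_singleton_iff] at hV
    subst hV
    obtain ⟨h1, h2⟩ := climb_functor_aux hW hS.2.1 hU.1 hne hP
    refine Or.inr ⟨_, 1, h1, h2, inf_le_right, ?_, ?_⟩
    · rw [cj_one]; exact inf_le_left
    · rw [cj_one]; exact wellPlaced_step hW hS.2.1 hU

/-! ### Conjugation families -/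

/-- Right-handed conjugation chains through normalisers of members of `𝓕`, with exact products. -/
inductive Alp (𝓕 : Set (Subgroup G)) : Set G → G → Prop
  | nil {A : Set G} : Alp 𝓕 A 1
  | cons {A : Set G} {g x : G} {T : Subgroup G} : T ∈ 𝓕 → x ∈ Subgroup.normalizer (T : Set G) →
      A ⊆ T → Alp 𝓕 ((fun a => x⁻¹ * a * x) '' A) g → Alp 𝓕 A (x * g)

variable {𝓕 : Set (Subgroup G)} {A : Set G} {g : G}

omit [Finite G] [Fact p.Prime] in
theorem Alp.mono (h : Alp 𝓕 A g) {B : Set G} (hB : B ⊆ A) : Alp 𝓕 B g := by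
  induction h generalizing B with
  | nil => exact .nil
  | cons hT hx hA _ ih => exact .cons hT hx (hB.trans hA) (ih (Set.image_mono hB))

omit [Finite G] [Fact p.Prime] in
theorem Alp.trans (h : Alp 𝓕 A g) {k : G} (h' : Alp 𝓕 ((fun a => g⁻¹ * a * g) '' A) k) :
    Alp 𝓕 A (g * k) := by
  induction h with
  | nil => simpa using h'
  | cons hT hx hA _ ih =>
    rename_i A g x T _
    rw [mul_assoc]
    refine .cons hT hx hA (ih ?_)
    simpa [Set.image_image, mul_assoc] using h'

omit [Finite G] [Fact p.Prime] in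
theorem Alp.symm (h : Alp 𝓕 A g) : Alp 𝓕 ((fun a => g⁻¹ * a * g) '' A) g⁻¹ := by
  induction h with
  | nil => simpa using Alp.nil
  | cons hT hx hA _ ih =>
    rename_i A g x T _
    rw [mul_inv_rev]
    simp only [Set.image_image, mul_assoc] at ih ⊢
    refine ih.trans ?_
    rw [← mul_one x⁻¹]
    refine .cons hT (inv_mem hx) ?_ .nil
    rintro _ ⟨_, ⟨a, ha, rfl⟩, rfl⟩
    simpa [mul_assoc] using (mem_normalizer_iff''.mp hx a).mp (hA ha)

omit [Finite G] [Fact p.Prime] in
theorem Alp.exists_fin (h : Alp 𝓕 A g) :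
    ∃ (n : ℕ) (T : Fin n → Subgroup G) (x : Fin n → G), (List.ofFn x).prod = g ∧
      (∀ i, T i ∈ 𝓕) ∧ (∀ i, x i ∈ Subgroup.normalizer ((T i : Subgroup G) : Set G)) ∧
      (∀ h : 0 < n, A ⊆ T ⟨0, h⟩) ∧
      ∀ (i : Fin n) (h : i.val + 1 < n),
        (fun a => (((List.ofFn x).take (i.val + 1)).prod)⁻¹ * a *
          ((List.ofFn x).take (i.val + 1)).prod) '' A ⊆ T ⟨i.val + 1, h⟩ := by
  induction h with
  | nil => exact ⟨0, Fin.elim0, Fin.elim0, rfl, fun i => i.elim0, fun i => i.elim0,
      fun h => absurd h (lt_irrefl _), fun i => i.elim0⟩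
  | cons hT hx hA _ ih =>
    rename_i A g x₀ T₀ _
    obtain ⟨n, T, x, hp, h1, h2, h3, h4⟩ := ih
    refine ⟨n + 1, Fin.cons T₀ T, Fin.cons x₀ x, by simp [List.ofFn_succ, hp], ?_, ?_, ?_, ?_⟩
    · exact Fin.cases hT h1
    · exact Fin.cases hx h2
    · exact fun _ => hA
    · intro i hi
      induction i using Fin.cases with
      | zero =>
        have h0 : 0 < n := by simpa using hi
        rw [show (⟨((0 : Fin (n + 1))).val + 1, hi⟩ : Fin (n + 1)) = Fin.succ ⟨0, h0⟩ from rfl,
          Fin.cons_succ]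
        have := h3 h0
        simpa [List.ofFn_succ, Set.image_subset_iff] using this
      | succ j =>
        have hj : j.val + 1 < n := by simpa using hi
        have hh := h4 j hj
        rw [show (⟨(Fin.succ j).val + 1, hi⟩ : Fin (n + 1)) = Fin.succ ⟨j.val + 1, hj⟩ from rfl,
          Fin.cons_succ]
        simpa [List.ofFn_succ, Set.image_image, mul_assoc] using hh

/-- Criterion for a conjugation family. -/
theorem isConjugationFamily_of_extremal (hS : IsSylowIn p S ⊤) (hle : ∀ U ∈ 𝓕, U ≤ S)
    (h : ∀ T, T ≤ S → ∃ U ∈ 𝓕, (∃ g : G, g *• T = U) ∧ Extremal p S U) :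
    IsConjugationFamily 𝓕 S := by
  refine ⟨hle, fun A g _ hA hgA => ?_⟩
  suffices H : ∀ k, ∀ T : Subgroup G, Nat.card S - Nat.card T = k → T ≤ S → ∀ g : G,
      g⁻¹ *• T ≤ S → Alp 𝓕 (T : Set G) g by
    refine Alp.exists_fin (Alp.mono (H _ (Subgroup.closure A) rfl ((Subgroup.closure_le _).mpr hA)
      g ?_) Subgroup.subset_closure)
    rw [MonoidHom.map_closure, Subgroup.closure_le]
    rintro _ ⟨a, ha, rfl⟩
    simpa using hgA ⟨a, ha, rfl⟩
  intro k
  induction k using Nat.strongRecOn with
  | ind k ih =>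
  intro T hk hT g hg
  obtain ⟨U, hUF, hconj, hUE⟩ := h T hT
  obtain ⟨g0, hg0⟩ := hconj
  by_cases hTS : T = S
  · have hUS : U = S := eq_of_le_of_card_ge (hle U hUF) (by rw [← hg0, card_cj, hTS])
    have hgS : g⁻¹ ∈ Subgroup.normalizer (S : Set G) := mem_normalizer_of_cj_le (hTS ▸ hg)
    rw [← mul_one g]
    exact .cons hUF (hUS ▸ inv_mem_iff.mp hgS) (hUS ▸ hT) .nil
  have big : ∀ T' : Subgroup G, T' ≤ S → Nat.card T < Nat.card T' → ∀ g : G, g⁻¹ *• T' ≤ S →
      Alp 𝓕 (T' : Set G) g := fun T' hT' hc g hg' =>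
    ih _ (by have := Nat.le_of_dvd Nat.card_pos (card_dvd_of_le hT'); omega) T' rfl hT' g hg'
  obtain ⟨a, haT, haN⟩ := exists_conj_to_extremal hS.2.1 hUE ⟨g0, hg0⟩ (T := T)
  obtain ⟨b, hbT, hbN⟩ := exists_conj_to_extremal hS.2.1 hUE
    ⟨g0 * g, by rw [← cj_cj, cj_cj_inv, hg0]⟩ (T := g⁻¹ *• T)
  have hlt : Nat.card T < Nat.card (nrm S T) :=
    card_lt_of_lt (lt_inf_normalizer hS.2.1 (lt_of_le_of_ne hT hTS))
  have hgTS : g⁻¹ *• T < S := lt_of_le_of_ne hg fun h => hTS (eq_of_le_of_card_ge hT
    (by rw [← h, card_cj]))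
  have hlt' : Nat.card T < Nat.card (nrm S (g⁻¹ *• T)) := by
    rw [← card_cj g⁻¹ T]; exact card_lt_of_lt (lt_inf_normalizer hS.2.1 hgTS)
  have hfa : Alp 𝓕 (T : Set G) a⁻¹ := (big _ inf_le_left hlt a⁻¹
    (by rw [inv_inv]; exact haN.trans inf_le_left)).mono (le_inf hT le_normalizer)
  have hfb : Alp 𝓕 ((g⁻¹ *• T : Subgroup G) : Set G) b⁻¹ := (big _ inf_le_left hlt' b⁻¹
    (by rw [inv_inv]; exact hbN.trans inf_le_left)).mono (le_inf hg le_normalizer)
  have hx : a * g * b⁻¹ ∈ Subgroup.normalizer (U : Set G) := by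
    rw [mem_normalizer_iff_cj]
    nth_rewrite 1 [← hbT]
    rw [cj_cj, inv_mul_cancel_right, cj_cj, mul_inv_cancel_right, haT]
  have eU : ∀ (c : G) (V : Subgroup G), (fun x => c⁻¹⁻¹ * x * c⁻¹) '' (V : Set G) =
      ((c *• V : Subgroup G) : Set G) := fun c V => by
    rw [Subgroup.coe_map]; exact Set.image_congr' fun x => by simp
  have hmid : Alp 𝓕 (U : Set G) (a * g * b⁻¹) := by
    rw [← mul_one (a * g * b⁻¹)]
    exact .cons hUF hx (Set.Subset.refl _) .nil
  have h2 := (hfa.trans (k := a * g * b⁻¹) (by rwa [eU, haT])).trans (k := b) (by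
    have := hfb.symm
    rw [eU, hbT, inv_inv] at this
    have e : (fun x => (a⁻¹ * (a * g * b⁻¹))⁻¹ * x * (a⁻¹ * (a * g * b⁻¹))) '' (T : Set G) =
        (U : Set G) := by
      rw [show a⁻¹ * (a * g * b⁻¹) = (b * g⁻¹)⁻¹ by simp [mul_assoc], eU, ← cj_cj, hbT]
    rwa [e])
  simpa [mul_assoc] using h2

/-- The well-placed subgroups form a conjugation family. -/
theorem wellPlaced_conjugationFamily (hS : IsSylowIn p S ⊤) (hW : IsConjugacyFunctor p W) :
    IsConjugationFamily {T : Subgroup G | IsWellPlaced p W S T} S :=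
  isConjugationFamily_of_extremal hS (fun _ h => h.1) fun T hT => by
    obtain ⟨g, hg⟩ := exists_wellPlaced_conj hS hW hT
    exact ⟨_, hg, ⟨g, rfl⟩, hg.2 0⟩

omit [Finite G] [Fact p.Prime] in
/-- A chain that moves `A` has a first member of the family moving it. -/
theorem exists_moved_of_family (h : IsConjugationFamily 𝓕 S) {A : Subgroup G} (hA : A ≤ S)
    {g : G} (hg : g *• A ≤ S) (hne : g *• A ≠ A) :
    ∃ T ∈ 𝓕, A ≤ T ∧ ∃ x ∈ Subgroup.normalizer (T : Set G), x *• A ≠ A := by
  obtain ⟨n, T, x, hp, hT, hx, h0, hstep⟩ := h.2 (A : Set G) g⁻¹ ⟨1, A.one_mem⟩ hA (by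
    rintro _ ⟨a, ha, rfl⟩
    simpa using hg (conj_mem_cj g ha))
  by_contra hcon
  push Not at hcon
  have key : ∀ i, i ≤ n → (((List.ofFn x).take i).prod)⁻¹ *• A = A := by
    intro i
    induction i with
    | zero => intro _; rw [List.take_zero, List.prod_nil, inv_one, cj_one]
    | succ m ihm =>
      intro hm
      have hAT : A ≤ T ⟨m, hm⟩ := by
        rcases Nat.eq_zero_or_pos m with rfl | hpos
        · exact h0 hm
        · obtain ⟨k, rfl⟩ := Nat.exists_eq_add_one.mpr hpos
          have h := hstep ⟨k, by omega⟩ hm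
          intro a ha
          obtain ⟨b, hb, hba⟩ : a ∈ (((List.ofFn x).take (k + 1)).prod)⁻¹ *• A :=
            (ihm (by omega)).symm ▸ ha
          exact h ⟨b, hb, by simpa using hba⟩
      rw [List.prod_take_succ _ _ (by simpa using hm), List.getElem_ofFn, mul_inv_rev, ← cj_cj,
        ihm (by omega)]
      exact hcon _ (hT _) hAT _ (inv_mem (hx _))
  refine hne ?_
  have := key n le_rfl
  rwa [List.take_of_length_le (by simp), hp, inv_inv] at this

end CfsgLib.ConjFunctor
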